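import Mathlib.Tactic

/-!
# Minimal index in orthogonal groups: inequalities
-/

set_option autoImplicit false

namespace CfsgLib.KnownA.MinIndexOrth

variable {q u p c N : ℤ}

theorem arith_mul_le {a A B s : ℤ} (hs : 0 ≤ s) (hA : 0 ≤ A) (h6 : a ≤ 2 * A) (h7 : 2 * s ≤ B) :
    a * s ≤ A * B :=
  (mul_le_mul_of_nonneg_right h6 hs).trans
    (le_trans (le_of_eq (by ring)) (mul_le_mul_of_nonneg_left h7 hA))

theorem arith_char_large (hq : 5 ≤ q) (hp : 5 ≤ p) : 2 * (q ^ 3 + 1) ≤ p * (q - 1) ^ 3 := by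
  have h0 : 0 ≤ (q - 1) ^ 3 := pow_nonneg (by linarith) _
  have h1 := mul_le_mul_of_nonneg_right hp h0
  have h2 : 25 ≤ q * q := by nlinarith
  have h3 : 5 * (q * q) ≤ q * (q * q) := mul_le_mul_of_nonneg_right hq (by linarith)
  nlinarith

theorem arith_char_three (hq : 9 ≤ q) : 2 * (q ^ 3 + 1) ≤ 3 * (q - 1) ^ 3 := by
  have h3 : 9 * (q * q) ≤ q * (q * q) := mul_le_mul_of_nonneg_right hq (mul_self_nonneg q)
  nlinarith

theorem odd_clsk (hq : 5 ≤ q) (hpc : 2 * (q ^ 3 + 1) ≤ p * (q - 1) ^ 3) (hp : 0 ≤ p)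
    (hc : (q - 1) * ((q - 1) * (q * (u * u))) ≤ 2 * c)
    (hN : (q - 1) * N = q * (q * (q * q * (u * u))) - 1) : N ≤ p * c := by
  refine le_of_mul_le_mul_left ?_ (show 0 < 2 * (q - 1) by linarith)
  have h1 := mul_le_mul_of_nonneg_left hc (mul_nonneg hp (show (0 : ℤ) ≤ q - 1 by linarith))
  have hs : 0 ≤ q * (u * u) := mul_nonneg (by linarith) (mul_self_nonneg u)
  have h2 := mul_le_mul_of_nonneg_right hpc hs
  have e1 : 2 * (q - 1) * N = 2 * (q ^ 3 * (q * (u * u))) - 2 := by linear_combination (2 : ℤ) * hN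
  linarith

theorem odd_cls (hq : 5 ≤ q) (hc : (q - 1) * ((q - 1) * (q * (u * u))) ≤ 2 * c) :
    q * (q * q * (u * u)) - 1 ≤ q * c := by
  have h1 := mul_le_mul_of_nonneg_left hc (show (0 : ℤ) ≤ q by linarith)
  have h2 := mul_nonneg (show 0 ≤ (q - 1) * (q - 1) - 2 * q by nlinarith)
    (show 0 ≤ q * q * (u * u) from mul_nonneg (mul_self_nonneg q) (mul_self_nonneg u))
  linarith

theorem odd_pp (hq : 5 ≤ q) (hu : q ≤ u) :
    (q * (q * q * (u * u)) - 1) * (q * u) ≤ (q - 1) * ((q * q * (u * u) - 1) * (q * (u * u) - q)) := by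
  have h25 : 25 ≤ q * q := by nlinarith
  have hu25 : 25 ≤ u * u := by nlinarith
  have hX : 625 ≤ q * q * (u * u) := by nlinarith
  have h6 : q * (q * q * (u * u)) ≤ 2 * ((q - 1) * (q * q * (u * u) - 1)) := by
    nlinarith [mul_le_mul_of_nonneg_right (show 3 ≤ q - 2 by linarith) (show 0 ≤ q * q * (u * u) by linarith)]
  have h7 : 2 * u ≤ u * u - 1 := by nlinarith
  have h := mul_le_mul_of_nonneg_left
    (arith_mul_le (show 0 ≤ u by linarith) (mul_nonneg (by linarith) (by linarith)) h6 h7)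
    (show (0 : ℤ) ≤ q by linarith)
  have hqu : 0 ≤ q * u := mul_nonneg (by linarith) (by linarith)
  linarith

theorem odd_left (hq : 5 ≤ q) (hu : q * q ≤ u) :
    (q * (q * (q * q * (u * u))) - 1) * (q * u) ≤
      (q - 1) * ((q * q * (u * u) - 1) * (q * (u * u) - q)) := by
  have h25 : 25 ≤ q * q := by nlinarith
  have hu25 : 25 * 25 ≤ u * u := mul_le_mul (by linarith) (by linarith) (by norm_num) (by linarith)
  have hX : 625 ≤ q * q * (u * u) := by nlinarith
  have h6 : q * (q * (q * q * (u * u))) ≤ 2 * (q * q * (q * q * (u * u) - 1)) := by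
    nlinarith [mul_le_mul_of_nonneg_left hX (show (0 : ℤ) ≤ q * q by linarith)]
  have h7 : 2 * (q * q * u) ≤ (q - 1) * (u * u - 1) := by
    have e1 := mul_le_mul_of_nonneg_right hu (show (0 : ℤ) ≤ u by linarith)
    have e2 := mul_le_mul_of_nonneg_right (show 4 ≤ q - 1 by linarith) (show (0 : ℤ) ≤ u * u - 1 by linarith)
    linarith
  have e := arith_mul_le (show 0 ≤ q * q * u from mul_nonneg (by linarith) (by linarith))
    (show 0 ≤ q * q * (q * q * (u * u) - 1) from mul_nonneg (by linarith) (by linarith)) h6 h7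
  have h : q * (q * (q * q * (u * u))) * u ≤ (q - 1) * ((q * q * (u * u) - 1) * (u * u - 1)) := by
    refine le_of_mul_le_mul_left ?_ (show 0 < q * q by linarith)
    linarith
  have hqu : 0 ≤ q * u := mul_nonneg (by linarith) (by linarith)
  have := mul_le_mul_of_nonneg_left h (show (0 : ℤ) ≤ q by linarith)
  linarith

theorem odd_right (hq : 5 ≤ q) :
    (q * (q * (q * q * (q * q))) - 1) * (q * q) ≤
      2 * ((q - 1) * ((q * q * (q * q) - 1) * (q * (q * q) - q))) := by
  have h25 : 25 ≤ q * q := by nlinarith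
  have hX : 25 * (q * q) ≤ q * q * (q * q) := mul_le_mul_of_nonneg_right h25 (by linarith)
  have h1 : q * (q * q * (q * q) + q * q + 1) ≤ 2 * (q - 1) * (q * q * (q * q) - 1) := by
    have e1 : q * (2 * (q * q * (q * q) + q * q + 1)) ≤ q * (3 * (q * q * (q * q) - 1)) :=
      mul_le_mul_of_nonneg_left (by linarith) (by linarith)
    have e2 := mul_le_mul_of_nonneg_right (show 3 * q ≤ 4 * (q - 1) by linarith)
      (show (0 : ℤ) ≤ q * q * (q * q) - 1 by linarith)
    linarith
  have h := mul_le_mul_of_nonneg_left h1 (show 0 ≤ (q * q - 1) * q from mul_nonneg (by linarith) (by linarith))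
  linarith

theorem odd_right_cls (hq : 5 ≤ q) (hc : (q - 1) * ((q - 1) * (q * (q * q))) ≤ 2 * c) : q + 1 ≤ c := by
  have h25 : 25 ≤ q * q := by nlinarith
  have e1 : 16 ≤ (q - 1) * (q - 1) := by nlinarith
  have e2 := mul_le_mul e1 (show 25 * q ≤ q * (q * q) by nlinarith) (by linarith) (by linarith)
  linarith

theorem plus_clsk_two (hq : 4 ≤ q) (hu : q * q ≤ u)
    (hN : (q - 1) * N = (q * (q * u) - 1) * (q * u + 1))
    (hc : c = q * q * (u * u) - (q * (u * u) + (q - 1) * u)) : N ≤ 2 * c := by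
  refine le_of_mul_le_mul_left ?_ (show 0 < q - 1 by linarith)
  have h16 : 16 ≤ q * q := by nlinarith
  have hqu : q * (q * q) ≤ q * u := mul_le_mul_of_nonneg_left hu (by linarith)
  have hq2 : q * q + 2 ≤ 2 * ((q - 1) * (q - 1)) := by nlinarith
  have h4 : 4 * (q * q) ≤ q * (q * q) := mul_le_mul_of_nonneg_right hq (by linarith)
  have e1 := mul_le_mul_of_nonneg_right hq2 (show 0 ≤ q * u - 1 by linarith)
  have e2 : q * (q * (q * u)) + q * q ≤ 2 * ((q - 1) * (q - 1)) * (q * u - 1) := by linarith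
  have e3 := mul_le_mul_of_nonneg_right e2 (show 0 ≤ u by linarith)
  have e4 : 0 ≤ q * u := mul_nonneg (by linarith) (by linarith)
  rw [hN, hc]
  linarith

theorem plus_clsk (hq : 5 ≤ q) (hu : q * q ≤ u) (hpc : 2 * (q ^ 3 + 1) ≤ p * (q - 1) ^ 3) (hp : 0 ≤ p)
    (hc : (q - 1) * ((q - 1) * (u * u)) ≤ 2 * c)
    (hN : (q - 1) * N = (q * (q * u) - 1) * (q * u + 1)) : N ≤ p * c := by
  refine le_of_mul_le_mul_left ?_ (show 0 < 2 * (q - 1) by linarith)
  have h1 := mul_le_mul_of_nonneg_left hc (mul_nonneg hp (show (0 : ℤ) ≤ q - 1 by linarith))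
  have h2 := mul_le_mul_of_nonneg_right hpc (mul_self_nonneg u)
  have hu0 : 0 ≤ u := le_trans (mul_self_nonneg q) hu
  have h3 := mul_le_mul_of_nonneg_right hu hu0
  have e4 : 0 ≤ q * u := mul_nonneg (by linarith) hu0
  have e1 : 2 * (q - 1) * N = 2 * ((q * (q * u) - 1) * (q * u + 1)) := by linear_combination (2 : ℤ) * hN
  linarith

theorem plus_cls (hq : 4 ≤ q) (hu : q * q ≤ u) (hc : (q - 1) * ((q - 1) * (u * u)) ≤ 2 * c) :
    q * (q * (u * u) + (q - 1) * u) - 1 ≤ q * c := by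
  have h1 := mul_le_mul_of_nonneg_left hc (show (0 : ℤ) ≤ q by linarith)
  have hu0 : 0 ≤ u := le_trans (mul_self_nonneg q) hu
  have h2 := mul_le_mul_of_nonneg_right (show 1 ≤ (q - 1) * (q - 1) - 2 * q by nlinarith) hu0
  have h3 := mul_nonneg (show 0 ≤ ((q - 1) * (q - 1) - 2 * q) * u - 2 * (q - 1) by nlinarith)
    (show 0 ≤ q * u from mul_nonneg (by linarith) hu0)
  linarith

theorem plus_pp (hq : 4 ≤ q) (hu : q * q ≤ u) :
    (q * (q * (u * u) + (q - 1) * u) - 1) * (q * u) ≤
      (q - 1) * ((q * u - 1) * (u + 1) * ((u + q) * (u - 1))) := by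
  have h16 : 16 ≤ u := by nlinarith
  have hqu : 64 ≤ q * u := by nlinarith
  have hB : 0 ≤ (q * u - 1) * (u + 1) := mul_nonneg (by linarith) (by linarith)
  have h6 : q * (q * (u * u) + (q - 1) * u) ≤ 2 * (q * ((q * u - 1) * (u + 1))) := by
    have : 2 ≤ q * (u * u) + (q - 1) * u := by nlinarith
    nlinarith [mul_le_mul_of_nonneg_left this (show (0 : ℤ) ≤ q by linarith)]
  have h7 : 2 * (q * (q * u)) ≤ (q - 1) * ((u + q) * (u - 1)) := by
    have e1 := mul_le_mul_of_nonneg_right hu (show (0 : ℤ) ≤ u by linarith)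
    have e2 : u * u ≤ (u + q) * (u - 1) := by nlinarith
    have e3 := mul_le_mul (show (2 : ℤ) ≤ q - 1 by linarith) e2 (mul_self_nonneg u) (by linarith)
    linarith
  have e := arith_mul_le (show 0 ≤ q * (q * u) from mul_nonneg (by linarith) (by linarith))
    (mul_nonneg (show (0 : ℤ) ≤ q by linarith) hB) h6 h7
  have h : q * (q * (u * u) + (q - 1) * u) * (q * u) ≤
      (q - 1) * ((q * u - 1) * (u + 1) * ((u + q) * (u - 1))) := by
    refine le_of_mul_le_mul_left ?_ (show 0 < q by linarith)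
    linarith
  linarith

theorem plus_left (hq : 4 ≤ q) (hu : q * (q * q) ≤ u) :
    (q * (q * u) - 1) * (q * u + 1) * (q * u) ≤
      (q - 1) * ((q * u - 1) * (u + 1) * ((u + q) * (u - 1))) := by
  have h16 : 16 ≤ q * q := by nlinarith
  have h64 : 64 ≤ u := by nlinarith
  have hB : 0 ≤ (q * u - 1) * (u + 1) := mul_nonneg (by nlinarith) (by linarith)
  have hBu : q * (u * u) ≤ (q * u - 1) * (u + 1) := by nlinarith
  have h6 : (q * (q * u) - 1) * (q * u + 1) ≤ 2 * (q * q * ((q * u - 1) * (u + 1))) := by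
    have e1 := mul_le_mul_of_nonneg_left hBu (show (0 : ℤ) ≤ q * q by linarith)
    have e2 : q * (q * u) ≤ q * q * (q * (u * u)) := by nlinarith
    have e3 : 0 ≤ q * u := mul_nonneg (by linarith) (by linarith)
    linarith
  have h7 : 2 * (q * q * (q * u)) ≤ (q - 1) * ((u + q) * (u - 1)) := by
    have e1 := mul_le_mul_of_nonneg_right hu (show (0 : ℤ) ≤ u by linarith)
    have e2 : u * u ≤ (u + q) * (u - 1) := by nlinarith
    have e3 := mul_le_mul (show (2 : ℤ) ≤ q - 1 by linarith) e2 (mul_self_nonneg u) (by linarith)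
    linarith
  have e := arith_mul_le (show 0 ≤ q * q * (q * u) from mul_nonneg (by linarith) (by nlinarith))
    (mul_nonneg (show (0 : ℤ) ≤ q * q by linarith) hB) h6 h7
  refine le_of_mul_le_mul_left ?_ (show 0 < q * q by linarith)
  linarith

theorem plus_right (hq : 4 ≤ q) :
    (q * (q * (q * q)) - 1) * (q * (q * q) + 1) * (q * (q * q)) ≤
      2 * ((q - 1) * ((q * (q * q) - 1) * (q * q + 1) * ((q * q + q) * (q * q - 1)))) := by
  have h16 : 16 ≤ q * q := by nlinarith
  have h3 : 4 * (q * q) ≤ q * (q * q) := mul_le_mul_of_nonneg_right hq (by linarith)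
  have h1 : (q * (q * q) + 1) * (q * (q * q)) ≤ 2 * ((q - 1) * (q * q + q)) * (q * (q * q) - 1) := by
    have e2 : 14 * (q * q * (q * q)) ≤ q * q * (q * q) * (q * q - 2) + 0 := by nlinarith
    have e3 : q * (q * q) ≤ q * q * (q * q) := by nlinarith
    linarith
  have h := mul_le_mul_of_nonneg_left h1 (show 0 ≤ (q * q + 1) * (q * q - 1) from
    mul_nonneg (by linarith) (by linarith))
  linarith

theorem plus_right_cls (hq : 4 ≤ q) (hc : (q - 1) * ((q - 1) * (q * q * (q * q))) ≤ 2 * c) :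
    (q * q + 1) * (q + 1) ≤ c := by
  have h16 : 16 ≤ q * q := by nlinarith
  have h3 : 4 * (q * q) ≤ q * (q * q) := mul_le_mul_of_nonneg_right hq (by linarith)
  have h4 : 4 * (q * (q * q)) ≤ q * (q * (q * q)) := mul_le_mul_of_nonneg_right hq (by linarith)
  have h5 := mul_le_mul_of_nonneg_right (show 9 ≤ (q - 1) * (q - 1) by nlinarith)
    (show 0 ≤ q * q * (q * q) by nlinarith)
  have h6 : q ≤ q * q := le_mul_of_one_le_left (by linarith) (by linarith)
  linarith

theorem plus_right_sing (hq : 4 ≤ q) :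
    (q * q + 1) * (q + 1) ≤ (q * (q * q) - 1) * (q * q + 1) := by
  have h16 : 16 ≤ q * q := by nlinarith
  have h3 : 4 * (q * q) ≤ q * (q * q) := mul_le_mul_of_nonneg_right hq (by linarith)
  rw [mul_comm (q * (q * q) - 1)]
  exact mul_le_mul_of_nonneg_left (by nlinarith) (by linarith)

theorem minus_clsk_two (hq : 4 ≤ q) (hu : q * q ≤ u)
    (hN : (q - 1) * N = (q * (q * u) + 1) * (q * u - 1))
    (hc : c = q * q * (u * u) - (q * (u * u) - (q - 1) * u)) : N ≤ 2 * c := by
  refine le_of_mul_le_mul_left ?_ (show 0 < q - 1 by linarith)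
  have hu0 : 0 ≤ u := le_trans (mul_self_nonneg q) hu
  have e1 := mul_le_mul_of_nonneg_right (show q * q ≤ 2 * ((q - 1) * (q - 1)) by nlinarith)
    (show 0 ≤ q * (u * u) from mul_nonneg (by linarith) (mul_self_nonneg u))
  have e2 : 0 ≤ (q - 1) * ((q - 1) * u) := mul_nonneg (by linarith) (mul_nonneg (by linarith) hu0)
  have e3 : q * u ≤ q * (q * u) := le_mul_of_one_le_left (mul_nonneg (by linarith) hu0) (by linarith)
  rw [hN, hc]
  linarith

theorem minus_clsk (hq : 5 ≤ q) (hu : 0 ≤ u) (hpc : 2 * (q ^ 3 + 1) ≤ p * (q - 1) ^ 3) (hp : 0 ≤ p)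
    (hc : (q - 1) * ((q - 1) * (u * u)) ≤ 2 * c)
    (hN : (q - 1) * N = (q * (q * u) + 1) * (q * u - 1)) : N ≤ p * c := by
  refine le_of_mul_le_mul_left ?_ (show 0 < 2 * (q - 1) by linarith)
  have h1 := mul_le_mul_of_nonneg_left hc (mul_nonneg hp (show (0 : ℤ) ≤ q - 1 by linarith))
  have h2 := mul_le_mul_of_nonneg_right hpc (mul_self_nonneg u)
  have e3 : q * u ≤ q * (q * u) := le_mul_of_one_le_left (mul_nonneg (by linarith) hu) (by linarith)
  have e4 : 0 ≤ u * u := mul_self_nonneg u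
  have e1 : 2 * (q - 1) * N = 2 * ((q * (q * u) + 1) * (q * u - 1)) := by linear_combination (2 : ℤ) * hN
  linarith

theorem minus_cls (hq : 4 ≤ q) (hu : 0 ≤ u) (hc : (q - 1) * ((q - 1) * (u * u)) ≤ 2 * c) :
    q * (q * (u * u) - (q - 1) * u) - 1 ≤ q * c := by
  have h1 := mul_le_mul_of_nonneg_left hc (show (0 : ℤ) ≤ q by linarith)
  have h2 := mul_nonneg (show 0 ≤ (q - 1) * (q - 1) - 2 * q by nlinarith)
    (show 0 ≤ q * (u * u) from mul_nonneg (by linarith) (mul_self_nonneg u))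
  have e2 : 0 ≤ q * ((q - 1) * u) := mul_nonneg (by linarith) (mul_nonneg (by linarith) hu)
  linarith

theorem minus_pp (hq : 4 ≤ q) (hu : q * q ≤ u) :
    (q * (q * (u * u) - (q - 1) * u) - 1) * u ≤
      (q - 1) * ((q * u + 1) * (u - 1) * ((u - q) * (u + 1))) := by
  have h16 : 16 ≤ u := by nlinarith
  have h4u : 4 * q ≤ u := by nlinarith
  have hB : 0 ≤ (q * u + 1) * (u - 1) := mul_nonneg (by nlinarith) (by linarith)
  have h6 : q * (q * (u * u) - (q - 1) * u) ≤ 2 * (q * ((q * u + 1) * (u - 1))) := by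
    have : 2 ≤ q * (u * u) - (q - 1) * u := by
      have e1 : 16 * (q * u) ≤ u * (q * u) := mul_le_mul_of_nonneg_right h16 (mul_nonneg (by linarith) (by linarith))
      have e2 : 64 ≤ q * u := by nlinarith
      linarith
    nlinarith [mul_le_mul_of_nonneg_left this (show (0 : ℤ) ≤ q by linarith)]
  have h7 : 2 * (q * u) ≤ (q - 1) * ((u - q) * (u + 1)) := by
    have e1 := mul_le_mul (show 3 * q ≤ u - q by linarith) (show u ≤ u + 1 by linarith) (by linarith) (by linarith)
    have e2 := mul_le_mul_of_nonneg_right (show 3 ≤ q - 1 by linarith)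
      (show 0 ≤ (u - q) * (u + 1) from mul_nonneg (by linarith) (by linarith))
    have e3 : 0 ≤ q * u := mul_nonneg (by linarith) (by linarith)
    linarith
  have e := arith_mul_le (show 0 ≤ q * u from mul_nonneg (by linarith) (by linarith))
    (mul_nonneg (show (0 : ℤ) ≤ q by linarith) hB) h6 h7
  have h : q * (q * (u * u) - (q - 1) * u) * u ≤
      (q - 1) * ((q * u + 1) * (u - 1) * ((u - q) * (u + 1))) := by
    refine le_of_mul_le_mul_left ?_ (show 0 < q by linarith)
    linarith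
  linarith

theorem minus_left (hq : 4 ≤ q) (hu : q * q ≤ u) :
    (q * (q * u) + 1) * (q * u - 1) * u ≤
      (q - 1) * ((q * u + 1) * (u - 1) * ((u - q) * (u + 1))) := by
  have h16 : 16 ≤ q * q := by nlinarith
  have h4u : 4 * q ≤ u := by nlinarith
  have hB : 0 ≤ (q * u + 1) * (u - 1) := mul_nonneg (by nlinarith) (by linarith)
  have h6 : (q * (q * u) + 1) * (q * u - 1) ≤ 2 * (q * q * ((q * u + 1) * (u - 1))) := by
    have e1 : 16 * (q * u) ≤ u * (q * u) := mul_le_mul_of_nonneg_right (by linarith) (mul_nonneg (by linarith) (by linarith))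
    have e2 : 64 ≤ q * u := by nlinarith
    have hBu : q * (u * u) ≤ 2 * ((q * u + 1) * (u - 1)) := by linarith
    have e4 := mul_le_mul_of_nonneg_left hBu (show (0 : ℤ) ≤ q * q by linarith)
    have e3 : q * u ≤ q * (q * u) := le_mul_of_one_le_left (by linarith) (by linarith)
    linarith
  have h7 : 2 * (q * q * u) ≤ (q - 1) * ((u - q) * (u + 1)) := by
    have e0 := mul_le_mul (show 3 ≤ q - 1 by linarith) (show 3 * u ≤ 4 * (u - q) by linarith) (by linarith) (by linarith)
    have e1 := mul_le_mul (show 2 * (q * q) ≤ (q - 1) * (u - q) by linarith) (show u ≤ u + 1 by linarith)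
      (by linarith) (mul_nonneg (by linarith) (by linarith))
    linarith
  have e := arith_mul_le (show 0 ≤ q * q * u from mul_nonneg (by linarith) (by linarith))
    (mul_nonneg (show (0 : ℤ) ≤ q * q by linarith) hB) h6 h7
  refine le_of_mul_le_mul_left ?_ (show 0 < q * q by linarith)
  linarith

end CfsgLib.KnownA.MinIndexOrth
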