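import Cfsg.Agent.Lib.Classical.OrthSimple
import Cfsg.Agent.Lib.Classical.OrthApps
import Cfsg.Agent.Lib.Classical.OrthCount
import Cfsg.Agent.Lib.Orth.Stab

/-!
# Minimal index in orthogonal groups: the radical of a point stabiliser

The ambient space is `W × (F × F)` with the form `plusPlane R`; `x u` is the Siegel
transformation at the singular vector `ee` with parameter `u`.
-/

set_option autoImplicit false
set_option linter.unusedSectionVars false

open Module QuadraticMap CfsgLib.Orth CfsgLib.Classical

namespace CfsgLib.KnownA.MinIndexOrth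

variable {F W : Type*} [Field F] [AddCommGroup W] [Module F W]

/-- The standing hypotheses: a non-degenerate form in dimension at least five over a finite field. -/
structure Setup [Fintype F] [FiniteDimensional F W] (R : QuadraticForm F W) : Prop where
  nd : (QuadraticMap.polarBilin R).Nondegenerate
  five : 5 ≤ finrank F W

/-- The first singular vector of the added plane. -/
def ee : W × (F × F) := (0, (1, 0))

/-- The second singular vector of the added plane. -/
def ff : W × (F × F) := (0, (0, 1))

/-- The inclusion of `W`. -/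
def iw : W →ₗ[F] W × (F × F) := LinearMap.inl F W (F × F)

theorem iw_apply (u : W) : (iw u : W × (F × F)) = (u, (0, 0)) := rfl

theorem split (v : W × (F × F)) : v = iw v.1 + v.2.1 • ee + v.2.2 • ff := by
  simp [iw, ee, ff]

variable [FiniteDimensional F W] (R : QuadraticForm F W)

theorem q_ee : plusPlane R (ee : W × (F × F)) = 0 := by simp [plusPlane_apply, ee]

theorem q_ff : plusPlane R (ff : W × (F × F)) = 0 := by simp [plusPlane_apply, ff]

theorem q_iw (u : W) : plusPlane R (iw u) = R u := by simp [plusPlane_apply, iw]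

theorem b_ee_iw (u : W) : polar (plusPlane R) ee (iw u) = 0 := by simp [plusPlane_polar, iw, ee]

theorem b_ff_iw (u : W) : polar (plusPlane R) ff (iw u) = 0 := by simp [plusPlane_polar, iw, ff]

theorem b_iw (u v : W) : polar (plusPlane R) (iw u) (iw v) = polar R u v := by
  simp [plusPlane_polar, iw]

/-- An isometry of `W` extended by the identity of the plane. -/
noncomputable def emb : orthGroup R →* orthGroup (plusPlane R) where
  toFun g := ⟨g.1.prodCongr (LinearEquiv.refl F (F × F)), fun v => by
    show plusPlane R (g.1 v.1, v.2) = _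
    rw [plusPlane_apply, plusPlane_apply, apply_quad]⟩
  map_one' := Subtype.ext (LinearEquiv.ext fun v => rfl)
  map_mul' g h := Subtype.ext (LinearEquiv.ext fun v => rfl)

theorem emb_apply (g : orthGroup R) (v : W × (F × F)) : (emb R g).1 v = (g.1 v.1, v.2) := rfl

theorem emb_mem {g : orthGroup R} (hg : g ∈ commutator (orthGroup R)) :
    emb R g ∈ commutator (orthGroup (plusPlane R)) := by
  have h : (commutator (orthGroup R)).map (emb R) ≤ commutator (orthGroup (plusPlane R)) := by
    rw [commutator_def, commutator_def, Subgroup.map_commutator]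
    exact Subgroup.commutator_mono le_top le_top
  exact h ⟨g, hg, rfl⟩

/-- The group acted with. -/
abbrev Om := ↥(commutator (orthGroup (plusPlane R)))

/-- The extension of an element of `Ω(R)`. -/
noncomputable def embG : ↥(commutator (orthGroup R)) →* Om R where
  toFun g := ⟨emb R g.1, emb_mem R g.2⟩
  map_one' := Subtype.ext (map_one _)
  map_mul' g h := Subtype.ext (map_mul _ _ _)

variable [Fintype F] {R} (S : Setup R)

include S

theorem Setup.good : Good F W := Or.inr (by have := S.five; omega)

theorem Setup.hypW : Nonempty (HypPairs R) := exists_hypPairs S.nd S.five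

theorem Setup.five' : 5 ≤ finrank F (W × (F × F)) := by
  have := S.five
  rw [Module.finrank_prod]
  omega

theorem Setup.ndV : (QuadraticMap.polarBilin (plusPlane R)).Nondegenerate := plusPlane_nondeg S.nd

theorem Setup.goodV : Good F (W × (F × F)) := Or.inr (by have := S.five'; omega)

theorem Setup.hypV : Nonempty (HypPairs (plusPlane R)) := exists_hypPairs S.ndV S.five'

/-- Every Siegel transformation lies in `Ω`. -/
theorem Setup.siegel_mem {g : orthGroup (plusPlane R)} {d u : W × (F × F)} (h : IsSiegel g d u) :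
    g ∈ commutator (orthGroup (plusPlane R)) :=
  h.mem_commutator S.ndV S.goodV S.hypV.some S.five'

/-- A Siegel transformation as an element of `Ω`. -/
noncomputable def Setup.sgl (d u : W × (F × F)) (hd : plusPlane R d = 0)
    (hdu : polar (plusPlane R) d u = 0) : Om R :=
  ⟨(exists_isSiegel S.ndV hd hdu).choose, S.siegel_mem (exists_isSiegel S.ndV hd hdu).choose_spec⟩

theorem Setup.sgl_spec (d u : W × (F × F)) (hd : plusPlane R d = 0)
    (hdu : polar (plusPlane R) d u = 0) : IsSiegel (S.sgl d u hd hdu).1 d u :=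
  (exists_isSiegel S.ndV hd hdu).choose_spec

/-- The element of the radical with parameter `u`. -/
noncomputable def Setup.x (u : W) : Om R := S.sgl ee (iw u) (q_ee R) (b_ee_iw R u)

theorem Setup.x_spec (u : W) : IsSiegel (S.x u).1 ee (iw u) := S.sgl_spec _ _ _ _

theorem Setup.x_zero : S.x 0 = 1 := by
  refine Subtype.ext (IsSiegel.unique (S.x_spec 0) ?_)
  rw [map_zero]
  exact isSiegel_one (q_ee R)

theorem Setup.x_add (u v : W) : S.x (u + v) = S.x u * S.x v := by
  refine Subtype.ext (IsSiegel.unique (S.x_spec _) ?_)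
  rw [map_add]
  exact (S.x_spec u).mul (S.x_spec v)

theorem Setup.x_pow (u : W) (n : ℕ) : S.x u ^ n = S.x (n • u) := by
  induction n with
  | zero => rw [pow_zero, zero_smul, S.x_zero]
  | succ n ih => rw [pow_succ, ih, succ_nsmul, S.x_add]

/-- A parameter of a Siegel transformation at `ee` only matters modulo `ee`. -/
theorem Setup.x_of_siegel {g : Om R} {u : W × (F × F)} (h : IsSiegel g.1 ee u) : g = S.x u.1 := by
  have hu := h.2.1
  have h2 : u.2.2 = 0 := by simpa [plusPlane_polar, ee] using hu
  have hu' : u = iw u.1 + u.2.1 • ee := by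
    conv_lhs => rw [split u]
    rw [h2, zero_smul, add_zero]
  refine Subtype.ext (h.unique ?_)
  rw [hu']
  have h1 : IsSiegel ((S.x u.1).1 * 1) ee (iw u.1 + u.2.1 • ee) :=
    (S.x_spec u.1).mul (isSiegel_one_smul (q_ee R) _)
  rw [mul_one] at h1
  simpa [iw, ee] using h1

/-- `n` acts on the radical by `u ↦ α σ u`. -/
def Setup.Moves (n : Om R) (α : F) (σ : orthGroup R) : Prop :=
  ∀ u, n * S.x u * n⁻¹ = S.x (α • σ.1 u)

theorem Setup.moves_of {n : Om R} {α : F} (hα : α ≠ 0) {σ : orthGroup R}
    (h1 : n.1.1 ee = α • ee) (h2 : ∀ u, n.1.1 (iw u) = iw (σ.1 u)) : S.Moves n α σ := by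
  intro u
  refine Subtype.ext ?_
  have h := (S.x_spec u).conj n.1
  rw [h1, h2] at h
  have h' := h.of_smul hα
  rw [← map_smul] at h'
  exact h'.unique (S.x_spec _)

theorem Setup.moves_emb (g : ↥(commutator (orthGroup R))) : S.Moves (embG R g) 1 g.1 :=
  S.moves_of one_ne_zero (by rw [one_smul]; show (emb R g.1).1 ee = _; simp [emb_apply, ee])
    (fun u => by show (emb R g.1).1 (iw u) = _; simp [emb_apply, iw])

theorem Setup.moves_mul {n n' : Om R} {α α' : F} {σ σ' : orthGroup R} (h : S.Moves n α σ)
    (h' : S.Moves n' α' σ') : S.Moves (n * n') (α * α') (σ * σ') := by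
  intro u
  calc n * n' * S.x u * (n * n')⁻¹ = n * (n' * S.x u * n'⁻¹) * n⁻¹ := by group
    _ = n * S.x (α' • σ'.1 u) * n⁻¹ := by rw [h' u]
    _ = S.x (α • σ.1 (α' • σ'.1 u)) := h _
    _ = _ := by rw [map_smul, smul_smul]; rfl

/-- The Siegel transformation of `Ω(R)` extended. -/
theorem Setup.embG_siegel {g : ↥(commutator (orthGroup R))} {d u : W} (h : IsSiegel g.1 d u) :
    IsSiegel (embG R g).1 (iw d) (iw u) := by
  refine ⟨by rw [q_iw]; exact h.1, by rw [b_iw]; exact h.2.1, fun v => ?_⟩
  show (emb R g.1).1 v = _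
  rw [emb_apply, h.2.2, q_iw]
  simp [iw, plusPlane_polar, Prod.ext_iff]

/-- Siegel transformations generate. -/
theorem Setup.eq_top_of_siegel {H : Subgroup (Om R)}
    (h : ∀ (g : Om R) (d u : W × (F × F)), IsSiegel g.1 d u → g ∈ H) : H = ⊤ := by
  refine eq_top_iff.2 fun g _ => ?_
  have hle : siegelGroup (plusPlane R) ≤ H.map (commutator (orthGroup (plusPlane R))).subtype := by
    refine (Subgroup.closure_le _).2 ?_
    rintro k ⟨d, u, hk⟩
    exact ⟨⟨k, S.siegel_mem hk⟩, h _ d u hk, rfl⟩
  rw [← commutator_eq_siegelGroup S.ndV S.goodV S.hypV.some S.five'] at hle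
  obtain ⟨k, hk, hkg⟩ := hle g.2
  rwa [← Subtype.ext hkg]

end CfsgLib.KnownA.MinIndexOrth
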