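import Cfsg.Agent.Lib.KnownA.MinIndexOrth.MaxCase
import Cfsg.Agent.Lib.Classical.OrthPOmega

/-!
# Minimal index in orthogonal groups: from subgroups to actions
-/

set_option autoImplicit false
set_option linter.unusedSectionVars false

open Module QuadraticMap MulAction CfsgLib.Orth CfsgLib.Classical

namespace CfsgLib.KnownA.MinIndexOrth

variable {F W : Type*} [Field F] [Fintype F] [AddCommGroup W] [Module F W] [FiniteDimensional F W]
  [Fintype W] [DecidableEq W] {R : QuadraticForm F W}

/-- Proper subgroups of `Ω` have index at least the number of points. -/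
theorem Setup.index_ge (S : Setup R) {p P N t : ℕ} [Fact p.Prime] [CharP F p] (H : Num R p P N t)
    (K : Subgroup (Om R)) (hK : K ≠ ⊤) : N ≤ K.index := by
  classical
  by_contra! hlt
  have : Finite (Om R) := inferInstance
  have := Fintype.ofFinite (Om R ⧸ K)
  obtain ⟨χ, hχ⟩ := AddChar.exists_apply_ne_zero.2 (one_ne_zero : (1 : F) ≠ 0)
  let A : Act R (Om R ⧸ K) :=
    { S := S
      π := MulAction.toPermHom _ _
      χ := χ
      hχ := hχ
      trans := fun a b => MulAction.exists_smul_eq (Om R) a b
      two := by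
        obtain ⟨g, hg⟩ : ∃ g, g ∉ K := by
          by_contra! h
          exact hK (eq_top_iff.2 fun g _ => h g)
        exact ⟨(g : Om R ⧸ K), ((1 : Om R) : Om R ⧸ K), fun e => hg (by
          simpa using K.inv_mem (QuotientGroup.eq.1 e))⟩ }
  refine A.false_of_small H ?_
  rwa [← Nat.card_eq_fintype_card]

/-- Central elements fix the first added singular vector up to a scalar. -/
theorem Setup.center_ee (S : Setup R) {z : Om R} (hz : z ∈ Subgroup.center (Om R)) :
    ∃ c : F, z.1.1 ee = c • ee := by
  set v := z.1.1 ee with hv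
  refine ⟨v.2.1, ?_⟩
  have hfix : ∀ u, (S.x u).1.1 v = v := fun u => by
    have h1 : (S.x u).1.1 (ee : W × (F × F)) = ee := by
      rw [(S.x_spec u).2.2, polar_self', q_ee, polar_comm _ (iw u), b_ee_iw]
      simp
    have h2 := congrArg (fun g : Om R => g.1.1 (ee : W × (F × F))) (Subgroup.mem_center_iff.1 hz (S.x u))
    change (S.x u).1.1 (z.1.1 ee) = z.1.1 ((S.x u).1.1 ee) at h2
    rwa [h1] at h2
  have key : ∀ u, v.2.2 • u = 0 ∧ -polar R u v.1 - R u * v.2.2 = 0 := fun u => by
    have h := hfix u
    rw [(S.x_spec u).2.2, add_assoc, add_eq_left] at h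
    simp [plusPlane_polar, plusPlane_apply, iw, ee, Prod.ext_iff] at h
    refine ⟨?_, h.2⟩
    rcases h.1 with h | h <;> simp [h]
  obtain ⟨hp⟩ := S.hypW
  have h2 : v.2.2 = 0 := by
    rcases smul_eq_zero.1 (key hp.e₀).1 with h | h
    · exact h
    · exact absurd h hp.e₀_ne_zero
  have h1 : v.1 = 0 := S.nd.1 v.1 fun u => by
    have := (key u).2
    rw [h2, mul_zero, sub_zero, neg_eq_zero, polar_comm] at this
    exact this
  refine Prod.ext ?_ (Prod.ext ?_ ?_) <;> simp [ee, h1, h2]

/-- A subgroup of index the number of singular points, containing the centre. -/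
theorem Setup.exists_index (S : Setup R) : ∃ K : Subgroup (Om R),
    Subgroup.center (Om R) ≤ K ∧ K.index = Nat.card (SingPts (plusPlane R)) := by
  have := singPts_pretransitive S.ndV S.goodV S.hypV.some S.five'
  have hee : (ee : W × (F × F)) ≠ 0 := by simp [ee]
  set p := singPt (plusPlane R) hee (q_ee R)
  refine ⟨MulAction.stabilizer (Om R) p, fun z hz => ?_, ?_⟩
  · obtain ⟨c, hc⟩ := S.center_ee hz
    exact MulAction.mem_stabilizer_iff.2 (smul_singPt_eq z.1 hee (q_ee R) hee (q_ee R) hc)
  · rw [MulAction.index_stabilizer, MulAction.orbit_eq_univ, Set.ncard_univ]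

section Model

variable {ι : Type} [Fintype ι] [DecidableEq ι] {Qf : (ι → F) → F} (Q : QuadraticForm F (ι → F))
  (hQf : ∀ v, Qf v = Q v) (e : (ι → F) ≃ₗ[F] W × (F × F)) (he : ∀ v, plusPlane R (e v) = Q v)

include hQf e he in
theorem omega_model : Nonempty (↥(Cfsg.Omega F Qf) ≃* Om R) := by
  let φ := orthGroupCongr e he
  have h : (commutator (orthGroup Q)).map φ.toMonoidHom = commutator (orthGroup (plusPlane R)) := by
    rw [commutator_def, Subgroup.map_commutator, Subgroup.map_top_of_surjective _ φ.surjective, commutator_def]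
  exact ⟨(omegaEquiv Q hQf).trans ((φ.subgroupMap _).trans (MulEquiv.subgroupCongr h))⟩

include hQf e he in
/-- The bound and its attainment in `PΩ`. -/
theorem pomega_min_index (hR : (QuadraticMap.polarBilin R).Nondegenerate) (h5 : 5 ≤ finrank F W)
    {p P N t : ℕ} [Fact p.Prime] [CharP F p] (H : Num R p P N t) :
    (∀ K : Subgroup (Cfsg.POmega F Qf), K ≠ ⊤ → N ≤ K.index) ∧
      ∃ K : Subgroup (Cfsg.POmega F Qf), K.index = N := by
  obtain ⟨Φ⟩ := omega_model Q hQf e he
  have S : Setup R := ⟨hR, h5⟩
  let π : Om R →* Cfsg.POmega F Qf := (QuotientGroup.mk' _).comp Φ.symm.toMonoidHom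
  have hπ : Function.Surjective π := (QuotientGroup.mk'_surjective _).comp Φ.symm.surjective
  constructor
  · intro K hK
    rw [← Subgroup.index_comap_of_surjective K hπ]
    exact S.index_ge H _ fun h => hK (Subgroup.comap_injective hπ (by rw [h, Subgroup.comap_top]))
  · obtain ⟨K, hZ, hK⟩ := S.exists_index
    refine ⟨K.map π, ?_⟩
    rw [Subgroup.index_map_eq K hπ (fun x hx => hZ ?_), hK, H.hpts]
    have hx' : Φ.symm x ∈ Subgroup.center ↥(Cfsg.Omega F Qf) := (QuotientGroup.eq_one_iff _).1 hx
    refine Subgroup.mem_center_iff.2 fun g => Φ.symm.injective ?_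
    rw [map_mul, map_mul]
    exact Subgroup.mem_center_iff.1 hx' _

end Model

end CfsgLib.KnownA.MinIndexOrth
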