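import Cfsg.Agent.Lib.KnownA.MinIndexOrth.Orbits

/-!
# Minimal index in orthogonal groups: annihilators containing a non-singular vector
-/

set_option autoImplicit false
set_option linter.unusedSectionVars false

open Module QuadraticMap CfsgLib.Orth CfsgLib.Classical Finset

namespace CfsgLib.KnownA.MinIndexOrth

variable {F W : Type*} [Field F] [Fintype F] [AddCommGroup W] [Module F W] [FiniteDimensional F W]
  {R : QuadraticForm F W}

namespace Setup

variable (S : Setup R)
include S

/-- Powers of a Siegel transformation. -/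
theorem siegel_pow {g : orthGroup R} {d c : W} (h : IsSiegel g d c) : ∀ n : ℕ, IsSiegel (g ^ n) d (n • c)
  | 0 => by rw [pow_zero, zero_smul]; exact isSiegel_one h.1
  | n + 1 => by rw [pow_succ, succ_nsmul]; exact (siegel_pow h n).mul h

/-- A Siegel transformation of `W` as an element of `Ω(R)`. -/
theorem exists_sgl {d c : W} (hd : R d = 0) (hdc : polar R d c = 0) :
    ∃ g : ↥(commutator (orthGroup R)), IsSiegel g.1 d c := by
  obtain ⟨g, hg⟩ := exists_isSiegel S.nd hd hdc
  obtain ⟨hp⟩ := S.hypW
  exact ⟨⟨g, hg.mem_commutator S.nd S.good hp S.five⟩, hg⟩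

/-- The orthogonal of a singular and another vector is not degenerate modulo their span. -/
theorem exists_nondeg_perp (a u : W) :
    ∃ c c', polar R a c = 0 ∧ polar R u c = 0 ∧ polar R a c' = 0 ∧ polar R u c' = 0 ∧ polar R c c' = 1 := by
  classical
  set T := Submodule.span F ({a, u} : Set W)
  have hT : finrank F T ≤ 2 := by
    have h := finrank_span_finset_le_card (R := F) ({a, u} : Finset W)
    rw [Finset.coe_pair, Set.finrank] at h
    exact h.trans Finset.card_le_two
  have hdim : finrank F W - 2 ≤ finrank F (LinearMap.BilinForm.orthogonal (QuadraticMap.polarBilin R) T) := by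
    rw [LinearMap.BilinForm.finrank_orthogonal S.nd]
    omega
  obtain ⟨c, hc, hcT⟩ : ∃ c ∈ LinearMap.BilinForm.orthogonal (QuadraticMap.polarBilin R) T, c ∉ T := by
    by_contra! hall
    have := Submodule.finrank_mono (s := LinearMap.BilinForm.orthogonal (QuadraticMap.polarBilin R) T) (t := T) hall
    have := S.five
    omega
  obtain ⟨c', hc', h1⟩ := exists_polar_one S.nd hcT
  refine ⟨c, c', hc a (Submodule.subset_span (by simp)), hc u (Submodule.subset_span (by simp)), ?_, ?_, ?_⟩
  · rw [polar_comm]; exact hc' a (Submodule.subset_span (by simp))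
  · rw [polar_comm]; exact hc' u (Submodule.subset_span (by simp))
  · rw [polar_comm]; exact h1

/-- The orthogonal of a non-singular vector is spanned by singular vectors. -/
theorem exists_pair_perp {u : W} (hu : R u ≠ 0) :
    ∃ a b : W, R a = 0 ∧ R b = 0 ∧ polar R a b = 1 ∧ polar R u a = 0 ∧ polar R u b = 0 := by
  obtain ⟨hp⟩ := S.hypW
  obtain ⟨g, -, hg⟩ := exists_sphere_move S.nd S.good S.five hp (a := hp.e₀ + R u • hp.f₀) (b := u)
    (by rw [quad_add', quad_smul', polar_smul_r', hp.he₀, hp.hf₀, hp.h00]; simpa using hu)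
    (by rw [quad_add', quad_smul', polar_smul_r', hp.he₀, hp.hf₀, hp.h00]; ring)
  refine ⟨g.1 hp.e₁, g.1 hp.f₁, (apply_quad g _).trans hp.he₁, (apply_quad g _).trans hp.hf₁,
    (polar_isom g _ _).trans hp.h11, ?_, ?_⟩ <;>
  · rw [← hg, polar_isom, polar_add_left, polar_smul_l']
    simp [hp.hee, hp.hef, hp.hfe, hp.hff]

/-- The witness used to compare fixed points. -/
theorem exists_witness {u : W} (hu : u ≠ 0) :
    ∃ a c : W, R a = 0 ∧ polar R a c = 0 ∧ R c ≠ 0 ∧ polar R u c = 0 ∧ polar R u a ≠ 0 := by
  obtain ⟨hp⟩ := S.hypW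
  have hc : R (hp.e₁ + hp.f₁) ≠ 0 := by
    rw [quad_add', hp.he₁, hp.hf₁, hp.h11]; simp
  by_cases hR : R u = 0
  · obtain ⟨g, -, hg⟩ := exists_sing_move S.nd S.good S.five hp hp.he₀ hp.e₀_ne_zero hR hu
    refine ⟨g.1 hp.f₀, g.1 (hp.e₁ + hp.f₁), (apply_quad g _).trans hp.hf₀, ?_,
      by rwa [apply_quad], ?_, ?_⟩
    · rw [polar_isom, polar_add_right, hp.hfe, hp.hff, add_zero]
    · rw [← hg, polar_isom, polar_add_right, hp.hee, hp.hef, add_zero]
    · rw [← hg, polar_isom, hp.h00]; exact one_ne_zero
  · obtain ⟨g, -, hg⟩ := exists_sphere_move S.nd S.good S.five hp (a := hp.e₀ + R u • hp.f₀) (b := u)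
      (by rw [quad_add', quad_smul', polar_smul_r', hp.he₀, hp.hf₀, hp.h00]; simpa using hR)
      (by rw [quad_add', quad_smul', polar_smul_r', hp.he₀, hp.hf₀, hp.h00]; ring)
    refine ⟨g.1 hp.e₀, g.1 (hp.e₁ + hp.f₁), (apply_quad g _).trans hp.he₀, ?_,
      by rwa [apply_quad], ?_, ?_⟩
    · rw [polar_isom, polar_add_right, hp.hee, hp.hef, add_zero]
    · rw [← hg, polar_isom, polar_add_right, polar_add_left, polar_add_left, polar_smul_l', polar_smul_l',
        hp.hee, hp.hef, hp.hfe, hp.hff]
      ring
    · rw [← hg, polar_isom, polar_add_left, polar_smul_l', polar_self', hp.he₀, hp.c00]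
      simpa using hR

end Setup

variable [Fintype W] [DecidableEq W] {Ω : Type*} [Fintype Ω] [DecidableEq Ω]

namespace Act

variable (A : Act R Ω)

/-- An annihilator containing a non-singular vector lying in few orbits is everything or lies in a line. -/
theorem dichotomy {p : ℕ} [Fact p.Prime] [CharP F p] {ω : Ω} {u : W} (hu : R u ≠ 0) (huU : u ∈ A.ann ω)
    (hk : (A.above u).card < p) :
    (∀ w, w ∈ A.ann ω → ∃ t : F, w = t • u) ∨
      (∀ w, polar R u w = 0 → w ∈ A.ann ω) := by
  refine or_iff_not_imp_left.2 fun hout => ?_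
  push Not at hout
  obtain ⟨w, hw, hwu⟩ := hout
  set U := A.ann ω
  have hinv : ∀ d c : W, R d = 0 → polar R d c = 0 → polar R u d = 0 → polar R u c = 0 →
      ∀ y ∈ U, polar R d y • c + (-(polar R c y) - R c * polar R d y) • d ∈ U := by
    intro d c hd hdc hud huc y hy
    obtain ⟨g, hg⟩ := A.S.exists_sgl hd hdc
    have hgu : g.1.1 u = u := by
      rw [hg.2.2, polar_comm _ d u, hud, polar_comm _ c u, huc]; simp
    have hn := A.S.moves_emb g
    have hpow : embG R g ^ p = 1 := by
      rw [← map_pow]
      have : g ^ p = 1 := by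
        refine Subtype.ext ((A.S.siegel_pow hg p).unique ?_)
        rw [← Nat.cast_smul_eq_nsmul F, CharP.cast_eq_zero, zero_smul]
        exact isSiegel_one hd
      rw [this, map_one]
    have hO := A.fix_small_family (p := p) Fact.out hpow (T := A.above u) (fun O hO => by
      have := A.above_moves hn one_ne_zero hO
      rwa [inv_one, one_smul, hgu] at this) hk (A.mem_above.2 huU)
    have hy' := (A.ann_moves hn one_ne_zero).1 hy
    rw [inv_one, one_smul, hg.2.2] at hy'
    have hmem : A.π (embG R g) ω ∈ A.orb ω := hO ▸ mem_image_of_mem _ (A.self_mem ω)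
    rw [A.ann_eq hmem, add_assoc] at hy'
    have := A.ann_add hy' (A.ann_neg hy)
    rwa [add_neg_cancel_comm] at this
  -- the singular vectors orthogonal to `u` which are not orthogonal to an element give whole lines
  have step : ∀ a, R a = 0 → polar R u a = 0 → ∀ y ∈ U, polar R a y ≠ 0 → ∀ t : F, t • a ∈ U := by
    intro a ha hua y hy hay t
    obtain ⟨c, c', h1, h2, h3, h4, h5⟩ := A.S.exists_nondeg_perp a u
    set r := -t / polar R a y
    have e1 := hinv a (r • c) ha (by rw [polar_smul_r', h1, mul_zero]) hua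
      (by rw [polar_smul_r', h2, mul_zero]) y hy
    have e2 := hinv a c' ha h3 hua h4 y hy
    have e3 := hinv a (r • c + c') ha (by rw [polar_add_right, polar_smul_r', h1, h3, mul_zero, add_zero])
      hua (by rw [polar_add_right, polar_smul_r', h2, h4, mul_zero, add_zero]) y hy
    have := A.ann_add e3 (A.ann_neg (A.ann_add e1 e2))
    convert this using 1
    simp only [quad_add', polar_add_left, polar_smul_l', quad_smul', h5]
    match_scalars <;> (try simp only [r]) <;> field_simp <;> ring
  have step' : ∀ a, R a = 0 → polar R u a = 0 → ∀ y ∈ U, polar R a y = 0 →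
      y ∉ Submodule.span F {a, u} → ∀ t : F, t • a ∈ U := by
    intro a ha hua y hy hay hyT t
    obtain ⟨c, hc, hc1⟩ := exists_polar_one A.S.nd hyT
    have hca : polar R a c = 0 := by rw [polar_comm]; exact hc a (Submodule.subset_span (by simp))
    have hcu : polar R u c = 0 := by rw [polar_comm]; exact hc u (Submodule.subset_span (by simp))
    have := hinv a ((-t) • c) ha (by rw [polar_smul_r', hca, mul_zero]) hua
      (by rw [polar_smul_r', hcu, mul_zero]) y hy
    convert this using 1
    rw [hay, polar_smul_l', hc1]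
    match_scalars <;> ring
  have span : ∀ z, polar R u z = 0 → ∃ a b c : W, R a = 0 ∧ R b = 0 ∧ R c = 0 ∧ polar R u a = 0 ∧
      polar R u b = 0 ∧ polar R u c = 0 ∧ ∃ r s : F, z = c + r • a + s • b := by
    intro z hz
    obtain ⟨a, b, ha, hb, hab, hua, hub⟩ := A.S.exists_pair_perp hu
    set z' := z - polar R b z • a - polar R a z • b with hz'
    have k1 : polar R a z' = 0 := by
      simp only [hz', polar_sub_right, polar_smul_r', polar_self', ha, hab]; ring
    have k2 : polar R b z' = 0 := by
      simp only [hz', polar_sub_right, polar_smul_r', polar_self', hb, polar_comm _ b a, hab]; ring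
    have k3 : polar R u z' = 0 := by
      simp only [hz', polar_sub_right, polar_smul_r', hua, hub, hz]; ring
    refine ⟨a, b, z' + a + (-R z') • b, ha, hb, ?_, hua, hub, ?_, polar R b z - 1, polar R a z + R z', ?_⟩
    · simp only [quad_add', quad_smul', polar_add_left, polar_smul_r', ha, hb, hab, polar_comm _ z' a,
        polar_comm _ z' b, k1, k2]
      ring
    · simp only [polar_add_right, polar_smul_r', hua, hub, k3]; ring
    · simp only [hz']; module
  -- some singular vector orthogonal to `u` is not orthogonal to `w`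
  obtain ⟨a₀, ha₀, hua₀, hwa₀⟩ : ∃ a, R a = 0 ∧ polar R u a = 0 ∧ polar R a w ≠ 0 := by
    by_contra! hall
    have hw' : w ∉ Submodule.span F ({u} : Set W) := by
      rw [Submodule.mem_span_singleton]
      rintro ⟨t, rfl⟩
      exact hwu t rfl
    obtain ⟨z, hz, hz1⟩ := exists_polar_one A.S.nd hw'
    obtain ⟨a, b, c, ha, hb, hc, hua, hub, huc, r, s, rfl⟩ :=
      span z (by rw [polar_comm]; exact hz u (Submodule.mem_span_singleton_self u))
    rw [polar_add_left, polar_add_left, polar_smul_l', polar_smul_l', hall a ha hua, hall b hb hub,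
      hall c hc huc] at hz1
    simp at hz1
  have ha₀U : ∀ t : F, t • a₀ ∈ U := step a₀ ha₀ hua₀ w hw hwa₀
  have all : ∀ a, R a = 0 → polar R u a = 0 → ∀ t : F, t • a ∈ U := by
    intro a ha hua t
    have h1 : a₀ ∈ U := by simpa using ha₀U 1
    by_cases hpol : polar R a a₀ = 0
    · by_cases hmem : a₀ ∈ Submodule.span F {a, u}
      · obtain ⟨r, s, hrs⟩ := Submodule.mem_span_pair.1 hmem
        have hs : s = 0 := by
          have hq : R a₀ = s * s * R u := by
            rw [← hrs, quad_add', quad_smul', quad_smul', polar_smul_l', polar_smul_r', ha,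
              polar_comm _ a u, hua]
            ring
          rw [ha₀, eq_comm] at hq
          exact mul_self_eq_zero.1 ((mul_eq_zero.1 hq).resolve_right hu)
        rw [hs, zero_smul, add_zero] at hrs
        have hr : r ≠ 0 := by
          rintro rfl
          rw [zero_smul] at hrs
          rw [← hrs, polar_zero_left] at hwa₀
          exact hwa₀ rfl
        have := ha₀U (t / r)
        rwa [← hrs, smul_smul, div_mul_cancel₀ _ hr] at this
      · exact step' a ha hua a₀ h1 hpol hmem t
    · exact step a ha hua a₀ h1 hpol t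
  intro z hz
  obtain ⟨a, b, c, ha, hb, hc, hua, hub, huc, r, s, rfl⟩ := span z hz
  exact A.ann_add (A.ann_add (by simpa using all c hc huc 1) (all a ha hua r)) (all b hb hub s)

/-- If the dichotomy holds for every non-singular vector, the annihilator is everything or lies in a line. -/
theorem all_or_line_of {ω : Ω} (hdich : ∀ u, R u ≠ 0 → u ∈ A.ann ω →
    (∀ w, w ∈ A.ann ω → ∃ t : F, w = t • u) ∨ (∀ w, polar R u w = 0 → w ∈ A.ann ω))
    {u : W} (hu : R u ≠ 0) (huU : u ∈ A.ann ω) :
    (∀ w, w ∈ A.ann ω) ∨ ∀ w, w ∈ A.ann ω → ∃ t : F, w = t • u := by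
  rcases hdich u hu huU with h | h
  · exact Or.inr h
  refine Or.inl fun w => ?_
  obtain ⟨a, b, ha, hb, hab, hua, hub⟩ := A.S.exists_pair_perp hu
  set v := a + b
  have huv : polar R u v = 0 := by simp only [v, polar_add_right, hua, hub, add_zero]
  have hRv : R v ≠ 0 := by simp [v, quad_add', ha, hb, hab]
  have hv : v ∈ A.ann ω := h v huv
  have hv' : ∀ x, polar R v x = 0 → x ∈ A.ann ω := by
    rcases hdich v hRv hv with h' | h'
    · exfalso
      obtain ⟨t, ht⟩ := h' a (h a hua)
      have hq := congrArg R ht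
      rw [ha, quad_smul', eq_comm] at hq
      have ht0 : t = 0 := mul_self_eq_zero.1 ((mul_eq_zero.1 hq).resolve_right hRv)
      rw [ht0, zero_smul] at ht
      rw [ht, polar_zero_left] at hab
      exact zero_ne_one hab
    · exact h'
  have hva : polar R v a = 1 := by
    simp [v, polar_add_left, polar_self', ha, polar_comm _ b a, hab]
  have key : w = (w - polar R v w • a) + polar R v w • a := by abel
  rw [key]
  exact A.ann_add (hv' _ (by rw [polar_sub_right, polar_smul_r', hva]; ring))
    (h _ (by rw [polar_smul_r', hua, mul_zero]))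

/-- With a uniform bound on multiplicities the annihilator is everything or lies in a line. -/
theorem all_or_line {p : ℕ} [Fact p.Prime] [CharP F p] (hk : ∀ u, R u ≠ 0 → (A.above u).card < p) {ω : Ω}
    {u : W} (hu : R u ≠ 0) (huU : u ∈ A.ann ω) :
    (∀ w, w ∈ A.ann ω) ∨ ∀ w, w ∈ A.ann ω → ∃ t : F, w = t • u :=
  A.all_or_line_of (fun v hv hvU => A.dichotomy hv hvU (hk v hv)) hu huU

end Act

end CfsgLib.KnownA.MinIndexOrth
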