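import Cfsg.Agent.Lib.KnownA.MinIndexOrth.Global

/-!
# Minimal index in orthogonal groups: the three kinds of orbits and their sizes
-/

set_option autoImplicit false
set_option linter.unusedSectionVars false

open Module QuadraticMap CfsgLib.Orth CfsgLib.Classical Finset

namespace CfsgLib.KnownA.MinIndexOrth

variable {F W : Type*} [Field F] [Fintype F] [AddCommGroup W] [Module F W] [FiniteDimensional F W]
  [Fintype W] [DecidableEq W] {R : QuadraticForm F W} {Ω : Type*} [Fintype Ω] [DecidableEq Ω]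

/-- The non-zero singular vectors. -/
noncomputable def sing (R : QuadraticForm F W) : Finset W := by
  classical exact univ.filter fun v => v ≠ 0 ∧ R v = 0

/-- The vectors whose norm is in the square class of that of `u`. -/
noncomputable def cls (R : QuadraticForm F W) (u : W) : Finset W := by
  classical exact univ.filter fun v => ∃ β : F, β ≠ 0 ∧ R v = β * β * R u

/-- Ordered pairs of independent orthogonal singular vectors. -/
noncomputable def pairs (R : QuadraticForm F W) : Finset (W × W) := by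
  classical
  exact univ.filter fun z : W × W =>
    R z.1 = 0 ∧ R z.2 = 0 ∧ polar R z.1 z.2 = 0 ∧ LinearIndependent F ![z.1, z.2]

theorem mem_sing {v : W} : v ∈ sing R ↔ v ≠ 0 ∧ R v = 0 := by
  classical simp [sing]

theorem mem_cls {u v : W} : v ∈ cls R u ↔ ∃ β : F, β ≠ 0 ∧ R v = β * β * R u := by
  classical simp [cls]

theorem mem_pairs {z : W × W} :
    z ∈ pairs R ↔ R z.1 = 0 ∧ R z.2 = 0 ∧ polar R z.1 z.2 = 0 ∧ LinearIndependent F ![z.1, z.2] := by
  classical simp [pairs]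

theorem indep_pair (S : Setup R) : ∃ a b : W, LinearIndependent F ![a, b] ∧ R (a + b) ≠ 0 ∧ R a = 0 := by
  obtain ⟨hp⟩ := S.hypW
  refine ⟨hp.e₀, hp.f₀, ?_, by rw [quad_add', hp.he₀, hp.hf₀, hp.h00]; simp, hp.he₀⟩
  rw [LinearIndependent.pair_iff]
  intro s t hst
  have h1 := congrArg (polar R hp.f₀) hst
  have h2 := congrArg (polar R hp.e₀) hst
  rw [polar_add_right, polar_smul_r', polar_smul_r', hp.c00, polar_self', hp.hf₀, polar_zero_right] at h1
  rw [polar_add_right, polar_smul_r', polar_smul_r', hp.h00, polar_self', hp.he₀, polar_zero_right] at h2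
  constructor
  · linear_combination h1
  · linear_combination h2

namespace Act

variable (A : Act R Ω)

/-- The annihilator is everything. -/
def Reg (ω : Ω) : Prop := ∀ w, w ∈ A.ann ω

/-- The annihilator lies in a line. -/
def Line (ω : Ω) : Prop := ∃ u, u ≠ 0 ∧ u ∈ A.ann ω ∧ ∀ w ∈ A.ann ω, ∃ t : F, w = t • u

/-- The annihilator is singular and not in a line. -/
def Big (ω : Ω) : Prop :=
  (∀ w ∈ A.ann ω, R w = 0) ∧ ∃ a b, a ∈ A.ann ω ∧ b ∈ A.ann ω ∧ LinearIndependent F ![a, b]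

theorem big_pair {ω : Ω} (h : A.Big ω) : ∃ z ∈ pairs R, z.1 ∈ A.ann ω ∧ z.2 ∈ A.ann ω := by
  obtain ⟨h0, a, b, ha, hb, hli⟩ := h
  refine ⟨(a, b), mem_pairs.2 ⟨h0 a ha, h0 b hb, ?_, hli⟩, ha, hb⟩
  simp only [polar, h0 _ (A.ann_add ha hb), h0 a ha, h0 b hb, sub_zero]

theorem classify (hdich : ∀ (ω : Ω) (u : W), R u ≠ 0 → u ∈ A.ann ω →
      (∀ w, w ∈ A.ann ω) ∨ ∀ w, w ∈ A.ann ω → ∃ t : F, w = t • u) {ω : Ω}
    (h : (A.orb ω).card ≠ 1) : A.Reg ω ∨ A.Line ω ∨ A.Big ω := by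
  obtain ⟨u, hu, hu0⟩ : ∃ u ∈ A.ann ω, u ≠ 0 := by
    by_contra! hall
    apply h
    rw [← A.card_ann, Finset.card_eq_one]
    exact ⟨0, Finset.eq_singleton_iff_unique_mem.2 ⟨A.zero_mem ω, hall⟩⟩
  by_cases hns : ∃ v ∈ A.ann ω, R v ≠ 0
  · obtain ⟨v, hv, hRv⟩ := hns
    rcases hdich ω v hRv hv with h1 | h1
    · exact Or.inl h1
    · exact Or.inr (Or.inl ⟨v, fun e => hRv (by simp [e]), hv, h1⟩)
  push Not at hns
  by_cases hline : ∀ w ∈ A.ann ω, ∃ t : F, w = t • u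
  · exact Or.inr (Or.inl ⟨u, hu0, hu, hline⟩)
  push Not at hline
  obtain ⟨b, hb, hbu⟩ := hline
  refine Or.inr (Or.inr ⟨hns, u, b, hu, hb, ?_⟩)
  rw [LinearIndependent.pair_iff' hu0]
  exact fun t e => hbu t e.symm

theorem reg_not_line {ω : Ω} (h : A.Reg ω) : ¬ A.Line ω := by
  rintro ⟨u, hu, -, hl⟩
  obtain ⟨a, b, hli, -, -⟩ := indep_pair A.S
  obtain ⟨s, hs⟩ := hl a (h a)
  obtain ⟨t, ht⟩ := hl b (h b)
  rw [LinearIndependent.pair_iff] at hli
  obtain ⟨-, h2⟩ := hli t (-s) (by rw [hs, ht]; module)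
  rw [neg_eq_zero] at h2
  obtain ⟨h3, -⟩ := hli 1 0 (by rw [hs, h2]; simp)
  exact one_ne_zero h3

theorem reg_not_big {ω : Ω} (h : A.Reg ω) : ¬ A.Big ω := by
  rintro ⟨h0, -⟩
  obtain ⟨a, b, -, hab, -⟩ := indep_pair A.S
  exact hab (h0 _ (h _))

theorem line_not_big {ω : Ω} (h : A.Line ω) : ¬ A.Big ω := by
  rintro ⟨-, a, b, ha, hb, hli⟩
  obtain ⟨u, -, -, hl⟩ := h
  obtain ⟨s, hs⟩ := hl a ha
  obtain ⟨t, ht⟩ := hl b hb
  rw [LinearIndependent.pair_iff] at hli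
  obtain ⟨-, h2⟩ := hli t (-s) (by rw [hs, ht]; module)
  rw [neg_eq_zero] at h2
  obtain ⟨h3, -⟩ := hli 1 0 (by rw [hs, h2]; simp)
  exact one_ne_zero h3

theorem card_reg {ω : Ω} (h : A.Reg ω) : (A.orb ω).card = Fintype.card W := by
  rw [← A.card_ann, ← Finset.card_univ]
  congr 1
  exact Finset.eq_univ_of_forall h

theorem card_line {ω : Ω} (h : A.Line ω) : (A.orb ω).card ≤ Fintype.card F := by
  classical
  obtain ⟨u, -, -, hl⟩ := h
  rw [← A.card_ann, ← Finset.card_univ]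
  calc (A.ann ω).card ≤ (univ.image fun t : F => t • u).card := Finset.card_le_card fun w hw => by
        obtain ⟨t, rfl⟩ := hl w hw
        exact mem_image_of_mem _ (mem_univ t)
    _ ≤ _ := Finset.card_image_le

/-- Orbits of a given kind. -/
noncomputable def kind (K : Ω → Prop) : Finset (Finset Ω) := by
  classical exact A.orbs.filter fun O => ∃ ω ∈ O, K ω

theorem mem_kind {K : Ω → Prop} {O : Finset Ω} : O ∈ A.kind K ↔ O ∈ A.orbs ∧ ∃ ω ∈ O, K ω := by
  classical simp [kind]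

theorem sum_kind_le (K : Ω → Prop) : ∑ O ∈ A.kind K, O.card ≤ Fintype.card Ω := by
  classical
  rw [A.card_eq_sum]
  exact Finset.sum_le_sum_of_subset fun O hO => (A.mem_kind.1 hO).1

theorem sum_two_kinds (K K' : Ω → Prop) (hKK : ∀ ω ν, ν ∈ A.orb ω → K ω → ¬ K' ν) :
    ∑ O ∈ A.kind K, O.card + ∑ O ∈ A.kind K', O.card ≤ Fintype.card Ω := by
  classical
  rw [← Finset.sum_union, A.card_eq_sum]
  · refine Finset.sum_le_sum_of_subset fun O hO => ?_
    rcases mem_union.1 hO with h | h <;> exact (A.mem_kind.1 h).1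
  · rw [Finset.disjoint_left]
    intro O h h'
    obtain ⟨hO, ω, hω, hK⟩ := A.mem_kind.1 h
    obtain ⟨-, ν, hν, hK'⟩ := A.mem_kind.1 h'
    exact hKK ω ν ((A.of_mem_orbs hO hω) ▸ hν) hK hK'

theorem Reg.congr {A : Act R Ω} {ω ν : Ω} (hν : ν ∈ A.orb ω) (h : A.Reg ω) : A.Reg ν :=
  fun w => (A.ann_eq hν).symm ▸ h w

theorem Line.congr {A : Act R Ω} {ω ν : Ω} (hν : ν ∈ A.orb ω) (h : A.Line ω) : A.Line ν := by
  unfold Line at h ⊢
  rwa [A.ann_eq hν]

theorem Big.congr {A : Act R Ω} {ω ν : Ω} (hν : ν ∈ A.orb ω) (h : A.Big ω) : A.Big ν := by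
  unfold Big at h ⊢
  rwa [A.ann_eq hν]

theorem line_cover (T : Finset W) (h0 : (0 : W) ∉ T) (hT : ∀ y ∈ T, ∃ ω, A.Line ω ∧ y ∈ A.ann ω) :
    Fintype.card F * T.card ≤ (Fintype.card F - 1) * ∑ O ∈ A.kind A.Line, O.card := by
  classical
  have hsub : T ⊆ (A.kind A.Line).biUnion fun O => T.filter fun y => ∃ ω ∈ O, y ∈ A.ann ω := by
    intro y hy
    obtain ⟨ω, hω, hyω⟩ := hT y hy
    exact mem_biUnion.2 ⟨A.orb ω, A.mem_kind.2 ⟨A.orb_mem ω, ω, A.self_mem ω, hω⟩,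
      mem_filter.2 ⟨hy, ω, A.self_mem ω, hyω⟩⟩
  refine le_trans (Nat.mul_le_mul_left _ ((Finset.card_le_card hsub).trans Finset.card_biUnion_le)) ?_
  rw [Finset.mul_sum, Finset.mul_sum]
  refine Finset.sum_le_sum fun O hO => ?_
  obtain ⟨hO', ω, hω, hL⟩ := A.mem_kind.1 hO
  have hOe := A.of_mem_orbs hO' hω
  subst hOe
  rw [A.filter_ann rfl]
  have h1 : (T.filter fun y => y ∈ A.ann ω).card + 1 ≤ (A.orb ω).card := by
    rw [← A.card_ann, ← Finset.card_insert_of_notMem (a := (0 : W)) (fun e => h0 (mem_filter.1 e).1)]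
    exact Finset.card_le_card (Finset.insert_subset (A.zero_mem ω) fun y hy => (mem_filter.1 hy).2)
  have h2 := A.card_line hL
  obtain ⟨j, hj⟩ : ∃ j, Fintype.card F = j + 1 := ⟨Fintype.card F - 1, by have := Fintype.card_pos (α := F); omega⟩
  rw [hj] at h2 ⊢
  simp only [Nat.add_sub_cancel]
  calc (j + 1) * (T.filter fun y => y ∈ A.ann ω).card ≤ (j + 1) * ((A.orb ω).card - 1) :=
        Nat.mul_le_mul_left _ (by omega)
    _ ≤ j * (A.orb ω).card := by
      rw [Nat.mul_sub_one, add_one_mul]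
      omega

section Transport

variable {n : Om R} {α : F} {σ : orthGroup R} (hn : A.S.Moves n α σ) (hα : α ≠ 0)
include hn hα

theorem line_moves {ω : Ω} (h : A.Line ω) : A.Line (A.π n ω) := by
  obtain ⟨u, hu0, hu, hl⟩ := h
  refine ⟨α⁻¹ • σ.1 u, smul_ne_zero (inv_ne_zero hα) (by simpa using hu0), (A.ann_moves hn hα).1 hu, ?_⟩
  intro w hw
  obtain ⟨w₀, rfl⟩ : ∃ w₀, α⁻¹ • σ.1 w₀ = w :=
    ⟨σ.1.symm (α • w), by rw [LinearEquiv.apply_symm_apply, smul_smul, inv_mul_cancel₀ hα, one_smul]⟩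
  obtain ⟨t, rfl⟩ := hl w₀ ((A.ann_moves hn hα).2 hw)
  exact ⟨t, by rw [map_smul, smul_comm]⟩

theorem big_moves {ω : Ω} (h : A.Big ω) : A.Big (A.π n ω) := by
  obtain ⟨h0, a, b, ha, hb, hli⟩ := h
  refine ⟨fun w hw => ?_, α⁻¹ • σ.1 a, α⁻¹ • σ.1 b, (A.ann_moves hn hα).1 ha, (A.ann_moves hn hα).1 hb, ?_⟩
  · obtain ⟨w₀, rfl⟩ : ∃ w₀, α⁻¹ • σ.1 w₀ = w :=
      ⟨σ.1.symm (α • w), by rw [LinearEquiv.apply_symm_apply, smul_smul, inv_mul_cancel₀ hα, one_smul]⟩
    rw [quad_smul', apply_quad, h0 w₀ ((A.ann_moves hn hα).2 hw), mul_zero]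
  · rw [LinearIndependent.pair_iff] at hli ⊢
    intro s t hst
    refine hli s t (σ.1.injective ?_)
    rw [smul_comm s, smul_comm t, ← smul_add, smul_eq_zero] at hst
    rw [map_add, map_smul, map_smul, map_zero]
    exact hst.resolve_left (inv_ne_zero hα)

end Transport

theorem cls_cover {u : W} (hu : R u ≠ 0) {ω : Ω} (hω : A.Line ω) (huω : u ∈ A.ann ω) :
    Fintype.card F * (cls R u).card ≤ (Fintype.card F - 1) * ∑ O ∈ A.kind A.Line, O.card := by
  refine A.line_cover _ (fun h => ?_) fun y hy => ?_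
  · obtain ⟨β, hβ, he⟩ := mem_cls.1 h
    rw [QuadraticMap.map_zero, eq_comm] at he
    exact mul_ne_zero (mul_ne_zero hβ hβ) hu he
  · obtain ⟨β, hβ, he⟩ := mem_cls.1 hy
    obtain ⟨n, α, σ, hα, hn, rfl⟩ := A.S.exists_move_class hu hβ he
    exact ⟨A.π n ω, A.line_moves hn hα hω, (A.ann_moves hn hα).1 huω⟩

theorem sing_cover {u : W} (hu : R u = 0) (hu0 : u ≠ 0) {ω : Ω} (hω : A.Line ω) (huω : u ∈ A.ann ω) :
    Fintype.card F * (sing R).card ≤ (Fintype.card F - 1) * ∑ O ∈ A.kind A.Line, O.card := by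
  refine A.line_cover _ (fun h => (mem_sing.1 h).1 rfl) fun y hy => ?_
  obtain ⟨hy0, hy1⟩ := mem_sing.1 hy
  obtain ⟨hp⟩ := A.S.hypW
  obtain ⟨g, hg, he⟩ := exists_sing_move A.S.nd A.S.good A.S.five hp hu hu0 hy1 hy0
  have hn := A.S.moves_emb ⟨g, hg⟩
  refine ⟨A.π (embG R ⟨g, hg⟩) ω, A.line_moves hn one_ne_zero hω, ?_⟩
  have := (A.ann_moves hn one_ne_zero).1 huω
  rwa [inv_one, one_smul, he] at this

/-- Big orbits above a pair of vectors. -/
noncomputable def above2 (K : Ω → Prop) (z : W × W) : Finset (Finset Ω) := by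
  classical exact (A.kind K).filter fun O => ∃ ω ∈ O, z.1 ∈ A.ann ω ∧ z.2 ∈ A.ann ω

theorem mem_above2 {K : Ω → Prop} {z : W × W} {O : Finset Ω} :
    O ∈ A.above2 K z ↔ O ∈ A.kind K ∧ ∃ ω ∈ O, z.1 ∈ A.ann ω ∧ z.2 ∈ A.ann ω := by
  classical simp [above2]

/-- The pairs inside an orbit's annihilator. -/
noncomputable def pairsIn (ω : Ω) : Finset (W × W) := by
  classical exact (pairs R).filter fun z => z.1 ∈ A.ann ω ∧ z.2 ∈ A.ann ω

theorem sum_above2 (K : Ω → Prop) (rep : Finset Ω → Ω) (hrep : ∀ O ∈ A.kind K, rep O ∈ O) :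
    ∑ z ∈ pairs R, (A.above2 K z).card = ∑ O ∈ A.kind K, (A.pairsIn (rep O)).card := by
  classical
  simp only [above2, pairsIn, Finset.card_filter]
  rw [Finset.sum_comm]
  refine Finset.sum_congr rfl fun O hO => Finset.sum_congr rfl fun z _ => ?_
  refine if_congr ?_ rfl rfl
  constructor
  · rintro ⟨ν, hν, h1, h2⟩
    have hO' := A.of_mem_orbs (A.mem_kind.1 hO).1 (hrep O hO)
    rw [hO'] at hν
    rw [A.ann_eq hν] at h1 h2
    exact ⟨h1, h2⟩
  · exact fun h => ⟨rep O, hrep O hO, h⟩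

/-- Covering the pairs by orbits of bounded size. -/
theorem pair_cover (K : Ω → Prop) (B k : ℕ) (hB : ∀ ω, K ω → (A.orb ω).card ≤ B)
    (hk : ∀ z ∈ pairs R, k ≤ (A.above2 K z).card) :
    k * (pairs R).card ≤ B * ∑ O ∈ A.kind K, O.card := by
  classical
  obtain ⟨ω₀, -⟩ := A.two
  let rep : Finset Ω → Ω := fun O => if h : ∃ ω ∈ O, K ω then h.choose else ω₀
  have hrep : ∀ O ∈ A.kind K, rep O ∈ O ∧ K (rep O) := fun O hO => by
    have h := (A.mem_kind.1 hO).2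
    simp only [rep, dif_pos h]
    exact h.choose_spec
  calc k * (pairs R).card = ∑ z ∈ pairs R, k := by rw [Finset.sum_const, smul_eq_mul, mul_comm]
    _ ≤ ∑ z ∈ pairs R, (A.above2 K z).card := Finset.sum_le_sum hk
    _ = ∑ O ∈ A.kind K, (A.pairsIn (rep O)).card := A.sum_above2 K rep fun O hO => (hrep O hO).1
    _ ≤ ∑ O ∈ A.kind K, B * O.card := Finset.sum_le_sum fun O hO => by
      obtain ⟨h1, h2⟩ := hrep O hO
      have hOe := A.of_mem_orbs (A.mem_kind.1 hO).1 h1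
      have : (A.pairsIn (rep O)).card ≤ (A.ann (rep O) ×ˢ A.ann (rep O)).card :=
        Finset.card_le_card fun z hz => by
          simp only [pairsIn, mem_filter] at hz
          exact mem_product.2 hz.2
      rw [Finset.card_product, A.card_ann] at this
      refine this.trans ?_
      conv_rhs => rw [hOe]
      exact Nat.mul_le_mul_right _ (hB _ h2)
    _ = _ := (Finset.mul_sum _ _ _).symm

theorem above2_moves (K : Ω → Prop) (hK : ∀ {n : Om R} {α : F} {σ : orthGroup R}, A.S.Moves n α σ → α ≠ 0 →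
    ∀ ω, K ω → K (A.π n ω)) {z z' : W × W} (hz : z ∈ pairs R) (hz' : z' ∈ pairs R) :
    (A.above2 K z).card ≤ (A.above2 K z').card := by
  obtain ⟨h1, h2, h3, h4⟩ := mem_pairs.1 hz
  obtain ⟨h1', h2', h3', h4'⟩ := mem_pairs.1 hz'
  obtain ⟨hp⟩ := A.S.hypW
  obtain ⟨p, hp0, hp1⟩ := exists_pairs_at A.S.nd A.S.good hp h1 h2 h3 h4
  obtain ⟨p', hp0', hp1'⟩ := exists_pairs_at A.S.nd A.S.good hp h1' h2' h3' h4'
  obtain ⟨n, α, σ, hα, hn, e0, e1⟩ := A.S.exists_move_pairs p p'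
  rw [hp0, hp0'] at e0
  rw [hp1, hp1'] at e1
  refine Finset.card_le_card_of_injOn (fun O => O.image (A.π n)) ?_ ?_
  · intro O hO
    obtain ⟨hO', ω, hω, ha, hb⟩ := A.mem_above2.1 hO
    obtain ⟨hO'', ν, hν, hKν⟩ := A.mem_kind.1 hO'
    refine A.mem_above2.2 ⟨A.mem_kind.2 ⟨A.image_mem hn hα hO'', A.π n ν, mem_image_of_mem _ hν, hK hn hα ν hKν⟩,
      A.π n ω, mem_image_of_mem _ hω, ?_, ?_⟩
    · rw [← e0]; exact (A.ann_moves hn hα).1 ha
    · rw [← e1]; exact (A.ann_moves hn hα).1 hb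
  · intro O _ O' _ h
    exact Finset.image_injective (A.π n).injective h

theorem above2_pos (K : Ω → Prop) (hK : ∀ {n : Om R} {α : F} {σ : orthGroup R}, A.S.Moves n α σ → α ≠ 0 →
    ∀ ω, K ω → K (A.π n ω)) {ω : Ω} (hω : K ω) (hbig : A.Big ω) {z : W × W} (hz : z ∈ pairs R) :
    1 ≤ (A.above2 K z).card := by
  obtain ⟨z₀, hz₀, ha, hb⟩ := A.big_pair hbig
  refine le_trans ?_ (A.above2_moves K hK hz₀ hz)
  exact Finset.card_pos.2 ⟨A.orb ω, A.mem_above2.2
    ⟨A.mem_kind.2 ⟨A.orb_mem ω, ω, A.self_mem ω, hω⟩, ω, A.self_mem ω, ha, hb⟩⟩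

theorem above_lt {p N : ℕ} (hcard : Fintype.card Ω < N) (hcls : ∀ u, R u ≠ 0 → N ≤ p * (cls R u).card)
    {u : W} (hu : R u ≠ 0) : (A.above u).card < p := by
  by_contra hge
  push Not at hge
  have h : p * (cls R u).card ≤ ∑ y ∈ cls R u, (A.above y).card := by
    rw [mul_comm, ← smul_eq_mul]
    refine Finset.card_nsmul_le_sum _ _ _ fun y hy => ?_
    obtain ⟨β, hβ, he⟩ := mem_cls.1 hy
    obtain ⟨n, α, σ, hα, hn, rfl⟩ := A.S.exists_move_class hu hβ he
    exact hge.trans (A.card_above_le hn hα u)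
  have := A.sum_above_le (cls R u)
  have := hcls u hu
  omega

end Act

end CfsgLib.KnownA.MinIndexOrth
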