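import Cfsg.Agent.Lib.KnownA.MinIndexOrth.Basic

/-!
# Minimal index in orthogonal groups: transitivity of the Levi complement
-/

set_option autoImplicit false
set_option linter.unusedSectionVars false

open Module QuadraticMap CfsgLib.Orth CfsgLib.Classical

namespace CfsgLib.KnownA.MinIndexOrth

variable {F V : Type*} [Field F] [AddCommGroup V] [Module F V] [FiniteDimensional F V]
  {Q : QuadraticForm F V}

/-- The two pairs exchanged in the first coordinate. -/
def swapFirst (hp : HypPairs Q) : HypPairs Q where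
  e₀ := hp.f₀
  f₀ := hp.e₀
  e₁ := hp.e₁
  f₁ := hp.f₁
  he₀ := hp.hf₀
  hf₀ := hp.he₀
  he₁ := hp.he₁
  hf₁ := hp.hf₁
  h00 := hp.c00
  h11 := hp.h11
  hee := hp.hfe
  hef := hp.hff
  hfe := hp.hee
  hff := hp.hef

/-- The pairs exchanged with each other. -/
def swapPairs (hp : HypPairs Q) : HypPairs Q where
  e₀ := hp.e₁
  f₀ := hp.f₁
  e₁ := hp.e₀
  f₁ := hp.f₀
  he₀ := hp.he₁
  hf₀ := hp.hf₁
  he₁ := hp.he₀
  hf₁ := hp.hf₀
  h00 := hp.h11
  h11 := hp.h00
  hee := hp.cee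
  hef := hp.cfe
  hfe := hp.cef
  hff := hp.cff

/-- Isometries fixing the first vector and the line of the third. -/
def pairStab (hp : HypPairs Q) : Subgroup (orthGroup Q) where
  carrier := {g | g.1 hp.e₀ = hp.e₀ ∧ ∃ μ : F, μ ≠ 0 ∧ g.1 hp.e₁ = μ • hp.e₁}
  one_mem' := ⟨rfl, 1, one_ne_zero, (one_smul F hp.e₁).symm⟩
  mul_mem' := by
    rintro g h ⟨hg, μ, hμ, hg'⟩ ⟨hh, ν, hν, hh'⟩
    refine ⟨?_, ν * μ, mul_ne_zero hν hμ, ?_⟩
    · show g.1 (h.1 hp.e₀) = _
      rw [hh, hg]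
    · show g.1 (h.1 hp.e₁) = _
      rw [hh', map_smul, hg', smul_smul]
  inv_mem' := by
    rintro g ⟨hg, μ, hμ, hg'⟩
    refine ⟨?_, μ⁻¹, inv_ne_zero hμ, ?_⟩
    · show g.1.symm hp.e₀ = _
      rw [LinearEquiv.symm_apply_eq, hg]
    · show g.1.symm hp.e₁ = _
      rw [LinearEquiv.symm_apply_eq, map_smul, hg', smul_smul, inv_mul_cancel₀ hμ, one_smul]

variable (hQ : (QuadraticMap.polarBilin Q).Nondegenerate) (h4 : Good F V) (hn : 5 ≤ finrank F V)
include hQ h4 hn

/-- `Ω` moves two orthogonal hyperbolic pairs to two others up to one scalar. -/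
theorem exists_pair_move (hp hp' : HypPairs Q) :
    ∃ g ∈ commutator (orthGroup Q), g.1 hp.e₀ = hp'.e₀ ∧ ∃ μ : F, μ ≠ 0 ∧ g.1 hp.e₁ = μ • hp'.e₁ := by
  have li : ∀ hp : HypPairs Q, LinearIndependent F ![hp.e₀, hp.e₁] := fun hp => by
    rw [LinearIndependent.pair_iff]
    intro s t hst
    have h1 := congrArg (polar Q hp.f₀) hst
    have h2 := congrArg (polar Q hp.f₁) hst
    rw [polar_add_right, polar_smul_r', polar_smul_r', hp.c00, hp.hfe, polar_zero_right] at h1
    rw [polar_add_right, polar_smul_r', polar_smul_r', hp.c11, hp.cef, polar_zero_right] at h2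
    constructor
    · linear_combination h1
    · linear_combination h2
  obtain ⟨g, hg⟩ := witt_family' hQ ![hp.e₀, hp.e₁] ![hp'.e₀, hp'.e₁] (li hp) (li hp')
    (fun i => by fin_cases i <;> simp [hp.he₀, hp.he₁, hp'.he₀, hp'.he₁])
    (fun i j => by
      fin_cases i <;> fin_cases j <;>
        simp [polar_self', hp.he₀, hp.he₁, hp'.he₀, hp'.he₁, hp.hee, hp'.hee, hp.cee, hp'.cee])
  have hK : ∀ a, Q a ≠ 0 → ∃ s ∈ pairStab hp, Abelianization.of s = Abelianization.of (refl Q a) := by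
    intro a ha
    obtain ⟨w, hw, w0, w0', w1, w1'⟩ := exists_anisotropic_perp_four hQ hp hn
    have hval : ∀ r : F, Q (hp.e₁ + r • hp.f₁) = r := fun r => by
      rw [quad_add', quad_smul', polar_smul_r', hp.he₁, hp.hf₁, hp.h11]; ring
    have hfix0 : ∀ r : F, (refl Q (hp.e₁ + r • hp.f₁)).1 hp.e₀ = hp.e₀ := fun r =>
      refl_fix Q (by rw [polar_add_left, polar_smul_l', hp.cee, hp.cef]; ring)
    refine ⟨refl Q (hp.e₁ + Q a • hp.f₁) * refl Q (hp.e₁ + Q w • hp.f₁) * refl Q w,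
      ⟨?_, Q w / Q a, div_ne_zero hw ha, ?_⟩, ?_⟩
    · show (refl Q _).1 ((refl Q _).1 ((refl Q w).1 hp.e₀)) = _
      rw [refl_fix Q (a := w) (by rw [polar_comm]; exact w0), hfix0, hfix0]
    · show (refl Q _).1 ((refl Q _).1 ((refl Q w).1 hp.e₁)) = _
      rw [refl_fix Q (a := w) (by rw [polar_comm]; exact w1), refl_apply, refl_apply, hval, hval]
      simp only [sub_eq_add_neg, ← neg_smul, polar_add_left, polar_add_right, polar_smul_l', polar_smul_r',
        polar_self', hp.he₁, hp.hf₁, hp.h11, hp.c11]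
      match_scalars <;> field_simp <;> ring
    · rw [map_mul, map_mul, mul_assoc,
        ab_refl_eq hQ h4 (a := hp.e₁ + Q w • hp.f₁) (b := w) (by rw [hval]; exact hw) hw
          (by rw [hval]; exact ⟨Q w, rfl⟩),
        ab_refl_sq, mul_one]
      exact ab_refl_eq hQ h4 (by rw [hval]; exact ha) ha (by rw [hval]; exact ⟨Q a, rfl⟩)
  obtain ⟨s, hs, hse⟩ := exists_mem_ab_eq hQ h4 (pairStab hp) hK g⁻¹
  obtain ⟨hs0, μ, hμ, hs1⟩ := hs
  refine ⟨g * s, ?_, ?_, μ, hμ, ?_⟩
  · rw [mem_commutator_iff, map_mul, hse, map_inv, mul_inv_cancel]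
  · show g.1 (s.1 hp.e₀) = _
    rw [hs0]; exact hg 0
  · show g.1 (s.1 hp.e₁) = _
    rw [hs1, map_smul]
    exact congrArg (μ • ·) (hg 1)

/-- `Ω` is transitive on non-zero singular vectors. -/
theorem exists_sing_move (hp : HypPairs Q) {a b : V} (ha : Q a = 0) (ha0 : a ≠ 0) (hb : Q b = 0) (hb0 : b ≠ 0) :
    ∃ g ∈ commutator (orthGroup Q), g.1 a = b := by
  obtain ⟨p, rfl⟩ := hp.exists_at hQ ha ha0
  obtain ⟨p', rfl⟩ := p.exists_at hQ hb hb0
  obtain ⟨g, hg, h, -⟩ := exists_pair_move hQ h4 hn p p'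
  exact ⟨g, hg, h⟩

/-- `Ω` is transitive on each sphere of non-zero radius. -/
theorem exists_sphere_move (hp : HypPairs Q) {a b : V} (ha : Q a ≠ 0) (hab : Q a = Q b) :
    ∃ g ∈ commutator (orthGroup Q), g.1 a = b := by
  rw [commutator_eq_siegelGroup hQ h4 hp hn]
  obtain ⟨n₁, h₁, e₁⟩ := exists_siegel_move hQ hp ha (v := a) rfl
  obtain ⟨n₂, h₂, e₂⟩ := exists_siegel_move hQ hp ha hab.symm
  refine ⟨n₂⁻¹ * n₁, mul_mem (inv_mem h₂) h₁, ?_⟩
  show n₂.1.symm (n₁.1 a) = b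
  rw [LinearEquiv.symm_apply_eq, e₁, e₂]

omit hn in
/-- Two orthogonal independent singular vectors begin two hyperbolic pairs. -/
theorem exists_pairs_at (hp : HypPairs Q) {a b : V} (ha : Q a = 0) (hb : Q b = 0) (hab : polar Q a b = 0)
    (hli : LinearIndependent F ![a, b]) : ∃ p : HypPairs Q, p.e₀ = a ∧ p.e₁ = b := by
  have li : LinearIndependent F ![hp.e₀, hp.e₁] := by
    rw [LinearIndependent.pair_iff]
    intro s t hst
    have h1 := congrArg (polar Q hp.f₀) hst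
    have h2 := congrArg (polar Q hp.f₁) hst
    rw [polar_add_right, polar_smul_r', polar_smul_r', hp.c00, hp.hfe, polar_zero_right] at h1
    rw [polar_add_right, polar_smul_r', polar_smul_r', hp.c11, hp.cef, polar_zero_right] at h2
    constructor
    · linear_combination h1
    · linear_combination h2
  obtain ⟨g, hg⟩ := witt_family' hQ ![hp.e₀, hp.e₁] ![a, b] li hli
    (fun i => by fin_cases i <;> simp [hp.he₀, hp.he₁, ha, hb])
    (fun i j => by
      fin_cases i <;> fin_cases j <;>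
        simp [polar_self', hp.he₀, hp.he₁, ha, hb, hp.hee, hp.cee, hab, polar_comm _ b a])
  exact ⟨hp.map g, hg 0, hg 1⟩

end CfsgLib.KnownA.MinIndexOrth

namespace CfsgLib.KnownA.MinIndexOrth

variable {F W : Type*} [Field F] [Fintype F] [AddCommGroup W] [Module F W] [FiniteDimensional F W]
  {R : QuadraticForm F W} (S : Setup R)

include S

/-- The element of the Levi complement scaling by `α`. -/
theorem Setup.exists_scale (hp : HypPairs R) {α : F} (hα : α ≠ 0) :
    ∃ (n : Om R) (σ : orthGroup R), S.Moves n α σ ∧ σ.1 hp.e₀ = α⁻¹ • hp.e₀ ∧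
      σ.1 hp.f₀ = α • hp.f₀ ∧ ∀ v, polar R hp.e₀ v = 0 → polar R hp.f₀ v = 0 → σ.1 v = v := by
  set P := plusPlane R
  obtain ⟨s, hs⟩ := witt_family' S.ndV (Q := P) ![ee, ff] ![iw hp.e₀, iw hp.f₀]
    (by
      rw [LinearIndependent.pair_iff]
      intro a b h
      simpa [ee, ff, Prod.ext_iff] using h)
    (by
      rw [LinearIndependent.pair_iff]
      intro a b h
      rw [← map_smul, ← map_smul, ← map_add] at h
      replace h : a • hp.e₀ + b • hp.f₀ = 0 := congrArg Prod.fst h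
      have h1 := congrArg (polar R hp.f₀) h
      have h2 := congrArg (polar R hp.e₀) h
      rw [polar_add_right, polar_smul_r', polar_smul_r', hp.c00, polar_self', hp.hf₀,
        polar_zero_right] at h1
      rw [polar_add_right, polar_smul_r', polar_smul_r', hp.h00, polar_self', hp.he₀,
        polar_zero_right] at h2
      constructor
      · linear_combination h1
      · linear_combination h2)
    (fun i => by fin_cases i <;> simp [P, q_ee, q_ff, q_iw, hp.he₀, hp.hf₀])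
    (fun i j => by
      fin_cases i <;> fin_cases j <;>
        simp [P, plusPlane_polar, plusPlane_apply, polar_self', hp.he₀, hp.hf₀, hp.h00, hp.c00, ee, ff, iw])
  set t := torus P ee ff α
  set σ : orthGroup R := refl R (hp.e₀ + α • hp.f₀) * refl R (hp.e₀ + hp.f₀) with hσ
  have hst : s * t⁻¹ * s⁻¹ = refl P (iw (hp.e₀ + α • hp.f₀)) * refl P (iw (hp.e₀ + hp.f₀)) := by
    have h0 : s.1 ee = iw hp.e₀ := hs 0
    have h1 : s.1 ff = iw hp.f₀ := hs 1
    simp only [t, torus, mul_inv_rev, refl_inv]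
    rw [show s * (refl P (ee + α • ff) * refl P (ee + ff)) * s⁻¹ =
      (s * refl P (ee + α • ff) * s⁻¹) * (s * refl P (ee + ff) * s⁻¹) by group, conj_refl, conj_refl]
    simp only [map_add, map_smul, h0, h1]
  have hrefl : ∀ a u : W, (refl P (iw a)).1 (iw u) = iw ((refl R a).1 u) := fun a u => by
    rw [refl_apply, refl_apply, q_iw, b_iw, map_sub, map_smul]
  have hmem : t * (s * t⁻¹ * s⁻¹) ∈ commutator (orthGroup P) := by
    have := Subgroup.commutator_mem_commutator (Subgroup.mem_top t) (Subgroup.mem_top s)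
    rw [commutatorElement_def] at this
    rw [commutator_def]
    simpa [mul_assoc] using this
  refine ⟨⟨_, hmem⟩, σ, S.moves_of hα ?_ (fun u => ?_), ?_, ?_, fun v h h' => ?_⟩
  · show (t * (s * t⁻¹ * s⁻¹)).1 ee = _
    rw [hst]
    show t.1 ((refl P _).1 ((refl P _).1 ee)) = _
    rw [refl_fix P (a := iw (hp.e₀ + hp.f₀)) (by rw [polar_comm]; exact b_ee_iw R _),
      refl_fix P (by rw [polar_comm]; exact b_ee_iw R _)]
    exact (torus_pair P (q_ee R) (q_ff R) (by simp [P, plusPlane_polar, ee, ff]) hα).1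
  · show (t * (s * t⁻¹ * s⁻¹)).1 (iw u) = _
    rw [hst]
    show t.1 ((refl P _).1 ((refl P _).1 (iw u))) = _
    rw [hrefl, hrefl, torus_fix P α (b_ee_iw R _) (b_ff_iw R _)]
    rfl
  · show (refl R _).1 ((refl R _).1 hp.e₀) = _
    have := (torus_pair R hp.he₀ hp.hf₀ hp.h00 hα).1
    apply (torus R hp.e₀ hp.f₀ α).1.injective
    rw [map_smul, this, smul_smul, inv_mul_cancel₀ hα, one_smul]
    show (refl R _).1 ((refl R _).1 ((refl R _).1 ((refl R _).1 hp.e₀))) = _
    rw [reflFun_cancel, reflFun_cancel]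
  · show (refl R _).1 ((refl R _).1 hp.f₀) = _
    have := (torus_pair R hp.he₀ hp.hf₀ hp.h00 hα).2
    apply (torus R hp.e₀ hp.f₀ α).1.injective
    rw [map_smul, this, smul_smul, mul_inv_cancel₀ hα, one_smul]
    show (refl R _).1 ((refl R _).1 ((refl R _).1 ((refl R _).1 hp.f₀))) = _
    rw [reflFun_cancel, reflFun_cancel]
  · show (refl R _).1 ((refl R _).1 v) = _
    rw [refl_fix R (a := hp.e₀ + hp.f₀) (by rw [polar_add_left, h, h', add_zero]),
      refl_fix R (by rw [polar_add_left, polar_smul_l', h, h', mul_zero, add_zero])]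
where
  reflFun_cancel {a v : W} : (refl R a).1 ((refl R a).1 v) = v := reflFun_reflFun R a v

/-- The torus element commuting with `Ω(R)`. -/
theorem Setup.exists_torus (c : F) (hc : c ≠ 0) :
    ∃ n : Om R, S.Moves n (c * c) 1 ∧ ∀ g : ↥(commutator (orthGroup R)), n * embG R g = embG R g * n := by
  set P := plusPlane R
  obtain ⟨r, hr⟩ : ∃ r : orthGroup P, r = refl P (ee - ff) := ⟨_, rfl⟩
  set t := torus P ee ff c
  have hr0 : r.1 ee = ff ∧ r.1 ff = ee := by
    have hd : P (ee - ff) ≠ 0 := by simp [P, plusPlane_apply, ee, ff]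
    refine ⟨hr ▸ refl_sub_apply P (by simp [P, q_ee, q_ff]) hd, ?_⟩
    rw [hr]
    have h1 := congrArg (refl P (ee - ff)).1 (refl_sub_apply P (x := ee) (y := ff) (by simp [P, q_ee, q_ff]) hd)
    exact h1.symm.trans (reflFun_reflFun P _ _)
  have hrf : ∀ u, r.1 (iw u) = iw u := fun u => by
    rw [hr]; exact refl_fix P (by simp [P, plusPlane_polar, ee, ff, iw])
  have htf : ∀ u, t.1 (iw u) = iw u := fun u => torus_fix P c (b_ee_iw R _) (b_ff_iw R _)
  have htp := torus_pair P (q_ee R) (q_ff R) (by simp [P, plusPlane_polar, ee, ff]) hc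
  have hmem : t * r * t⁻¹ * r⁻¹ ∈ commutator (orthGroup P) := by
    rw [commutator_def, ← commutatorElement_def]
    exact Subgroup.commutator_mem_commutator (Subgroup.mem_top t) (Subgroup.mem_top r)
  have hinv : ∀ (g : orthGroup P) (a b : W × (F × F)), g.1 a = b → (g⁻¹).1 b = a := fun g a b h => by
    show g.1.symm b = a
    rw [LinearEquiv.symm_apply_eq, h]
  have h1 : (t * r * t⁻¹ * r⁻¹).1 ee = (c * c) • ee := by
    show t.1 (r.1 ((t⁻¹).1 ((r⁻¹).1 ee))) = _
    rw [hinv r ff ee hr0.2, hinv t (c • ff) ff (by rw [map_smul, htp.2, smul_smul, mul_inv_cancel₀ hc, one_smul]),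
      map_smul, hr0.2, map_smul, htp.1, smul_smul]
  have h1' : (t * r * t⁻¹ * r⁻¹).1 ff = (c * c)⁻¹ • ff := by
    show t.1 (r.1 ((t⁻¹).1 ((r⁻¹).1 ff))) = _
    rw [hinv r ee ff hr0.1, hinv t (c⁻¹ • ee) ee (by rw [map_smul, htp.1, smul_smul, inv_mul_cancel₀ hc, one_smul]),
      map_smul, hr0.1, map_smul, htp.2, smul_smul, mul_inv]
  have h2 : ∀ u, (t * r * t⁻¹ * r⁻¹).1 (iw u) = iw u := fun u => by
    show t.1 (r.1 ((t⁻¹).1 ((r⁻¹).1 (iw u)))) = _
    rw [hinv r _ _ (hrf u), hinv t _ _ (htf u), hrf, htf]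
  refine ⟨⟨_, hmem⟩, S.moves_of (mul_ne_zero hc hc) h1 h2, fun g => ?_⟩
  refine Subtype.ext (Subtype.ext (LinearEquiv.ext fun v => ?_))
  show (t * r * t⁻¹ * r⁻¹).1 ((emb R g.1).1 v) = (emb R g.1).1 ((t * r * t⁻¹ * r⁻¹).1 v)
  conv_rhs => rw [split v]
  rw [split ((emb R g.1).1 v)]
  simp only [map_add, map_smul, h1, h1', h2, emb_apply]
  simp [iw, ee, ff]

/-- Transport of two orthogonal pairs, as seen on annihilators. -/
theorem Setup.exists_move_pairs (hp hp' : HypPairs R) :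
    ∃ (n : Om R) (α : F) (σ : orthGroup R), α ≠ 0 ∧ S.Moves n α σ ∧
      α⁻¹ • σ.1 hp.e₀ = hp'.e₀ ∧ α⁻¹ • σ.1 hp.e₁ = hp'.e₁ := by
  obtain ⟨g, hg, h0, μ, hμ, h1⟩ := exists_pair_move S.nd S.good S.five hp hp'
  obtain ⟨n, τ, hn, -, hτ, hτ'⟩ := S.exists_scale (swapFirst hp') hμ
  refine ⟨n * embG R ⟨g, hg⟩, μ * 1, τ * g, by rwa [mul_one], S.moves_mul hn (S.moves_emb _), ?_, ?_⟩
  · show (μ * 1)⁻¹ • τ.1 (g.1 hp.e₀) = _
    rw [mul_one, h0, show τ.1 hp'.e₀ = μ • hp'.e₀ from hτ, smul_smul, inv_mul_cancel₀ hμ, one_smul]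
  · show (μ * 1)⁻¹ • τ.1 (g.1 hp.e₁) = _
    rw [mul_one, h1, map_smul, hτ' hp'.e₁ hp'.hfe hp'.hee, smul_smul, inv_mul_cancel₀ hμ, one_smul]

/-- Transport inside a square class of non-singular vectors, as seen on annihilators. -/
theorem Setup.exists_move_class {u v : W} (hu : R u ≠ 0) {β : F} (hβ : β ≠ 0) (h : R v = β * β * R u) :
    ∃ (n : Om R) (α : F) (σ : orthGroup R), α ≠ 0 ∧ S.Moves n α σ ∧ α⁻¹ • σ.1 u = v := by
  obtain ⟨hp⟩ := S.hypW
  obtain ⟨n, σ, hn, -⟩ := S.exists_scale hp (inv_ne_zero hβ)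
  have hq : R (β • σ.1 u) = R v := by rw [quad_smul', apply_quad, h]
  obtain ⟨g, hg, he⟩ := exists_sphere_move S.nd S.good S.five hp
    (by rw [hq, h]; exact mul_ne_zero (mul_ne_zero hβ hβ) hu) hq
  refine ⟨embG R ⟨g, hg⟩ * n, 1 * β⁻¹, g * σ, by rw [one_mul]; exact inv_ne_zero hβ,
    S.moves_mul (S.moves_emb _) hn, ?_⟩
  show (1 * β⁻¹)⁻¹ • g.1 (σ.1 u) = v
  rw [one_mul, inv_inv, ← map_smul, he]

/-- A Siegel transformation of `W` is conjugate to an element of the radical of equal norm. -/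
theorem Setup.exists_conj_radical {g : ↥(commutator (orthGroup R))} {a c : W} (ha0 : a ≠ 0)
    (hg : IsSiegel g.1 a c) : ∃ (n : Om R) (u : W), n * embG R g * n⁻¹ = S.x u ∧ R u = R c := by
  obtain ⟨hp⟩ := S.hypV
  obtain ⟨k, hk, hka⟩ := exists_sing_move S.ndV S.goodV S.five' hp
    (a := iw a) (b := ee) (by rw [q_iw]; exact hg.1)
    (fun h0 => ha0 (congrArg Prod.fst h0)) (q_ee R) (by simp [ee])
  have h := (S.embG_siegel hg).conj k
  rw [hka] at h
  refine ⟨⟨k, hk⟩, (k.1 (iw c)).1, S.x_of_siegel h, ?_⟩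
  have h2 : (k.1 (iw c)).2.2 = 0 := by simpa [plusPlane_polar, ee] using h.2.1
  have := apply_quad k (iw c)
  rw [q_iw, plusPlane_apply, h2, mul_zero, add_zero] at this
  exact this

end CfsgLib.KnownA.MinIndexOrth
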