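import Cfsg.Agent.Lib.KnownA.MinIndexOrth.SmallRegular

/-!
# Minimal index in orthogonal groups: the main case analysis
-/

set_option autoImplicit false
set_option linter.unusedSectionVars false

open Module QuadraticMap CfsgLib.Orth CfsgLib.Classical Finset

namespace CfsgLib.KnownA.MinIndexOrth

variable {F W : Type*} [Field F] [Fintype F] [AddCommGroup W] [Module F W] [FiniteDimensional F W]
  [Fintype W] [DecidableEq W] {R : QuadraticForm F W} {Ω : Type*} [Fintype Ω] [DecidableEq Ω]

/-- The numerical facts used: `N` is the number of points, `P` the number of points of `W`, `t` the Witt bound. -/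
structure Num (R : QuadraticForm F W) (p P N t : ℕ) : Prop where
  hsing : (Fintype.card F - 1) * P = (sing R).card
  hN : N = Fintype.card W + Fintype.card F * P + 1
  hpts : Nat.card (SingPts (plusPlane R)) = N
  hX : Fintype.card F * P + 1 ≤ Fintype.card W
  hdich : (∀ u, R u ≠ 0 → N ≤ p * (cls R u).card) ∨
    (Fintype.card F = p ∧ p ≤ 3 ∧ 6 ≤ finrank F W ∧ ∀ u, R u ≠ 0 → N ≤ 2 * p * (cls R u).card)
  hreg : 4 ≤ Fintype.card F ∨ (Fintype.card F = p ∧ p ≤ 3 ∧ ∃ hp : HypPairs R, Mobile R hp)
  hcls : ∀ u, R u ≠ 0 → (Fintype.card F - 1) * (Fintype.card F * P + 1) ≤ Fintype.card F * (cls R u).card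
  hts : ∀ T : Submodule F W, (∀ v ∈ T, R v = 0) → finrank F T ≤ t
  hpp : (Fintype.card F * P + 1) * Fintype.card F ^ t ≤ (pairs R).card
  hmax : N * ((Fintype.card F ^ t - 1) * (Fintype.card F ^ t - 1)) ≤ (pairs R).card * Fintype.card F ^ t ∨
    (4 ≤ Fintype.card F ∧ (finrank F W = 2 * t ∨ (finrank F W = 2 * t + 1 ∧ (2 : F) ≠ 0)) ∧
      N * Fintype.card F ^ t ≤ 2 * (pairs R).card ∧
      ∀ C, C * ((Fintype.card F ^ t - 1) * (Fintype.card F ^ t - Fintype.card F)) =
          (pairs R).card * Fintype.card F ^ t →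
        (N - C) * (N - C) < 4 * C ∧ (∀ u, R u ≠ 0 → N ≤ C + (cls R u).card) ∧ N ≤ C + (sing R).card)

namespace Act

variable (A : Act R Ω)

/-- A scalar-closed orbit stable under the torus and under a commuting element has a common fixed point. -/
theorem exists_fixed {g : ↥(commutator (orthGroup R))} {n : Om R} {μ : F} (hn : A.S.Moves n μ 1) (hμ : μ ≠ 1)
    (hcomm : n * embG R g = embG R g * n) {ω : Ω} (hclosed : ∀ y ∈ A.ann ω, ∀ t : F, t • y ∈ A.ann ω)
    (hns : A.π n ω ∈ A.orb ω) (hgs : ∀ ν ∈ A.orb ω, A.π (embG R g) ν ∈ A.orb ω) :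
    ∃ ν ∈ A.orb ω, A.π (embG R g) ν = ν := by
  have hmove : ∀ v ν, A.π n (A.π (A.S.x v) ν) = A.π (A.S.x (μ • v)) (A.π n ν) := fun v ν => by
    rw [← A.pi_moves hn v ν]; rfl
  have hμ' : 1 - μ ≠ 0 := sub_ne_zero.2 (Ne.symm hμ)
  obtain ⟨v₀, hv₀⟩ := A.mem_orb.1 hns
  set v := (1 - μ)⁻¹ • v₀
  set ν := A.π (A.S.x v) ω
  have hν : ν ∈ A.orb ω := A.mem_orb.2 ⟨v, rfl⟩
  have hfix : A.π n ν = ν := by
    have e : μ • v + v₀ = v := by
      simp only [v, smul_smul]
      match_scalars
      field_simp
      ring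
    show A.π n (A.π (A.S.x v) ω) = _
    rw [hmove, ← hv₀, ← A.pi_add, e]
  obtain ⟨w, hw⟩ : ∃ w, A.π (A.S.x w) ν = A.π (embG R g) ν := by
    have h := hgs ν hν
    rw [← A.orb_eq hν] at h
    exact A.mem_orb.1 h
  refine ⟨ν, hν, ?_⟩
  have hfix' : A.π n (A.π (embG R g) ν) = A.π (embG R g) ν := by
    rw [← Equiv.Perm.mul_apply, ← map_mul, hcomm, map_mul, Equiv.Perm.mul_apply, hfix]
  rw [← hw, hmove, hfix] at hfix'
  have hmem : μ • w - w ∈ A.stab ν := by
    rw [mem_stab]
    apply (A.π (A.S.x w)).injective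
    rw [← A.pi_add, add_sub_cancel, hfix']
  have : w ∈ A.stab ν := by
    refine A.mem_stab_of fun y hy => ?_
    rw [A.ann_eq hν] at hy
    have h0 := A.polar_eq_zero_of hmem (y := y) (by rw [A.ann_eq hν]; exact hclosed y hy)
    have e : polar R y (μ • w - w) = (μ - 1) * polar R y w := by
      rw [polar_sub_right, polar_smul_r']; ring
    rw [e] at h0
    exact (mul_eq_zero.1 h0).resolve_left (sub_ne_zero.2 hμ)
  rw [← hw]
  exact this

theorem fx_siegel {g : ↥(commutator (orthGroup R))} {a c : W} (ha : a ≠ 0) (hg : IsSiegel g.1 a c)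
    (hc : R c ≠ 0) : A.fx (embG R g) = A.fx (A.S.x c) := by
  obtain ⟨n, u, hn, hu⟩ := A.S.exists_conj_radical ha hg
  obtain ⟨hp⟩ := A.S.hypW
  obtain ⟨k, hk, hku⟩ := exists_sphere_move A.S.nd A.S.good A.S.five hp hc hu.symm
  have h2 := A.S.moves_emb ⟨k, hk⟩ c
  rw [one_smul, hku] at h2
  rw [← A.fx_conj n, hn, ← h2, A.fx_conj]

theorem fixed_iff {v : W} {ω : Ω} : A.π (A.S.x v) ω = ω ↔ v ∈ A.stab ω := Iff.rfl

/-- Only lines: no moved point exists. -/
theorem lines_only (h : ∀ ω : Ω, (A.orb ω).card ≠ 1 → A.Line ω) : False := by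
  obtain ⟨ω, hω⟩ := A.exists_moved
  obtain ⟨u, hu0, huω, hl⟩ := h ω hω
  obtain ⟨a, c, ha, hac, hc, huc, hua⟩ := A.S.exists_witness hu0
  have ha0 : a ≠ 0 := fun e => hua (by rw [e, polar_zero_right])
  obtain ⟨g, hg⟩ := A.S.exists_sgl ha hac
  have key : ∀ ν, A.π (embG R g) ν = ν → ∀ y ∈ A.ann ν, polar R y c = 0 ∧ polar R y a = 0 := by
    intro ν hν y hy
    by_cases h1 : (A.orb ν).card = 1
    · have hy0 : y = 0 := by
        rw [← A.card_ann] at h1
        obtain ⟨z, hz⟩ := Finset.card_eq_one.1 h1
        have h2 := A.zero_mem ν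
        rw [hz, mem_singleton] at h2 hy
        rw [hy, h2]
      simp [hy0]
    obtain ⟨u', hu'0, hu', hl'⟩ := h ν h1
    have hz := (A.ann_moves (A.S.moves_emb g) one_ne_zero).1 hu'
    rw [inv_one, one_smul, hν, hg.2.2] at hz
    obtain ⟨s, hs⟩ := hl' _ hz
    obtain ⟨t, rfl⟩ := hl' y hy
    -- pair the image with `a`
    have h2 := congrArg (polar R a) hs
    simp only [polar_add_right, polar_smul_r', hac, polar_self', ha, mul_zero, add_zero] at h2
    have hau : polar R a u' = 0 := by
      by_contra hne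
      have hs1 : s = 1 := (mul_right_cancel₀ hne (by rw [one_mul]; exact h2)).symm
      rw [hs1, one_smul, add_assoc, add_eq_left] at hs
      have h3 := congrArg R hs
      rw [QuadraticMap.map_zero, quad_add', quad_smul', quad_smul', polar_smul_l', polar_smul_r',
        polar_comm _ c a, hac, ha] at h3
      simp [hne, hc] at h3
    rw [hau] at hs
    simp only [zero_smul, add_zero, mul_zero, sub_zero] at hs
    have hcu : polar R c u' = 0 := by
      by_contra hne
      have e1 : (-polar R c u') • a = (s - 1) • u' := by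
        rw [sub_smul, one_smul, ← hs]; abel
      have h4 := congrArg (polar R c) e1
      rw [polar_smul_r', polar_smul_r', polar_comm _ c a, hac, mul_zero] at h4
      have hs1 : s - 1 = 0 := by
        rcases mul_eq_zero.1 h4.symm with h5 | h5
        · exact h5
        · exact absurd h5 hne
      rw [hs1, zero_smul, smul_eq_zero] at e1
      exact e1.elim (fun e => hne (neg_eq_zero.1 e)) ha0
    exact ⟨by rw [polar_smul_l', polar_comm, hcu, mul_zero], by rw [polar_smul_l', polar_comm, hau, mul_zero]⟩
  have hsub : (univ.filter fun ν => A.π (embG R g) ν = ν) ⊆ univ.filter fun ν => A.π (A.S.x c) ν = ν := by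
    intro ν hν
    rw [mem_filter] at hν ⊢
    exact ⟨hν.1, A.mem_stab_of fun y hy => (key ν hν.2 y hy).1⟩
  have heq := Finset.eq_of_subset_of_card_le hsub (A.fx_siegel ha0 hg hc).ge
  have hω' : ω ∈ univ.filter fun ν => A.π (A.S.x c) ν = ν := by
    rw [mem_filter]
    refine ⟨mem_univ _, A.mem_stab_of fun y hy => ?_⟩
    obtain ⟨t, rfl⟩ := hl y hy
    rw [polar_smul_l', huc, mul_zero]
  rw [← heq, mem_filter] at hω'
  exact hua (key ω hω'.2 u huω).2

variable {p P N t : ℕ}

theorem exists_scalar (hq : 4 ≤ Fintype.card F) : ∃ l : F, l ≠ 0 ∧ l * l ≠ 1 := by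
  classical
  by_contra! hall
  have hsub : (univ : Finset F) ⊆ {0, 1, -1} := fun l _ => by
    by_cases hl : l = 0
    · simp [hl]
    · rcases mul_self_eq_one_iff.1 (hall l hl) with rfl | rfl <;> simp
  have := (Finset.card_le_card hsub).trans Finset.card_le_three
  rw [Finset.card_univ] at this
  omega

/-- The dichotomy supplied by the numerical hypotheses. -/
theorem dich_of [Fact p.Prime] [CharP F p] (H : Num R p P N t) (hcard : Fintype.card Ω < N) (ω : Ω) (u : W)
    (hu : R u ≠ 0) (huU : u ∈ A.ann ω) :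
    (∀ w, w ∈ A.ann ω) ∨ ∀ w, w ∈ A.ann ω → ∃ t : F, w = t • u := by
  rcases H.hdich with h | ⟨hF, h3, hd, h⟩
  · exact A.all_or_line (fun v => A.above_lt hcard h) hu huU
  · exact A.all_or_line_of (fun v hv hvU => A.dichotomy_small hF h3 hd hv hvU (A.above_lt hcard h hv)) hu huU

/-- Only one regular orbit and fixed points. -/
theorem regular_only [Fact p.Prime] [CharP F p] (H : Num R p P N t) {ω : Ω} (hreg : A.Reg ω)
    (hrest : ∀ ν : Ω, (A.orb ν).card ≠ 1 → ν ∈ A.orb ω) : False := by
  have hstab : ∀ ν ∈ A.orb ω, ∀ v, v ∈ A.stab ν → v = 0 := fun ν hν v hv => by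
    refine eq_zero_of_polar A.S.nd fun y => ?_
    rw [polar_comm]
    exact A.polar_eq_zero_of hv fun c => (Reg.congr hν hreg) _
  have hnofix := A.no_fixed fun u hu0 _ ν hν => by
    by_contra h1
    exact hu0 (hstab ν (hrest ν h1) u hν)
  obtain ⟨hp⟩ := A.S.hypW
  set c := hp.e₁ + hp.f₁
  have hc : R c ≠ 0 := by simp [c, quad_add', hp.he₁, hp.hf₁, hp.h11]
  have hc0 : c ≠ 0 := fun e => hc (by rw [e, QuadraticMap.map_zero])
  obtain ⟨g, hg⟩ := A.S.exists_sgl (d := hp.e₀) (c := c) hp.he₀
    (by simp [c, polar_add_right, hp.hee, hp.hef])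
  have h0 : A.fx (A.S.x c) = 0 := by
    rw [fx, Finset.card_eq_zero, Finset.filter_eq_empty_iff]
    exact fun ν _ hν => hc0 (hstab ν (hrest ν (hnofix ν)) c hν)
  rcases H.hreg with hq | ⟨hF, h3, hp', hY⟩
  swap
  · exact A.regular_small hF h3 hY hreg fun ν => hrest ν (hnofix ν)
  obtain ⟨l, hl0, hl⟩ := exists_scalar hq
  obtain ⟨n, hn, hcomm⟩ := A.S.exists_torus l hl0
  obtain ⟨ν, -, hν⟩ := A.exists_fixed hn hl (hcomm g) (fun y _ t => hreg _)
    (hrest _ (hnofix _)) (fun ν _ => hrest _ (hnofix _))
  have := A.fx_siegel hp.e₀_ne_zero hg hc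
  rw [h0, fx, Finset.card_eq_zero, Finset.filter_eq_empty_iff] at this
  exact this (mem_univ ν) hν

/-- No small action with a regular orbit. -/
theorem no_regular [Fact p.Prime] [CharP F p] (H : Num R p P N t) (hcard : Fintype.card Ω < N) {ω : Ω}
    (hreg : A.Reg ω) : False := by
  classical
  have hk := A.dich_of H hcard
  have hXω := A.card_reg hreg
  have hN := H.hN
  have hq : 2 ≤ Fintype.card F := Fintype.one_lt_card
  have hregsum : Fintype.card W ≤ ∑ O ∈ A.kind A.Reg, O.card := by
    rw [← hXω]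
    exact Finset.single_le_sum (f := Finset.card) (fun _ _ => Nat.zero_le _)
      (A.mem_kind.2 ⟨A.orb_mem ω, ω, A.self_mem ω, hreg⟩)
  have huniq : ∀ ν, A.Reg ν → ν ∈ A.orb ω := by
    intro ν hν
    by_contra hmem
    have hne : A.orb ν ≠ A.orb ω := fun e => hmem (e ▸ A.self_mem ν)
    have h2 : Fintype.card W + Fintype.card W ≤ ∑ O ∈ A.kind A.Reg, O.card := by
      have h3 := Finset.sum_le_sum_of_subset (f := Finset.card) (s := ({A.orb ν, A.orb ω} : Finset (Finset Ω)))
        (t := A.kind A.Reg) (by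
          intro O hO
          rw [mem_insert, mem_singleton] at hO
          rcases hO with rfl | rfl
          · exact A.mem_kind.2 ⟨A.orb_mem ν, ν, A.self_mem ν, hν⟩
          · exact A.mem_kind.2 ⟨A.orb_mem ω, ω, A.self_mem ω, hreg⟩)
      rw [Finset.sum_pair hne, A.card_reg hν, hXω] at h3
      exact h3
    have := A.sum_kind_le A.Reg
    have := H.hX
    omega
  by_cases hline : ∃ ν, A.Line ν
  swap
  · by_cases hbig : ∃ ν, A.Big ν
    · obtain ⟨ν, hν⟩ := hbig
      have hB : ∀ μ, A.Big μ → (A.orb μ).card ≤ (Fintype.card F) ^ t := by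
        intro μ hμ
        rw [← A.card_ann]
        have hspan : ∀ v ∈ Submodule.span F ((A.ann μ : Finset W) : Set W), R v = 0 := by
          intro v hv
          induction hv using Submodule.span_induction with
          | mem x hx => exact hμ.1 x hx
          | zero => exact QuadraticMap.map_zero R
          | add x y hx' hy' hx hy =>
            have hpol : polar R x y = 0 := by
              clear hx hy
              induction hx' using Submodule.span_induction with
              | mem x hx =>
                induction hy' using Submodule.span_induction with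
                | mem y hy =>
                  simp only [polar, hμ.1 _ (A.ann_add hx hy), hμ.1 x hx, hμ.1 y hy, sub_zero]
                | zero => exact polar_zero_right (Q := R) x
                | add y z _ _ h1 h2 => rw [polar_add_right, h1, h2, add_zero]
                | smul c y _ h1 => rw [polar_smul_r', h1, mul_zero]
              | zero => exact polar_zero_left (Q := R) y
              | add x z _ _ h1 h2 => rw [polar_add_left, h1, h2, add_zero]
              | smul c x _ h1 => rw [polar_smul_l', h1, mul_zero]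
            rw [quad_add', hx, hy, hpol]; simp
          | smul c x _ hx => rw [quad_smul', hx, mul_zero]
        set T := Submodule.span F ((A.ann μ : Finset W) : Set W)
        have h1 : (A.ann μ).card ≤ Nat.card T := by
          rw [← Nat.card_eq_finsetCard]
          exact Nat.card_le_card_of_injective (fun v => (⟨v.1, Submodule.subset_span v.2⟩ : T))
            (fun a b e => Subtype.ext (congrArg Subtype.val e :))
        rw [Module.natCard_eq_pow_finrank (K := F), Nat.card_eq_fintype_card] at h1
        exact h1.trans (Nat.pow_le_pow_right (by omega) (H.hts T hspan))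
      have h1 := A.pair_cover A.Big ((Fintype.card F) ^ t) 1 hB fun z hz => A.above2_pos A.Big
        (fun hn hα ω h => A.big_moves hn hα h) hν hν hz
      have h2 := A.sum_two_kinds A.Reg A.Big fun a b hb ha hb' => A.reg_not_big (Reg.congr hb ha) hb'
      have h3 : (Fintype.card F * P + 1) * (Fintype.card F) ^ t ≤ (Fintype.card F) ^ t * ∑ O ∈ A.kind A.Big, O.card := by
        refine H.hpp.trans ?_
        simpa using h1
      rw [mul_comm] at h3
      have := Nat.le_of_mul_le_mul_left h3 (Nat.pos_of_ne_zero (by positivity))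
      omega
    · push Not at hline hbig
      refine A.regular_only H hreg fun ν hν => ?_
      rcases A.classify hk hν with h | h | h
      · exact huniq ν h
      · exact absurd h (hline ν)
      · exact absurd h (hbig ν)
  obtain ⟨ν, hν⟩ := hline
  have h2 := A.sum_two_kinds A.Reg A.Line fun a b hb ha hb' => A.reg_not_line (Reg.congr hb ha) hb'
  obtain ⟨u, hu0, huν, hl⟩ := id hν
  obtain ⟨j, hj⟩ : ∃ j, Fintype.card F = j + 1 := ⟨Fintype.card F - 1, by omega⟩
  by_cases hu : R u = 0
  swap
  · have h1 := A.cls_cover hu hν huν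
    have h3 := (H.hcls u hu).trans h1
    have := Nat.le_of_mul_le_mul_left h3 (show 0 < Fintype.card F - 1 by omega)
    omega
  have h1 := A.sing_cover hu hu0 hν huν
  rw [← H.hsing, ← mul_assoc, mul_comm (Fintype.card F), mul_assoc] at h1
  have hLs := Nat.le_of_mul_le_mul_left h1 (show 0 < Fintype.card F - 1 by omega)
  change Fintype.card F * P ≤ _ at hLs
  have hcardeq : Fintype.card Ω = Fintype.card W + Fintype.card F * P := by omega
  -- no fixed points
  have hRS : (univ.filter fun μ => A.RS μ ee).card = Fintype.card F * P := by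
    have hcompl : (univ.filter fun μ => A.RS μ ee) = univ \ A.orb ω := by
      ext μ
      simp only [mem_filter, mem_univ, true_and, mem_sdiff, A.RS_ee]
      constructor
      · rintro ⟨v, hv0, hv⟩ hμ
        refine hv0 (eq_zero_of_polar A.S.nd fun y => ?_)
        rw [polar_comm]
        exact A.polar_eq_zero_of hv fun c => (Reg.congr hμ hreg) _
      · intro hμ
        by_contra! hnone
        apply hμ
        apply huniq
        have hbot : A.stab μ = ⊥ := (AddSubgroup.eq_bot_iff_forall _).2 fun v hv => by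
          by_contra hv0
          exact hnone v hv0 hv
        have hcard' : (A.ann μ).card = Fintype.card W := by
          rw [A.card_ann, ← A.card_orb, hbot, ← Nat.card_eq_fintype_card]
          exact Nat.card_congr (QuotientAddGroup.quotientBot (G := W)).toEquiv
        intro w
        rw [Finset.eq_univ_of_card _ hcard']
        exact mem_univ w
    rw [hcompl, Finset.card_sdiff_of_subset (subset_univ _), Finset.card_univ, hXω, hcardeq]
    omega
  have hdvd := A.card_dvd (fun μ d => A.RS μ d) (fun k _ _ => A.RS_map k) (fun _ _ _ ht => A.RS_smul ht)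
  rw [H.hpts, hRS] at hdvd
  have hNn : N = Fintype.card Ω + 1 := by omega
  rw [hNn, add_one_mul] at hdvd
  have hd2 : Fintype.card Ω ∣ Fintype.card F * P := (Nat.dvd_add_right (dvd_mul_right _ _)).1 hdvd
  have hP0 : 0 < Fintype.card F * P := by
    obtain ⟨hp⟩ := A.S.hypW
    have : 0 < (sing R).card := Finset.card_pos.2 ⟨hp.e₀, mem_sing.2 ⟨hp.e₀_ne_zero, hp.he₀⟩⟩
    rw [← H.hsing] at this
    exact Nat.mul_pos (by omega) (Nat.pos_of_mul_pos_left this)
  have := Nat.le_of_dvd hP0 hd2
  have := Fintype.card_pos (α := W)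
  omega

end Act

end CfsgLib.KnownA.MinIndexOrth
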