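import Cfsg.Agent.Lib.KnownA.MinIndexOrth.Main

/-!
# Minimal index in orthogonal groups: maximal singular annihilators, and the bound
-/

set_option autoImplicit false
set_option linter.unusedSectionVars false

open Module QuadraticMap CfsgLib.Orth CfsgLib.Classical Finset

namespace CfsgLib.KnownA.MinIndexOrth

variable {F W : Type*} [Field F] [Fintype F] [AddCommGroup W] [Module F W] [FiniteDimensional F W]
  [Fintype W] [DecidableEq W] {R : QuadraticForm F W} {Ω : Type*} [Fintype Ω] [DecidableEq Ω]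
  {p P N t : ℕ}

theorem polar_of_singular_add {a b : W} (ha : R a = 0) (hb : R b = 0) (hab : R (a + b) = 0) :
    polar R a b = 0 := by
  simp only [polar, hab, ha, hb, sub_zero]

theorem singular_span {s : Set W} (h0 : ∀ v ∈ s, R v = 0) (h1 : ∀ a ∈ s, ∀ b ∈ s, polar R a b = 0) :
    ∀ v ∈ Submodule.span F s, R v = 0 := by
  intro v hv
  induction hv using Submodule.span_induction with
  | mem x hx => exact h0 x hx
  | zero => exact QuadraticMap.map_zero R
  | add x y hx' hy' hx hy =>
    have hpol : polar R x y = 0 := by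
      clear hx hy
      induction hx' using Submodule.span_induction with
      | mem x hx =>
        induction hy' using Submodule.span_induction with
        | mem y hy => exact h1 x hx y hy
        | zero => exact polar_zero_right (Q := R) x
        | add y z _ _ e1 e2 => rw [polar_add_right, e1, e2, add_zero]
        | smul c y _ e1 => rw [polar_smul_r', e1, mul_zero]
      | zero => exact polar_zero_left (Q := R) y
      | add x z _ _ e1 e2 => rw [polar_add_left, e1, e2, add_zero]
      | smul c x _ e1 => rw [polar_smul_l', e1, mul_zero]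
    rw [quad_add', hx, hy, hpol]; simp
  | smul c x _ hx => rw [quad_smul', hx, mul_zero]

/-- The independent pairs inside a subspace. -/
theorem card_indep_pairs (T : Submodule F W) [DecidablePred (· ∈ T)]
    [DecidablePred fun z : W × W => LinearIndependent F ![z.1, z.2]] :
    ((univ.filter fun z : W × W => z.1 ∈ T ∧ z.2 ∈ T).filter fun z => LinearIndependent F ![z.1, z.2]).card =
      (Fintype.card F ^ finrank F T - 1) * (Fintype.card F ^ finrank F T - Fintype.card F) := by
  classical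
  have hT : (univ.filter fun v => v ∈ T).card = Fintype.card F ^ finrank F T := by
    rw [← Nat.card_eq_fintype_card (α := F), ← Module.natCard_eq_pow_finrank, Nat.card_eq_fintype_card,
      Fintype.card_subtype]
  have hfib : ∀ a ∈ (univ.filter fun v => v ∈ T).erase 0,
      ((univ.filter fun v => v ∈ T).filter fun b => LinearIndependent F ![a, b]).card =
        Fintype.card F ^ finrank F T - Fintype.card F := by
    intro a ha
    rw [mem_erase, mem_filter] at ha
    have hline : ((univ.filter fun v => v ∈ T).filter fun b => ¬ LinearIndependent F ![a, b]) =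
        univ.image fun c : F => c • a := by
      ext b
      simp only [mem_filter, mem_univ, true_and, mem_image, LinearIndependent.pair_iff' ha.1, not_forall,
        not_not, eq_comm (b := b)]
      constructor
      · rintro ⟨-, c, hc⟩; exact ⟨c, hc⟩
      · rintro ⟨c, rfl⟩; exact ⟨T.smul_mem c ha.2.2, c, rfl⟩
    have := Finset.card_filter_add_card_filter_not (s := univ.filter fun v => v ∈ T)
      (fun b => LinearIndependent F ![a, b])
    rw [hline, Finset.card_image_of_injective _ (smul_left_injective F ha.1), Finset.card_univ, hT] at this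
    omega
  have hdec : ((univ.filter fun z : W × W => z.1 ∈ T ∧ z.2 ∈ T).filter fun z =>
      LinearIndependent F ![z.1, z.2]).card =
      ∑ a ∈ (univ.filter fun v => v ∈ T).erase 0,
        ((univ.filter fun v => v ∈ T).filter fun b => LinearIndependent F ![a, b]).card := by
    rw [← Finset.card_sigma]
    refine Finset.card_bij (fun z _ => ⟨z.1, z.2⟩) ?_ ?_ ?_
    · intro z hz
      simp only [mem_filter, mem_univ, true_and] at hz
      simp only [Finset.mem_sigma, mem_erase, mem_filter, mem_univ, true_and]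
      exact ⟨⟨by simpa using hz.2.ne_zero 0, hz.1.1⟩, hz.1.2, hz.2⟩
    · intro a _ b _ h
      simp only [Sigma.mk.injEq, heq_eq_eq] at h
      exact Prod.ext h.1 h.2
    · rintro ⟨a, b⟩ h
      simp only [Finset.mem_sigma, mem_erase, mem_filter, mem_univ, true_and] at h
      exact ⟨(a, b), by simp [h.1.2, h.2.1, h.2.2], rfl⟩
  rw [hdec, Finset.sum_congr rfl hfib, Finset.sum_const, smul_eq_mul,
    Finset.card_erase_of_mem (by simp [T.zero_mem]), hT]

namespace Act

variable (A : Act R Ω)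

theorem big_span {ω : Ω} (hω : A.Big ω) (hts : ∀ T : Submodule F W, (∀ v ∈ T, R v = 0) → finrank F T ≤ t) :
    (A.ann ω).card ≤ Fintype.card F ^ t ∧
      (2 * (A.ann ω).card ≤ Fintype.card F ^ t ∨ ∃ T : Submodule F W, finrank F T = t ∧ (∀ v ∈ T, R v = 0) ∧
        ∀ v, v ∈ A.ann ω ↔ v ∈ T) := by
  classical
  set T := Submodule.span F ((A.ann ω : Finset W) : Set W)
  have hsing : ∀ v ∈ T, R v = 0 := singular_span hω.1 fun a ha b hb =>
    polar_of_singular_add (hω.1 a ha) (hω.1 b hb) (hω.1 _ (A.ann_add ha hb))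
  have hq : 1 ≤ Fintype.card F := Fintype.card_pos
  let G : AddSubgroup T :=
    { carrier := {v | (v : W) ∈ A.ann ω}
      zero_mem' := A.zero_mem ω
      add_mem' := fun ha hb => A.ann_add ha hb
      neg_mem' := fun ha => A.ann_neg ha }
  have hG : Nat.card G = (A.ann ω).card := by
    rw [← Nat.card_eq_finsetCard]
    exact Nat.card_congr
      { toFun := fun v => ⟨v.1.1, v.2⟩
        invFun := fun v => ⟨⟨v.1, Submodule.subset_span v.2⟩, v.2⟩
        left_inv := fun v => rfl
        right_inv := fun v => rfl }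
  have hidx := G.index_mul_card
  rw [hG, Module.natCard_eq_pow_finrank (K := F), Nat.card_eq_fintype_card] at hidx
  have hle : Fintype.card F ^ finrank F T ≤ Fintype.card F ^ t := Nat.pow_le_pow_right hq (hts T hsing)
  have h0 : G.index ≠ 0 := AddSubgroup.index_ne_zero_of_finite
  constructor
  · refine le_trans ?_ hle
    rw [← hidx]
    exact Nat.le_mul_of_pos_left _ (Nat.pos_of_ne_zero h0)
  by_cases h1 : G.index = 1
  · rcases Nat.lt_or_ge (finrank F T) t with h2 | h2
    · left
      rw [← one_mul ((A.ann ω).card), ← h1, hidx]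
      have h3 : 2 * Fintype.card F ^ finrank F T ≤ Fintype.card F ^ (finrank F T + 1) := by
        rw [pow_succ, mul_comm]
        exact Nat.mul_le_mul_left _ Fintype.one_lt_card
      exact h3.trans (Nat.pow_le_pow_right hq h2)
    · right
      refine ⟨T, le_antisymm (hts T hsing) h2, hsing, fun v => ⟨fun hv => Submodule.subset_span hv, fun hv => ?_⟩⟩
      have : (⟨v, hv⟩ : T) ∈ G := by rw [AddSubgroup.index_eq_one.1 h1]; trivial
      exact this
  · left
    calc 2 * (A.ann ω).card ≤ G.index * (A.ann ω).card := Nat.mul_le_mul_right _ (by omega)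
      _ ≤ _ := hidx ▸ hle

/-- Covering the pairs, counted by pairs of non-zero vectors. -/
theorem pair_cover_sharp (K : Ω → Prop) (B : ℕ) (hB : ∀ ω, K ω → (A.orb ω).card ≤ B)
    (hk : ∀ z ∈ pairs R, 1 ≤ (A.above2 K z).card) :
    B * (pairs R).card ≤ (B - 1) * (B - 1) * ∑ O ∈ A.kind K, O.card := by
  classical
  obtain ⟨ω₀, -⟩ := A.two
  let rep : Finset Ω → Ω := fun O => if h : ∃ ω ∈ O, K ω then h.choose else ω₀
  have hrep : ∀ O ∈ A.kind K, rep O ∈ O ∧ K (rep O) := fun O hO => by
    have h := (A.mem_kind.1 hO).2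
    simp only [rep, dif_pos h]
    exact h.choose_spec
  calc B * (pairs R).card ≤ B * ∑ z ∈ pairs R, (A.above2 K z).card := by
        rw [Finset.card_eq_sum_ones]
        exact Nat.mul_le_mul_left _ (Finset.sum_le_sum hk)
    _ = ∑ O ∈ A.kind K, B * (A.pairsIn (rep O)).card := by
        rw [A.sum_above2 K rep fun O hO => (hrep O hO).1, Finset.mul_sum]
    _ ≤ ∑ O ∈ A.kind K, (B - 1) * (B - 1) * O.card := Finset.sum_le_sum fun O hO => by
      obtain ⟨h1, h2⟩ := hrep O hO
      have hOe := A.of_mem_orbs (A.mem_kind.1 hO).1 h1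
      have h3 : (A.pairsIn (rep O)).card ≤ ((A.ann (rep O)).card - 1) * ((A.ann (rep O)).card - 1) := by
        rw [← Finset.card_erase_of_mem (A.zero_mem (rep O)), ← Finset.card_product]
        refine Finset.card_le_card fun z hz => ?_
        simp only [pairsIn, mem_filter] at hz
        have hli := (mem_pairs.1 hz.1).2.2.2
        exact mem_product.2 ⟨mem_erase.2 ⟨by simpa using hli.ne_zero 0, hz.2.1⟩,
          mem_erase.2 ⟨by simpa using hli.ne_zero 1, hz.2.2⟩⟩
      rw [A.card_ann, ← hOe] at h3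
      have hle : O.card ≤ B := hOe ▸ hB _ h2
      refine (Nat.mul_le_mul_left _ h3).trans ?_
      -- `B (s - 1) ^ 2 ≤ (B - 1) ^ 2 s`
      obtain ⟨s, hs⟩ : ∃ s, O.card = s + 1 := ⟨O.card - 1, by
        have : 0 < O.card := Finset.card_pos.2 ⟨_, h1⟩
        omega⟩
      obtain ⟨b, rfl⟩ : ∃ b, B = b + 1 := ⟨B - 1, by omega⟩
      rw [hs] at hle ⊢
      simp only [Nat.add_sub_cancel]
      have hsb : s ≤ b := by omega
      have e1 : s * s ≤ b * b := Nat.mul_le_mul hsb hsb
      have e2 : b * (s * s) ≤ b * b * s := by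
        rw [mul_assoc b b]
        exact Nat.mul_le_mul_left _ (Nat.mul_le_mul_right _ hsb)
      calc (b + 1) * (s * s) = b * (s * s) + s * s := by ring
        _ ≤ b * b * s + b * b := Nat.add_le_add e2 e1
        _ = _ := by ring
    _ = _ := (Finset.mul_sum _ _ _).symm

/-- No small action without regular orbit and with a large singular annihilator. -/
theorem no_big [Fact p.Prime] [CharP F p] (H : Num R p P N t) (hcard : Fintype.card Ω < N)
    (hreg : ∀ ω, ¬ A.Reg ω) {ω₀ : Ω} (hω₀ : A.Big ω₀) : False := by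
  classical
  have hk := A.dich_of H hcard
  have hBle : ∀ ω, A.Big ω → (A.orb ω).card ≤ Fintype.card F ^ t := fun ω hω => by
    rw [← A.card_ann]; exact (A.big_span hω H.hts).1
  have hpos : ∀ z ∈ pairs R, 1 ≤ (A.above2 A.Big z).card := fun z hz =>
    A.above2_pos A.Big (fun hn hα ω h => A.big_moves hn hα h) hω₀ hω₀ hz
  have hBn := A.sum_kind_le A.Big
  have hqt : 0 < Fintype.card F ^ t := pow_pos Fintype.card_pos t
  have hbound : ∀ {x : ℕ}, x ≤ Fintype.card F ^ t * ∑ O ∈ A.kind A.Big, O.card →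
      N * Fintype.card F ^ t ≤ x → False := by
    intro x h1 h2
    have h3 := h2.trans h1
    rw [mul_comm N] at h3
    have := Nat.le_of_mul_le_mul_left h3 hqt
    omega
  obtain hbad | ⟨hq4, hd, h2pp, hC⟩ := H.hmax
  · have h1 := A.pair_cover_sharp A.Big _ hBle hpos
    have hq2 : 2 ≤ Fintype.card F ^ t := by
      obtain ⟨T, hTt, hT0⟩ : ∃ T : Submodule F W, finrank F T ≤ t ∧ 0 < finrank F T := by
        obtain ⟨hp⟩ := A.S.hypW
        refine ⟨Submodule.span F {hp.e₀}, H.hts _ fun v hv => ?_, ?_⟩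
        · obtain ⟨s, rfl⟩ := Submodule.mem_span_singleton.1 hv
          rw [quad_smul', hp.he₀, mul_zero]
        · rw [finrank_span_singleton hp.e₀_ne_zero]; norm_num
      calc 2 ≤ Fintype.card F := Fintype.one_lt_card
        _ = Fintype.card F ^ 1 := (pow_one _).symm
        _ ≤ _ := Nat.pow_le_pow_right Fintype.card_pos (by omega)
    have hpos' : 0 < (Fintype.card F ^ t - 1) * (Fintype.card F ^ t - 1) := Nat.mul_pos (by omega) (by omega)
    have h3 := hbad.trans ((mul_comm _ _).trans_le h1)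
    rw [mul_comm N] at h3
    have h4 := Nat.le_of_mul_le_mul_left h3 hpos'
    exact absurd (h4.trans hBn) (Nat.not_le.2 hcard)
  -- every big annihilator is a maximal singular subspace
  have hfull : ∀ ω, A.Big ω → ∃ T : Submodule F W, finrank F T = t ∧ (∀ v ∈ T, R v = 0) ∧
      ∀ v, v ∈ A.ann ω ↔ v ∈ T := by
    intro ω hω
    refine (A.big_span hω H.hts).2.resolve_left fun hsmall => ?_
    let K : Ω → Prop := fun ν => A.Big ν ∧ 2 * (A.orb ν).card ≤ Fintype.card F ^ t
    have hK : ∀ {n : Om R} {α : F} {σ : orthGroup R}, A.S.Moves n α σ → α ≠ 0 → ∀ ν, K ν → K (A.π n ν) :=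
      fun hn hα ν h => ⟨A.big_moves hn hα h.1, by
        rw [A.orb_moves hn hα, Finset.card_image_of_injective _ (A.π _).injective]; exact h.2⟩
    have hKω : K ω := ⟨hω, by rw [← A.card_ann]; exact hsmall⟩
    have h1 := A.pair_cover K (Fintype.card F ^ t / 2) 1 (fun ν hν => by
        have := hν.2
        omega)
      fun z hz => A.above2_pos K hK hKω hω hz
    have h2 := A.sum_kind_le K
    rw [one_mul] at h1
    have h3 : 2 * (pairs R).card ≤ Fintype.card F ^ t * ∑ O ∈ A.kind K, O.card := by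
      refine (Nat.mul_le_mul_left 2 h1).trans ?_
      rw [← mul_assoc]
      exact Nat.mul_le_mul_right _ (Nat.mul_div_le _ _)
    have h4 := h2pp.trans h3
    rw [mul_comm N] at h4
    have := Nat.le_of_mul_le_mul_left h4 hqt
    omega
  have huniq : ∀ z ∈ pairs R, (A.above2 A.Big z).card = 1 := by
    intro z hz
    refine le_antisymm ?_ (hpos z hz)
    by_contra h
    push Not at h
    exact hbound (x := 2 * (pairs R).card) (A.pair_cover A.Big _ 2 hBle fun z' hz' =>
      (Nat.succ_le_of_lt h).trans (A.above2_moves A.Big (fun hn hα ω h => A.big_moves hn hα h) hz hz')) h2pp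
  obtain ⟨ω₁, -⟩ := A.two
  let rep : Finset Ω → Ω := fun O => if h : ∃ ω ∈ O, A.Big ω then h.choose else ω₁
  have hrep : ∀ O ∈ A.kind A.Big, rep O ∈ O ∧ A.Big (rep O) ∧ O = A.orb (rep O) := fun O hO => by
    have h := (A.mem_kind.1 hO).2
    simp only [rep, dif_pos h]
    exact ⟨h.choose_spec.1, h.choose_spec.2, A.of_mem_orbs (A.mem_kind.1 hO).1 h.choose_spec.1⟩
  set C := ∑ O ∈ A.kind A.Big, O.card with hCdef
  have hCeq : C * ((Fintype.card F ^ t - 1) * (Fintype.card F ^ t - Fintype.card F)) =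
      (pairs R).card * Fintype.card F ^ t := by
    have e1 := A.sum_above2 A.Big rep fun O hO => (hrep O hO).1
    rw [Finset.sum_congr rfl huniq, Finset.sum_const, smul_eq_mul, mul_one] at e1
    rw [e1, Finset.sum_mul, Finset.sum_mul]
    refine Finset.sum_congr rfl fun O hO => ?_
    obtain ⟨-, hb, hOe⟩ := hrep O hO
    obtain ⟨T, hT, hT0, hTann⟩ := hfull _ hb
    have hcardO : O.card = Fintype.card F ^ t := by
      conv_lhs => rw [hOe, ← A.card_ann]
      rw [← hT, ← Nat.card_eq_fintype_card (α := F), ← Module.natCard_eq_pow_finrank,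
        ← Nat.card_eq_finsetCard]
      exact Nat.card_congr (Equiv.subtypeEquivRight hTann)
    have hpin : (A.pairsIn (rep O)).card =
        (Fintype.card F ^ t - 1) * (Fintype.card F ^ t - Fintype.card F) := by
      rw [← hT, ← card_indep_pairs T]
      congr 1
      ext z
      simp only [pairsIn, mem_filter, mem_univ, true_and, hTann, mem_pairs]
      exact ⟨fun h => ⟨h.2, h.1.2.2.2⟩, fun h => ⟨⟨hT0 _ h.1.1, hT0 _ h.1.2,
        polar_of_singular_add (hT0 _ h.1.1) (hT0 _ h.1.2) (hT0 _ (T.add_mem h.1.1 h.1.2)), h.2⟩, h.1⟩⟩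
    rw [hpin, hcardO, mul_comm]
  obtain ⟨hdelta, hclsC, hsingC⟩ := hC C hCeq
  have hnoline : ∀ ν, ¬ A.Line ν := by
    intro ν hν
    obtain ⟨u, hu0, huν, hl⟩ := id hν
    have h2 := A.sum_two_kinds A.Big A.Line fun a b hb ha hb' => A.line_not_big hb' (Big.congr hb ha)
    have hqq : Fintype.card F - 1 ≤ Fintype.card F := Nat.sub_le _ _
    have hq1 : 0 < Fintype.card F - 1 := by omega
    by_cases hu : R u = 0
    · have h1 := A.sing_cover hu hu0 hν huν
      have := Nat.le_of_mul_le_mul_left ((Nat.mul_le_mul_right _ hqq).trans h1) hq1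
      omega
    · have h1 := A.cls_cover hu hν huν
      have := Nat.le_of_mul_le_mul_left ((Nat.mul_le_mul_right _ hqq).trans h1) hq1
      have := hclsC u hu
      omega
  have hkinds : ∀ ν : Ω, (A.orb ν).card ≠ 1 → A.Big ν := fun ν hν =>
    (A.classify hk hν).resolve_left (hreg ν) |>.resolve_left (hnoline ν)
  set f := (univ.filter fun ν => (A.orb ν).card = 1).card with hf
  have hn : Fintype.card Ω = f + C := by
    have hbigset : (univ.filter fun ν => ¬ (A.orb ν).card = 1) = univ.filter A.Big := by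
      refine Finset.filter_congr fun ν _ => ⟨hkinds ν, fun hb h1 => ?_⟩
      obtain ⟨-, a, b, ha, hb', hli⟩ := hb
      rw [← A.card_ann] at h1
      obtain ⟨z, hz⟩ := Finset.card_eq_one.1 h1
      have h2 := A.zero_mem ν
      rw [hz, mem_singleton] at h2 ha
      exact hli.ne_zero 0 (by simpa using ha.trans h2.symm)
    have e := Finset.card_filter_add_card_filter_not (s := (univ : Finset Ω)) (fun ν => (A.orb ν).card = 1)
    rw [Finset.card_univ, hbigset, A.sum_orbs A.Big] at e
    rw [← e, hf]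
    congr 1
    refine (Finset.sum_subset (fun O hO => (A.mem_kind.1 hO).1) fun O hO hO' => ?_).symm.trans
      (Finset.sum_congr rfl fun O hO => ?_)
    · rw [Finset.card_eq_zero, Finset.filter_eq_empty_iff]
      exact fun ν hν hb => hO' (A.mem_kind.2 ⟨hO, ν, hν, hb⟩)
    · congr 1
      rw [Finset.filter_eq_self]
      intro ν hν
      obtain ⟨-, hb, hOe⟩ := hrep O hO
      exact Big.congr (hOe ▸ hν) hb
  -- the element compared
  obtain ⟨T₀, hT₀, hT₀0, hT₀ann⟩ := hfull ω₀ hω₀
  obtain ⟨z₀, hz₀, hz1, hz2⟩ := A.big_pair hω₀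
  obtain ⟨hz₀a, hz₀b, hz₀c, hz₀d⟩ := mem_pairs.1 hz₀
  obtain ⟨hp0⟩ := A.S.hypW
  obtain ⟨hp, hpa, hpb⟩ := exists_pairs_at A.S.nd A.S.good hp0 hz₀a hz₀b hz₀c hz₀d
  obtain ⟨ν, hν0, hνavoid⟩ : ∃ ν : F, ν ≠ 0 ∧ ∀ v, (∀ y ∈ T₀, polar R y v = 0) → R v ≠ ν := by
    by_cases hc : ∃ c₀, (∀ y ∈ T₀, polar R y c₀ = 0) ∧ R c₀ ≠ 0
    swap
    · push Not at hc
      exact ⟨1, one_ne_zero, fun v hv e => one_ne_zero (e ▸ hc v hv)⟩
    obtain ⟨c₀, hc₀, hRc₀⟩ := hc
    have hperp : ∀ v, (∀ y ∈ T₀, polar R y v = 0) ↔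
        v ∈ LinearMap.BilinForm.orthogonal (QuadraticMap.polarBilin R) T₀ := fun v => Iff.rfl
    have hdim : finrank F (LinearMap.BilinForm.orthogonal (QuadraticMap.polarBilin R) T₀) = finrank F W - t := by
      rw [LinearMap.BilinForm.finrank_orthogonal A.S.nd, hT₀]
    have hTle : T₀ ≤ LinearMap.BilinForm.orthogonal (QuadraticMap.polarBilin R) T₀ := fun v hv =>
      (hperp v).1 fun y hy => polar_of_singular_add (hT₀0 y hy) (hT₀0 v hv) (hT₀0 _ (T₀.add_mem hy hv))
    have hc₀T : c₀ ∉ T₀ := fun h => hRc₀ (hT₀0 _ h)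
    have hlt : finrank F ↥(T₀ ⊔ Submodule.span F {c₀}) = t + 1 := by
      rw [← hT₀]
      exact Submodule.finrank_sup_span_singleton hc₀T
    have hsup : T₀ ⊔ Submodule.span F {c₀} ≤ LinearMap.BilinForm.orthogonal (QuadraticMap.polarBilin R) T₀ :=
      sup_le hTle ((Submodule.span_singleton_le_iff_mem _ _).2 ((hperp c₀).1 hc₀))
    have hmono := Submodule.finrank_mono hsup
    obtain ⟨hd1, h2F⟩ : finrank F W = 2 * t + 1 ∧ (2 : F) ≠ 0 := by
      rcases hd with h | h
      · omega
      · exact h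
    have heq := Submodule.eq_of_le_of_finrank_eq hsup (by omega)
    obtain ⟨ε, hε⟩ := FiniteField.exists_nonsquare (F := F) (by
      intro h
      haveI : CharP F 2 := ringChar.eq_iff.1 h
      exact h2F CharTwo.two_eq_zero)
    refine ⟨ε * R c₀, mul_ne_zero (fun e => hε (e ▸ ⟨0, (mul_zero 0).symm⟩)) hRc₀, fun v hv e => ?_⟩
    have hv' := (hperp v).1 hv
    rw [← heq] at hv'
    obtain ⟨w, hw, s, hs, rfl⟩ := Submodule.mem_sup.1 hv'
    obtain ⟨β, rfl⟩ := Submodule.mem_span_singleton.1 hs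
    rw [quad_add', quad_smul', polar_smul_r', hT₀0 w hw, hc₀ w hw] at e
    apply hε
    exact ⟨β, mul_right_cancel₀ hRc₀ (by linear_combination -e)⟩
  set c := hp.e₁ + ν • hp.f₁ with hcdef
  have hRc : R c = ν := by
    rw [hcdef, quad_add', quad_smul', polar_smul_r', hp.he₁, hp.hf₁, hp.h11]; ring
  have hfxc : A.fx (A.S.x c) = f := by
    rw [hf, fx]
    congr 1
    refine Finset.filter_congr fun μ _ => ⟨fun hμ => ?_, fun h1 => (A.orb_subsingleton_iff μ).1 h1 c⟩
    by_contra h1
    have hb := hkinds μ h1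
    obtain ⟨T, hT, hT0', hTann⟩ := hfull μ hb
    have hperpc : ∀ y ∈ T, polar R y c = 0 := fun y hy =>
      A.polar_eq_zero_of hμ fun s => (hTann _).2 (T.smul_mem s hy)
    obtain ⟨z, hz, hza, hzb⟩ := A.big_pair hb
    obtain ⟨k1, k2, k3, k4⟩ := mem_pairs.1 hz
    obtain ⟨hp', hp'a, hp'b⟩ := exists_pairs_at A.S.nd A.S.good hp0 k1 k2 k3 k4
    obtain ⟨n, α, σ, hα, hn, m0, m1⟩ := A.S.exists_move_pairs hp hp'
    rw [hpa, hp'a] at m0
    rw [hpb, hp'b] at m1
    obtain ⟨O, hO⟩ := Finset.card_eq_one.1 (huniq z hz)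
    have e1 : A.orb μ = O := by
      rw [← mem_singleton, ← hO, mem_above2]
      exact ⟨A.mem_kind.2 ⟨A.orb_mem μ, μ, A.self_mem μ, hb⟩, μ, A.self_mem μ, hza, hzb⟩
    have e2 : A.orb (A.π n ω₀) = O := by
      rw [← mem_singleton, ← hO, mem_above2]
      refine ⟨A.mem_kind.2 ⟨A.orb_mem _, _, A.self_mem _, A.big_moves hn hα hω₀⟩, _, A.self_mem _, ?_, ?_⟩
      · rw [← m0]; exact (A.ann_moves hn hα).1 hz1
      · rw [← m1]; exact (A.ann_moves hn hα).1 hz2
    have hmem : A.π n ω₀ ∈ A.orb μ := by rw [e1, ← e2]; exact A.self_mem _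
    refine hνavoid (σ.1.symm c) (fun y hy => ?_) (by
      rw [← hRc, ← apply_quad σ, LinearEquiv.apply_symm_apply])
    have hy' := (A.ann_moves hn hα).1 ((hT₀ann y).2 hy)
    rw [A.ann_eq hmem] at hy'
    have := hperpc _ ((hTann _).1 hy')
    rw [polar_smul_l', mul_eq_zero] at this
    have h0 := this.resolve_left (inv_ne_zero hα)
    rwa [← σ.1.apply_symm_apply c, polar_isom] at h0
  by_cases hf0 : f = 0
  · obtain ⟨g, hg⟩ := A.S.exists_sgl (d := hp.e₀) (c := c) hp.he₀
      (by rw [hcdef, polar_add_right, polar_smul_r', hp.hee, hp.hef]; ring)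
    obtain ⟨l, hl0, hl⟩ := exists_scalar hq4
    obtain ⟨n, hn', hcomm⟩ := A.S.exists_torus l hl0
    have hclosed : ∀ y ∈ A.ann ω₀, ∀ s : F, s • y ∈ A.ann ω₀ := fun y hy s =>
      (hT₀ann _).2 (T₀.smul_mem s ((hT₀ann y).1 hy))
    obtain ⟨O, hO⟩ := Finset.card_eq_one.1 (huniq z₀ hz₀)
    have e0 : A.orb ω₀ = O := by
      rw [← mem_singleton, ← hO, mem_above2]
      exact ⟨A.mem_kind.2 ⟨A.orb_mem ω₀, ω₀, A.self_mem ω₀, hω₀⟩, ω₀, A.self_mem ω₀, hz1, hz2⟩
    have same : ∀ μ, A.Big μ → z₀.1 ∈ A.ann μ → z₀.2 ∈ A.ann μ → μ ∈ A.orb ω₀ := by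
      intro μ hb ha hb'
      have : A.orb μ = O := by
        rw [← mem_singleton, ← hO, mem_above2]
        exact ⟨A.mem_kind.2 ⟨A.orb_mem μ, μ, A.self_mem μ, hb⟩, μ, A.self_mem μ, ha, hb'⟩
      rw [e0, ← this]
      exact A.self_mem μ
    have hl2 : l * l ≠ 0 := mul_ne_zero hl0 hl0
    have hscale : ∀ y ∈ A.ann ω₀, y ∈ A.ann (A.π n ω₀) := fun y hy => by
      have := (A.ann_moves hn' hl2).1 (hclosed y hy (l * l))
      simp only [OneMemClass.coe_one, LinearEquiv.coe_one, id_eq, smul_smul, inv_mul_cancel₀ hl2, one_smul] at this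
      exact this
    have hgy : ∀ y ∈ A.ann ω₀, ∀ μ ∈ A.orb ω₀, y ∈ A.ann (A.π (embG R g) μ) := by
      intro y hy μ hμ
      have hay : ∀ w ∈ A.ann ω₀, polar R hp.e₀ w = 0 := fun w hw => by
        have h1 : hp.e₀ ∈ A.ann ω₀ := hpa ▸ hz1
        exact polar_of_singular_add hp.he₀ (hω₀.1 w hw) (hω₀.1 _ (A.ann_add h1 hw))
      set y' := y + polar R c y • hp.e₀ with hy'
      have hy'mem : y' ∈ A.ann μ := by
        rw [A.ann_eq hμ]
        exact A.ann_add hy (hclosed _ (hpa ▸ hz1) _)
      have h1 := (A.ann_moves (A.S.moves_emb g) one_ne_zero).1 hy'mem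
      rw [inv_one, one_smul, hg.2.2] at h1
      have e1 : polar R hp.e₀ y' = 0 := by
        rw [hy', polar_add_right, polar_smul_r', hay y hy, polar_self', hp.he₀]; ring
      have e2 : polar R c y' = polar R c y := by
        rw [hy', polar_add_right, polar_smul_r', polar_comm _ c hp.e₀,
          show polar R hp.e₀ c = 0 from hg.2.1]
        ring
      rw [e1, e2, hy'] at h1
      simpa using h1
    obtain ⟨μ, -, hμ⟩ := A.exists_fixed hn' hl (hcomm g) hclosed
      (same _ (A.big_moves hn' hl2 hω₀) (hscale _ hz1) (hscale _ hz2))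
      (fun μ hμ => same _ (A.big_moves (A.S.moves_emb g) one_ne_zero (Big.congr hμ hω₀))
        (hgy _ hz1 μ hμ) (hgy _ hz2 μ hμ))
    have hfg := A.fx_siegel hp.e₀_ne_zero hg (by rw [hRc]; exact hν0)
    rw [hfxc, hf0, fx, Finset.card_eq_zero, Finset.filter_eq_empty_iff] at hfg
    exact hfg (mem_univ μ) hμ
  have hdvd := A.card_dvd (fun μ d => A.FS μ d) (fun k _ _ => A.FS_map k) (fun _ _ _ ht => A.FS_smul ht)
  have hFS : (univ.filter fun μ => A.FS μ ee) = univ.filter fun μ => (A.orb μ).card = 1 :=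
    Finset.filter_congr fun μ _ => A.FS_ee
  rw [H.hpts, hFS, ← hf] at hdvd
  obtain ⟨δ, hδ⟩ : ∃ δ, N = Fintype.card Ω + δ := ⟨N - Fintype.card Ω, by omega⟩
  rw [hδ, add_mul] at hdvd
  have h1 := Nat.le_of_dvd (Nat.mul_pos (by omega) (Nat.pos_of_ne_zero hf0))
    ((Nat.dvd_add_right (dvd_mul_right _ _)).1 hdvd)
  have h2 : N - C = f + δ := by omega
  rw [h2] at hdelta
  nlinarith [mul_self_nonneg ((f : ℤ) - δ)]

/-- Every non-trivial action has at least as many points as there are singular points. -/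
theorem false_of_small (A : Act R Ω) [Fact p.Prime] [CharP F p] (H : Num R p P N t)
    (hcard : Fintype.card Ω < N) : False := by
  by_cases hreg : ∃ ω, A.Reg ω
  · obtain ⟨ω, hω⟩ := hreg
    exact A.no_regular H hcard hω
  by_cases hbig : ∃ ω, A.Big ω
  · obtain ⟨ω, hω⟩ := hbig
    exact A.no_big H hcard (fun ν h => hreg ⟨ν, h⟩) hω
  push Not at hreg hbig
  exact A.lines_only fun ω hω =>
    ((A.classify (A.dich_of H hcard) hω).resolve_left (hreg ω)).resolve_right (hbig ω)

end Act

end CfsgLib.KnownA.MinIndexOrth
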