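import Cfsg.Agent.Lib.KnownA.MinIndexOrth.Points
import Cfsg.Agent.Lib.KnownA.MinIndexOrth.Arith
import Cfsg.Agent.Lib.Classical.OrthPOmega

/-!
# Minimal index in orthogonal groups: the three families
-/

set_option autoImplicit false
set_option linter.unusedSectionVars false

open Module QuadraticMap CfsgLib.Orth CfsgLib.Classical Finset

namespace CfsgLib.KnownA.MinIndexOrth

variable {F : Type*} [Field F] [Fintype F] {q : ℕ}

theorem left_weaken {n Q x : ℕ} (h : n * Q ≤ x) : n * ((Q - 1) * (Q - 1)) ≤ x * Q :=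
  calc n * ((Q - 1) * (Q - 1)) ≤ n * (Q * Q) := by gcongr <;> omega
    _ = n * Q * Q := (mul_assoc _ _ _).symm
    _ ≤ x * Q := Nat.mul_le_mul_right _ h

/-- The characteristic is large compared to the square classes. -/
theorem char_facts (hF : Fintype.card F = q) (hq : 4 ≤ q) : ∃ p : ℕ, p.Prime ∧ CharP F p ∧
    ((p = 2 ∧ CharP F 2) ∨ ((2 : F) ≠ 0 ∧ 5 ≤ q ∧ 2 * ((q : ℤ) ^ 3 + 1) ≤ p * ((q : ℤ) - 1) ^ 3)) := by
  obtain ⟨p, hc⟩ := CharP.exists F
  obtain ⟨n, hp, hn⟩ := FiniteField.card F p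
  rw [hF] at hn
  refine ⟨p, hp, hc, ?_⟩
  by_cases h2 : p = 2
  · exact Or.inl ⟨h2, h2 ▸ hc⟩
  right
  have hodd : Odd q := hn ▸ (hp.odd_of_ne_two h2).pow
  have h5 : 5 ≤ q := by
    rcases hodd with ⟨r, hr⟩
    omega
  have h2F : (2 : F) ≠ 0 := Ring.two_ne_zero (by
    rw [ringChar.eq F p]; exact h2)
  refine ⟨h2F, h5, ?_⟩
  have hq5 : (5 : ℤ) ≤ q := by exact_mod_cast h5
  by_cases h3 : p = 3
  · have h9 : 9 ≤ q := by
      have : (n : ℕ) ≠ 1 := fun h => by rw [h, h3] at hn; omega
      have : 2 ≤ (n : ℕ) := by have := n.pos; omega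
      calc 9 = 3 ^ 2 := by norm_num
        _ ≤ 3 ^ (n : ℕ) := Nat.pow_le_pow_right (by norm_num) this
        _ = q := by rw [hn, h3]
    have hq9 : (9 : ℤ) ≤ q := by exact_mod_cast h9
    subst h3
    push_cast
    exact arith_char_three hq9
  · have h4 : p ≠ 4 := fun h => by rw [h] at hp; norm_num at hp
    have hp5 : (5 : ℤ) ≤ p := by
      have := hp.two_le
      exact_mod_cast (show 5 ≤ p by omega)
    exact arith_char_large hq5 hp5

set_option maxHeartbeats 1000000 in
theorem num_odd (hF : Fintype.card F = q) (hodd : Odd q) (h5 : 5 ≤ q) (k : ℕ) (hk : 2 ≤ k)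
    [Fintype (Unit ⊕ (Fin k ⊕ Fin k) → F)] [DecidableEq (Unit ⊕ (Fin k ⊕ Fin k) → F)] :
    ∃ p P N, p.Prime ∧ CharP F p ∧ Num (oddForm F k) p P N k ∧ (q - 1) * N = q ^ (2 * (k + 1)) - 1 := by
  obtain ⟨p, hp, hc, hcase⟩ := char_facts hF (by omega)
  obtain ⟨h2, -, hp3⟩ := hcase.resolve_left (by
    rintro ⟨-, hc2⟩
    have := (FiniteField.even_card_iff_char_two (F := F)).1 (ringChar.eq F 2)
    rw [hF] at this
    obtain ⟨r, rfl⟩ := hodd
    omega)
  have hR := oddForm_nondeg (F := F) k h2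
  have hdim : finrank F (Unit ⊕ (Fin k ⊕ Fin k) → F) = 2 * k + 1 := by simp; omega
  let hyp := hypPairs_odd (F := F) k hk
  have ha := hyp.e₀_ne_zero
  obtain ⟨P, hP, hN⟩ := card_points (oddForm F k)
  set N := Nat.card (SingPts (plusPlane (oddForm F k))) with hNdef
  set u := q ^ (k - 1) with hu
  have hu' : q ≤ u := le_self_pow₀ (by omega) (by omega)
  have hqk : q ^ k = q * u := by rw [hu, ← pow_succ']; congr 1; omega
  have hz : zeroCount (oddForm F k) = q * q * (u * u) := by
    rw [zeroCount_odd hF, two_mul, pow_add, hqk]; ring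
  have hX : Fintype.card (Unit ⊕ (Fin k ⊕ Fin k) → F) = q * (q * q * (u * u)) := by
    rw [← Nat.card_eq_fintype_card, Module.natCard_eq_pow_finrank (K := F), Nat.card_eq_fintype_card, hF, hdim,
      pow_succ, two_mul, pow_add, hqk]
    ring
  have hd2 : Fintype.card F ^ (finrank F (Unit ⊕ (Fin k ⊕ Fin k) → F) - 2) = q * (u * u) := by
    rw [hF, hdim, hu, ← pow_add, ← pow_succ']
    congr 1; omega
  have hu_sq : 2 < k → q * q ≤ u := fun h => by
    rw [hu, ← pow_two]
    exact Nat.pow_le_pow_right (by omega) (by omega)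
  have hu_two : k = 2 → u = q := fun h => by rw [hu, h]; simp
  clear_value u
  have hsingc := card_sing (R := oddForm F k)
  have hpairs := card_pairs hR (show 2 ≤ finrank F (Unit ⊕ (Fin k ⊕ Fin k) → F) by omega)
  rw [hd2, hF, hz] at hpairs
  rw [hz] at hsingc
  rw [hsingc, hF] at hP
  rw [hF, hX] at hN
  have h1 : 1 ≤ q * q * (u * u) := by
    have : 1 ≤ u := by omega
    have : 1 ≤ q := by omega
    calc 1 = 1 * 1 * (1 * 1) := rfl
      _ ≤ _ := by gcongr
  have hsub : q * q * (u * u) - (q - 1) * (q * (u * u)) = q * (u * u) := by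
    obtain ⟨r, rfl⟩ : ∃ r, q = r + 1 := ⟨q - 1, by omega⟩
    rw [Nat.add_sub_cancel, show (r + 1) * (r + 1) * (u * u) =
      (r + 1) * (u * u) + r * ((r + 1) * (u * u)) by ring, Nat.add_sub_cancel]
  rw [hsub] at hpairs
  have hqz : q ≤ q * (u * u) := Nat.le_mul_of_pos_right _ (Nat.mul_pos (by omega) (by omega))
  zify [h1, hqz] at hpairs
  zify [h1, show 1 ≤ q by omega] at hP
  zify at hN
  have hq5 : (5 : ℤ) ≤ q := by exact_mod_cast h5
  have huq : (q : ℤ) ≤ u := by exact_mod_cast hu'
  have hq1 : (0 : ℤ) < (q : ℤ) - 1 := by linarith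
  have hN' : ((q : ℤ) - 1) * N = (q : ℤ) * (q * (q * q * (u * u))) - 1 := by
    linear_combination ((q : ℤ) - 1) * hN + (q : ℤ) * hP
  have hA : ((q : ℤ) - 1) * (q * P + 1) = (q : ℤ) * (q * q * (u * u)) - 1 := by
    linear_combination (q : ℤ) * hP
  have huu : (0 : ℤ) ≤ (u : ℤ) * u := mul_self_nonneg _
  have hclsge : ∀ v, oddForm F k v ≠ 0 →
      ((q : ℤ) - 1) * (((q : ℤ) - 1) * (q * (u * u))) ≤ 2 * ((cls (oddForm F k) v).card : ℤ) := fun v hv => by
    have := card_cls_ge hR (by omega) ha hyp.he₀ hv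
    rw [hd2, hF] at this
    zify [show 1 ≤ q by omega] at this
    exact this
  refine ⟨p, P, N, hp, hc, ?_, ?_⟩
  swap
  · have e : q ^ (2 * (k + 1)) = q * (q * (q * q * (u * u))) := by
      rw [two_mul, pow_add, pow_succ, hqk]; ring
    rw [e]
    have h1' : 1 ≤ q * (q * (q * q * (u * u))) := Nat.one_le_iff_ne_zero.2 (by
      have : 0 < u := by omega
      positivity)
    zify [h1', show 1 ≤ q by omega]
    exact hN'
  refine ⟨by rw [hsingc, hF]; zify [h1, show 1 ≤ q by omega]; exact hP,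
    by rw [hF, hX]; exact_mod_cast hN, rfl, ?_, ?_, Or.inl (by omega), ?_, ?_, ?_, ?_⟩
  · rw [hF, hX]
    zify
    refine le_of_mul_le_mul_left ?_ hq1
    rw [hA]
    have := le_mul_of_one_le_left (show (0 : ℤ) ≤ q * (q * q * (u * u)) by positivity)
      (show (1 : ℤ) ≤ q - 1 by linarith)
    linarith
  · refine Or.inl fun v hv => ?_
    zify
    exact odd_clsk hq5 hp3 (Nat.cast_nonneg p) (hclsge v hv) hN'
  · intro v hv
    rw [hF]
    zify [show 1 ≤ q by omega]
    rw [hA]
    exact odd_cls hq5 (hclsge v hv)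
  · intro T hT
    have := singular_finrank_le hR T hT
    omega
  · rw [hF, hqk]
    zify
    refine le_of_mul_le_mul_left ?_ hq1
    rw [hpairs, ← mul_assoc, hA]
    exact odd_pp hq5 huq
  · rw [hF, hqk]
    rcases eq_or_lt_of_le hk with hk2 | hk3
    · right
      obtain rfl : u = q := hu_two hk2.symm
      refine ⟨by omega, Or.inr ⟨hdim, h2⟩, ?_, fun C hC => ?_⟩
      · zify
        refine le_of_mul_le_mul_left ?_ hq1
        rw [hpairs, ← mul_assoc, hN']
        exact (odd_right hq5).trans (le_of_eq (by ring))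
      have hC' : C = (u + 1) * (u * u + 1) * (u * u) := by
        have hqq : u ≤ u * u := Nat.le_mul_of_pos_left _ (by omega)
        zify [hqq, show 1 ≤ u * u by nlinarith] at hC
        rw [hpairs] at hC
        zify
        refine mul_left_cancel₀ (show ((u : ℤ) * u - 1) * (u * u - u) ≠ 0 by
          apply mul_ne_zero <;> nlinarith) ?_
        linear_combination hC
      have hNC : N = C + (u + 1) := by
        rw [hC']
        zify
        refine mul_left_cancel₀ hq1.ne' ?_
        linear_combination hN'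
      refine ⟨?_, fun v hv => ?_, ?_⟩
      · rw [hNC, Nat.add_sub_cancel_left, hC']
        have e2 : 5 * 5 ≤ u * u := Nat.mul_le_mul h5 h5
        calc (u + 1) * (u + 1) < (u + 1) * (4 * ((u * u + 1) * (u * u))) :=
              Nat.mul_lt_mul_of_pos_left (by nlinarith) (by omega)
          _ = _ := by ring
      · rw [hNC]
        refine Nat.add_le_add_left ?_ _
        zify
        exact odd_right_cls hq5 (hclsge v hv)
      · rw [hNC, hsingc]
        refine Nat.add_le_add_left ?_ _
        have e2 : 25 * (u * u) ≤ u * u * (u * u) := Nat.mul_le_mul_right _ (Nat.mul_le_mul h5 h5)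
        have e3 : 5 * u ≤ u * u := Nat.mul_le_mul_right _ h5
        omega
    · left
      refine left_weaken ?_
      have hu2 : (q : ℤ) * q ≤ u := by exact_mod_cast hu_sq hk3
      zify
      refine le_of_mul_le_mul_left ?_ hq1
      rw [hpairs, ← mul_assoc, hN']
      exact odd_left hq5 hu2

set_option maxHeartbeats 1000000 in
theorem num_plus (hF : Fintype.card F = q) (hq : 4 ≤ q) (k : ℕ) (hk : 3 ≤ k)
    [Fintype (Fin k ⊕ Fin k → F)] [DecidableEq (Fin k ⊕ Fin k → F)] :
    ∃ p P N, p.Prime ∧ CharP F p ∧ Num (plusForm F k) p P N k ∧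
      (q - 1) * N = (q ^ (k + 1) - 1) * (q ^ k + 1) := by
  obtain ⟨p, hp, hc, hcase⟩ := char_facts hF hq
  have hR := plusForm_nondeg (F := F) k
  have hdim : finrank F (Fin k ⊕ Fin k → F) = 2 * k := by simp; omega
  let hyp := hypPairs_plus (F := F) k (by omega)
  have ha := hyp.e₀_ne_zero
  obtain ⟨P, hP, hN⟩ := card_points (plusForm F k)
  set N := Nat.card (SingPts (plusPlane (plusForm F k))) with hNdef
  set u := q ^ (k - 1) with hu
  have hu2 : q * q ≤ u := by rw [← pow_two]; exact Nat.pow_le_pow_right (by omega) (by omega)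
  have hqk : q ^ k = q * u := by rw [hu, ← pow_succ']; congr 1; omega
  have hX : Fintype.card (Fin k ⊕ Fin k → F) = q * q * (u * u) := by
    rw [← Nat.card_eq_fintype_card, Module.natCard_eq_pow_finrank (K := F), Nat.card_eq_fintype_card, hF, hdim,
      two_mul, pow_add, hqk]
    ring
  have hd2 : Fintype.card F ^ (finrank F (Fin k ⊕ Fin k → F) - 2) = u * u := by
    rw [hF, hdim, hu, ← pow_add]
    congr 1; omega
  have hu_three : k = 3 → u = q * q := fun h => by rw [hu, h, ← pow_two]
  have hu_cube : 3 < k → q * (q * q) ≤ u := fun h => by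
    rw [hu, ← pow_two, ← pow_succ']
    exact Nat.pow_le_pow_right (by omega) (by omega)
  clear_value u
  have hq4 : (4 : ℤ) ≤ q := by exact_mod_cast hq
  have hq1 : (0 : ℤ) < (q : ℤ) - 1 := by linarith
  have huq : (q : ℤ) * q ≤ u := by exact_mod_cast hu2
  have hqk' : (q : ℤ) ^ k = q * u := by exact_mod_cast hqk
  have h16 : (16 : ℤ) ≤ u := le_trans (by nlinarith) huq
  have hz : (zeroCount (plusForm F k) : ℤ) = q * (u * u) + ((q : ℤ) - 1) * u := by
    refine mul_left_cancel₀ (show (q : ℤ) ≠ 0 by linarith) ?_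
    rw [zeroCount_plus hF k, two_mul, pow_add, hqk']
    ring
  have hu_le : (u : ℤ) ≤ u * u := le_mul_of_one_le_left (by linarith) (by linarith)
  have hqu0 : (0 : ℤ) ≤ (q - 1) * u := mul_nonneg hq1.le (by linarith)
  have hqq4 : 4 * (q : ℤ) ≤ q * q := mul_le_mul_of_nonneg_right hq4 (by linarith)
  have hz0 : (q : ℤ) * q * (u * u) - zeroCount (plusForm F k) ≥ 0 := by
    have e1 := mul_le_mul_of_nonneg_left hu_le hq1.le
    have e2 := mul_le_mul_of_nonneg_right hqq4 (show (0 : ℤ) ≤ u * u by linarith)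
    have e3 : (0 : ℤ) ≤ u * u * q := mul_nonneg (by linarith) (by linarith)
    rw [hz]; linarith
  have h1 : 1 ≤ zeroCount (plusForm F k) := by
    have e1 := le_mul_of_one_le_left (show (0 : ℤ) ≤ u * u by linarith) (show (1 : ℤ) ≤ q by linarith)
    zify; rw [hz]; linarith
  have hge : (q - 1) * (u * u) + q ≤ zeroCount (plusForm F k) := by
    zify [show 1 ≤ q by omega]; rw [hz]; linarith
  have hsingc := card_sing (R := plusForm F k)
  have hpairs := card_pairs hR (show 2 ≤ finrank F (Fin k ⊕ Fin k → F) by omega)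
  rw [hd2, hF] at hpairs
  rw [Nat.sub_sub] at hpairs
  rw [hsingc, hF] at hP
  rw [hF, hX] at hN
  zify [h1, hge, show 1 ≤ q by omega] at hpairs
  zify [h1, show 1 ≤ q by omega] at hP
  zify at hN
  rw [hz] at hP hpairs
  have hpairs' : ((pairs (plusForm F k)).card : ℤ) = ((q : ℤ) * u - 1) * (u + 1) * ((u + q) * (u - 1)) := by
    rw [hpairs]; ring
  have hN' : ((q : ℤ) - 1) * N = ((q : ℤ) * (q * u) - 1) * (q * u + 1) := by
    linear_combination ((q : ℤ) - 1) * hN + (q : ℤ) * hP
  have hA : ((q : ℤ) - 1) * (q * P + 1) = (q : ℤ) * (q * (u * u) + (q - 1) * u) - 1 := by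
    linear_combination (q : ℤ) * hP
  have hclsge : ∀ v, plusForm F k v ≠ 0 →
      ((q : ℤ) - 1) * (((q : ℤ) - 1) * (u * u)) ≤ 2 * ((cls (plusForm F k) v).card : ℤ) := fun v hv => by
    have := card_cls_ge hR (by omega) ha hyp.he₀ hv
    rw [hd2, hF] at this
    zify [show 1 ≤ q by omega] at this
    exact this
  refine ⟨p, P, N, hp, hc, ?_, ?_⟩
  swap
  · rw [pow_succ', hqk]
    zify [show 1 ≤ q by omega, show 1 ≤ q * (q * u) from Nat.one_le_iff_ne_zero.2 (by
      have : 0 < u := lt_of_lt_of_le (by positivity) hu2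
      positivity)]
    exact hN'
  refine ⟨by rw [hsingc, hF]; zify [h1, show 1 ≤ q by omega]; rw [hz]; exact hP,
    by rw [hF, hX]; exact_mod_cast hN, rfl, ?_, ?_, Or.inl (by omega), ?_, ?_, ?_, ?_⟩
  · rw [hF, hX]
    zify
    refine le_of_mul_le_mul_left ?_ hq1
    rw [hA]
    have := mul_le_mul_of_nonneg_right (show (3 : ℤ) ≤ q - 1 by linarith) (show (0 : ℤ) ≤ q * q * (u * u) by positivity)
    have := mul_le_mul_of_nonneg_left hu_le (show (0 : ℤ) ≤ q * q by positivity)
    have : (0 : ℤ) ≤ q * u := by positivity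
    linarith
  · refine Or.inl fun v hv => ?_
    zify
    rcases hcase with ⟨rfl, hc2⟩ | ⟨-, h5, hp3⟩
    · have hcl := card_cls_two (R := plusForm F k) hv
      rw [hX] at hcl
      zify [show zeroCount (plusForm F k) ≤ q * q * (u * u) by zify; linarith] at hcl
      rw [hz] at hcl
      push_cast
      exact plus_clsk_two hq4 huq hN' hcl
    · exact plus_clsk (by exact_mod_cast h5) huq hp3 (Nat.cast_nonneg p) (hclsge v hv) hN'
  · intro v hv
    rw [hF]
    zify [show 1 ≤ q by omega]
    rw [hA]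
    exact plus_cls hq4 huq (hclsge v hv)
  · intro T hT
    have := singular_finrank_le hR T hT
    omega
  · rw [hF, hqk]
    zify
    refine le_of_mul_le_mul_left ?_ hq1
    rw [hpairs', ← mul_assoc, hA]
    exact plus_pp hq4 huq
  · rw [hF, hqk]
    rcases eq_or_lt_of_le hk with hk3 | hk4
    · right
      obtain rfl : u = q * q := hu_three hk3.symm
      push_cast at hpairs' hN'
      refine ⟨by omega, Or.inl (by rw [hdim]), ?_, fun C hC => ?_⟩
      · zify
        refine le_of_mul_le_mul_left ?_ hq1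
        rw [hpairs', ← mul_assoc, hN']
        exact (plus_right hq4).trans (le_of_eq (by ring))
      have hC' : C = (q * q + 1) * (q + 1) * (q * (q * q)) := by
        have e1 : 1 ≤ q * (q * q) := Nat.one_le_iff_ne_zero.2 (by positivity)
        have e2 : q ≤ q * (q * q) := Nat.le_mul_of_pos_right _ (by positivity)
        zify [e1, e2] at hC
        rw [hpairs'] at hC
        zify
        refine mul_left_cancel₀ (show ((q : ℤ) * (q * q) - 1) * (q * (q * q) - q) ≠ 0 by
          apply mul_ne_zero <;> nlinarith) ?_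
        linear_combination hC
      have hNC : N = C + (q * q + 1) * (q + 1) := by
        rw [hC']
        zify
        refine mul_left_cancel₀ hq1.ne' ?_
        linear_combination hN'
      refine ⟨?_, fun v hv => ?_, ?_⟩
      · rw [hNC, Nat.add_sub_cancel_left, hC', mul_comm 4, mul_assoc ((q * q + 1) * (q + 1))]
        refine Nat.mul_lt_mul_of_pos_left ?_ (by positivity)
        have e2 : 16 ≤ q * q := Nat.mul_le_mul hq hq
        nlinarith
      · rw [hNC]
        refine Nat.add_le_add_left ?_ _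
        zify
        have := hclsge v hv
        push_cast at this
        exact plus_right_cls hq4 this
      · rw [hNC, hsingc]
        refine Nat.add_le_add_left ?_ _
        zify [h1]
        rw [hz]
        push_cast
        exact (plus_right_sing hq4).trans (le_of_eq (by ring))
    · left
      refine left_weaken ?_
      have hu3 : (q : ℤ) * (q * q) ≤ u := by exact_mod_cast hu_cube hk4
      zify
      refine le_of_mul_le_mul_left ?_ hq1
      rw [hpairs', ← mul_assoc, hN']
      exact plus_left hq4 hu3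

theorem num_minus (hF : Fintype.card F = q) (hq : 4 ≤ q) (a b : F)
    (hab : ∀ z₁ z₂ : F, z₁ ^ 2 + a * z₁ * z₂ + b * z₂ ^ 2 = 0 → z₁ = 0 ∧ z₂ = 0) (k : ℕ) (hk : 2 ≤ k)
    [Fintype ((Fin k ⊕ Fin k) ⊕ Fin 2 → F)] [DecidableEq ((Fin k ⊕ Fin k) ⊕ Fin 2 → F)] :
    ∃ p P N, p.Prime ∧ CharP F p ∧ Num (minusForm F k a b) p P N k ∧
      (q - 1) * N = (q ^ (k + 2) + 1) * (q ^ (k + 1) - 1) := by
  obtain ⟨p, hp, hc, hcase⟩ := char_facts hF hq
  have hR := minusForm_nondeg (F := F) k a b hab
  have hdim : finrank F ((Fin k ⊕ Fin k) ⊕ Fin 2 → F) = 2 * k + 2 := by simp; omega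
  let hyp := hypPairs_minus (F := F) k hk a b
  have ha := hyp.e₀_ne_zero
  obtain ⟨P, hP, hN⟩ := card_points (minusForm F k a b)
  set N := Nat.card (SingPts (plusPlane (minusForm F k a b))) with hNdef
  set u := q ^ k with hu
  have hu2 : q * q ≤ u := by rw [← pow_two]; exact Nat.pow_le_pow_right (by omega) hk
  have hX : Fintype.card ((Fin k ⊕ Fin k) ⊕ Fin 2 → F) = q * q * (u * u) := by
    rw [← Nat.card_eq_fintype_card, Module.natCard_eq_pow_finrank (K := F), Nat.card_eq_fintype_card, hF, hdim,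
      pow_add, two_mul, pow_add, ← hu]
    ring
  have hd2 : Fintype.card F ^ (finrank F ((Fin k ⊕ Fin k) ⊕ Fin 2 → F) - 2) = u * u := by
    rw [hF, hdim, hu, ← pow_add]
    congr 1; omega
  have hq4 : (4 : ℤ) ≤ q := by exact_mod_cast hq
  have hq1 : (0 : ℤ) < (q : ℤ) - 1 := by linarith
  have huq : (q : ℤ) * q ≤ u := by exact_mod_cast hu2
  have h16 : (16 : ℤ) ≤ u := le_trans (by nlinarith) huq
  have hz : (zeroCount (minusForm F k a b) : ℤ) = q * (u * u) - ((q : ℤ) - 1) * u := by
    rw [zeroCount_minus hF a b hab k, pow_succ, two_mul, pow_add, pow_succ, hu]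
    push_cast
    ring
  have hu_le : (u : ℤ) ≤ u * u := le_mul_of_one_le_left (by linarith) (by linarith)
  have hqu0 : (0 : ℤ) ≤ (q - 1) * u := mul_nonneg hq1.le (by linarith)
  have hqq4 : 4 * (q : ℤ) ≤ q * q := mul_le_mul_of_nonneg_right hq4 (by linarith)
  have hgap : (q : ℤ) ≤ u * u - (q - 1) * u := by
    have e1 : (0 : ℤ) ≤ (u - q) * u := mul_nonneg (by linarith) (by linarith)
    linarith
  have hz0 : (zeroCount (minusForm F k a b) : ℤ) ≤ (q : ℤ) * q * (u * u) := by
    have e2 := le_mul_of_one_le_left (show (0 : ℤ) ≤ q * (u * u) by positivity) (show (1 : ℤ) ≤ q by linarith)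
    rw [hz]; linarith
  have h1 : 1 ≤ zeroCount (minusForm F k a b) := by
    have e1 := mul_nonneg hq1.le (show (0 : ℤ) ≤ u * u by linarith)
    zify; rw [hz]; linarith
  have hge : (q - 1) * (u * u) + q ≤ zeroCount (minusForm F k a b) := by
    zify [show 1 ≤ q by omega]; rw [hz]; linarith
  have hsingc := card_sing (R := minusForm F k a b)
  have hpairs := card_pairs hR (show 2 ≤ finrank F ((Fin k ⊕ Fin k) ⊕ Fin 2 → F) by omega)
  rw [hd2, hF, Nat.sub_sub] at hpairs
  rw [hsingc, hF] at hP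
  rw [hF, hX] at hN
  zify [h1, hge, show 1 ≤ q by omega] at hpairs
  zify [h1, show 1 ≤ q by omega] at hP
  zify at hN
  rw [hz] at hP hpairs
  have hpairs' : ((pairs (minusForm F k a b)).card : ℤ) = ((q : ℤ) * u + 1) * (u - 1) * ((u - q) * (u + 1)) := by
    rw [hpairs]; ring
  have hN' : ((q : ℤ) - 1) * N = ((q : ℤ) * (q * u) + 1) * (q * u - 1) := by
    linear_combination ((q : ℤ) - 1) * hN + (q : ℤ) * hP
  have hA : ((q : ℤ) - 1) * (q * P + 1) = (q : ℤ) * (q * (u * u) - (q - 1) * u) - 1 := by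
    linear_combination (q : ℤ) * hP
  have hclsge : ∀ v, minusForm F k a b v ≠ 0 →
      ((q : ℤ) - 1) * (((q : ℤ) - 1) * (u * u)) ≤ 2 * ((cls (minusForm F k a b) v).card : ℤ) := fun v hv => by
    have := card_cls_ge hR (by omega) ha hyp.he₀ hv
    rw [hd2, hF] at this
    zify [show 1 ≤ q by omega] at this
    exact this
  refine ⟨p, P, N, hp, hc, ?_, ?_⟩
  swap
  · rw [show q ^ (k + 2) = q * (q * u) by rw [hu]; ring, show q ^ (k + 1) = q * u by rw [hu]; ring]
    zify [show 1 ≤ q by omega, show 1 ≤ q * u from Nat.one_le_iff_ne_zero.2 (by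
      have : 0 < u := lt_of_lt_of_le (by positivity) hu2
      positivity)]
    exact hN'
  refine ⟨by rw [hsingc, hF]; zify [h1, show 1 ≤ q by omega]; rw [hz]; exact hP,
    by rw [hF, hX]; exact_mod_cast hN, rfl, ?_, ?_, Or.inl (by omega), ?_, ?_, ?_, ?_⟩
  · rw [hF, hX]
    zify
    refine le_of_mul_le_mul_left ?_ hq1
    rw [hA]
    have := mul_le_mul_of_nonneg_right (show (3 : ℤ) ≤ q - 1 by linarith) (show (0 : ℤ) ≤ q * q * (u * u) by positivity)
    have : (0 : ℤ) ≤ q * ((q - 1) * u) := mul_nonneg (by linarith) (mul_nonneg (by linarith) (by linarith))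
    linarith
  · refine Or.inl fun v hv => ?_
    zify
    rcases hcase with ⟨rfl, hc2⟩ | ⟨-, h5, hp3⟩
    · have hcl := card_cls_two (R := minusForm F k a b) hv
      rw [hX] at hcl
      zify [show zeroCount (minusForm F k a b) ≤ q * q * (u * u) by exact_mod_cast hz0] at hcl
      rw [hz] at hcl
      push_cast
      exact minus_clsk_two hq4 huq hN' hcl
    · exact minus_clsk (by exact_mod_cast h5) (by linarith) hp3 (Nat.cast_nonneg p) (hclsge v hv) hN'
  · intro v hv
    rw [hF]
    zify [show 1 ≤ q by omega]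
    rw [hA]
    exact minus_cls hq4 (by linarith) (hclsge v hv)
  · intro T hT
    exact minus_singular_finrank_le hab T hT
  · rw [hF, ← hu]
    zify
    refine le_of_mul_le_mul_left ?_ hq1
    rw [hpairs', ← mul_assoc, hA]
    exact minus_pp hq4 huq
  · rw [hF, ← hu]
    left
    refine left_weaken ?_
    zify
    refine le_of_mul_le_mul_left ?_ hq1
    rw [hpairs', ← mul_assoc, hN']
    exact minus_left hq4 huq

end CfsgLib.KnownA.MinIndexOrth
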