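import Cfsg.Agent.Lib.KnownA.MinIndexOrth.Numerics

/-!
# Minimal index in orthogonal groups: minus type over two and three elements
-/

set_option autoImplicit false
set_option linter.unusedSectionVars false

open Module QuadraticMap CfsgLib.Orth CfsgLib.Classical Finset

namespace CfsgLib.KnownA.MinIndexOrth

section Arith

variable {q u N c : ℤ}

theorem small_clsk (hq : q = 2 ∨ q = 3) (hu : 4 ≤ u) (hN : (q - 1) * N = (q * (q * u) + 1) * (q * u - 1))
    (hc : q * (u * u) + u ≤ c) : N ≤ 2 * q * c := by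
  rcases hq with rfl | rfl <;> nlinarith

theorem small_cls (hq : q = 2 ∨ q = 3) (hu : 4 ≤ u) (hc : q * (u * u) + u ≤ c) :
    q * (q * (u * u) - (q - 1) * u) - 1 ≤ q * c := by
  rcases hq with rfl | rfl <;> nlinarith

theorem small_pp (hq : q = 2 ∨ q = 3) (hu : q * q ≤ u) :
    (q * (q * (u * u) - (q - 1) * u) - 1) * u ≤
      (q - 1) * ((q * u + 1) * (u - 1) * ((u - q) * (u + 1))) := by
  obtain ⟨w, hw, rfl⟩ : ∃ w, 0 ≤ w ∧ u = q * q + w := ⟨u - q * q, by linarith, by ring⟩
  have h2 : 0 ≤ w * w := mul_self_nonneg w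
  have h3 : 0 ≤ w * (w * w) := mul_nonneg hw h2
  have h4 : 0 ≤ w * (w * (w * w)) := mul_nonneg hw h3
  rcases hq with rfl | rfl <;> linarith

theorem small_max (hq : q = 2 ∨ q = 3) (hu : q * q ≤ u) :
    (q * (q * u) + 1) * (q * u - 1) * ((u - 1) * (u - 1)) ≤
      (q - 1) * ((q * u + 1) * (u - 1) * ((u - q) * (u + 1))) * u := by
  obtain ⟨w, hw, rfl⟩ : ∃ w, 0 ≤ w ∧ u = q * q + w := ⟨u - q * q, by linarith, by ring⟩
  have h2 : 0 ≤ w * w := mul_self_nonneg w
  have h3 : 0 ≤ w * (w * w) := mul_nonneg hw h2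
  have h4 : 0 ≤ w * (w * (w * w)) := mul_nonneg hw h3
  have h5 : 0 ≤ w * (w * (w * (w * w))) := mul_nonneg hw h4
  rcases hq with rfl | rfl <;> linarith

end Arith

/-- The number of vectors with a given value. -/
noncomputable def valueCount {F V : Type*} [Field F] [AddCommGroup V] [Module F V] (Q : QuadraticForm F V)
    (c : F) : ℕ :=
  Nat.card {v : V // Q v = c}

theorem valueCount_congr {F V V' : Type*} [Field F] [AddCommGroup V] [Module F V] [AddCommGroup V']
    [Module F V'] {Q : QuadraticForm F V} {Q' : QuadraticForm F V'} (e : V ≃ₗ[F] V')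
    (he : ∀ v, Q' (e v) = Q v) (c : F) : valueCount Q c = valueCount Q' c :=
  Nat.card_congr (e.toEquiv.subtypeEquiv fun v => by rw [← he]; rfl)

theorem valueCount_plusPlane {F V : Type*} [Field F] [Fintype F] [AddCommGroup V] [Module F V]
    [FiniteDimensional F V] (Q : QuadraticForm F V) (c : F) :
    valueCount (plusPlane Q) c = (Fintype.card F - 1) * Nat.card V + Fintype.card F * valueCount Q c := by
  classical
  have : Finite V := Module.finite_of_finite F
  have := Fintype.ofFinite V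
  let e : {x : V × (F × F) // plusPlane Q x = c} ≃ ({a : F // a ≠ 0} × V) ⊕ (F × {v : V // Q v = c}) :=
    { toFun := fun x => if ha : x.1.2.1 = 0 then Sum.inr (x.1.2.2, ⟨x.1.1, by
          have := x.2; rw [plusPlane_apply, ha, zero_mul, add_zero] at this; exact this⟩)
        else Sum.inl (⟨x.1.2.1, ha⟩, x.1.1)
      invFun := fun y => match y with
        | Sum.inl (a, v) => ⟨(v, (a.1, (c - Q v) / a.1)), by
            rw [plusPlane_apply, mul_div_cancel₀ _ a.2, add_sub_cancel]⟩
        | Sum.inr (b, v) => ⟨(v.1, (0, b)), by rw [plusPlane_apply, v.2, zero_mul, add_zero]⟩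
      left_inv := fun x => by
        obtain ⟨⟨v, a, b⟩, hx⟩ := x
        rw [plusPlane_apply] at hx
        simp only at hx
        by_cases ha : a = 0
        · subst ha; simp
        · simp [ha]
          field_simp
          linear_combination -hx
      right_inv := fun y => by
        rcases y with ⟨a, v⟩ | ⟨b, v⟩
        · simp [a.2]
        · simp }
  rw [valueCount, Nat.card_congr e, Nat.card_sum, Nat.card_prod, Nat.card_prod,
    Nat.card_eq_fintype_card (α := F), ← valueCount, Nat.card_eq_fintype_card (α := {a : F // a ≠ 0}),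
    Fintype.card_subtype_compl, Fintype.card_subtype_eq]

variable {F : Type*} [Field F] [Fintype F] {q : ℕ}

theorem valueCount_minus_zero (hF : Fintype.card F = q) (a b : F)
    (hab : ∀ z₁ z₂ : F, z₁ ^ 2 + a * z₁ * z₂ + b * z₂ ^ 2 = 0 → z₁ = 0 ∧ z₂ = 0) {c : F} (hc : c ≠ 0) :
    valueCount (minusForm F 0 a b) c = q + 1 := by
  classical
  set Q := minusForm F 0 a b with hQdef
  have hQ := minusForm_nondeg 0 a b hab
  have hQ' : ∀ v : ((Fin 0 ⊕ Fin 0) ⊕ Fin 2 → F), Q v = v (.inr 0) ^ 2 + a * v (.inr 0) * v (.inr 1) + b * v (.inr 1) ^ 2 := fun v => by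
    rw [hQdef, ← minusForm_apply]; simp [Cfsg.quadFormMinus]
  have hzero : ∀ v : ((Fin 0 ⊕ Fin 0) ⊕ Fin 2 → F), Q v = 0 → v = 0 := fun v hv => by
    obtain ⟨h1, h2⟩ := hab _ _ ((hQ' v).symm.trans hv)
    funext i
    rcases i with (i | i) | i
    · exact i.elim0
    · exact i.elim0
    · fin_cases i <;> assumption
  let T : ((Fin 0 ⊕ Fin 0) ⊕ Fin 2 → F) → ((Fin 0 ⊕ Fin 0) ⊕ Fin 2 → F) → ((Fin 0 ⊕ Fin 0) ⊕ Fin 2 → F) := fun u v => Sum.elim 0 ![u (.inr 0) * v (.inr 0) - b * (u (.inr 1) * v (.inr 1)),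
    u (.inr 0) * v (.inr 1) + u (.inr 1) * v (.inr 0) + a * (u (.inr 1) * v (.inr 1))]
  have hT : ∀ u v, Q (T u v) = Q u * Q v := fun u v => by
    rw [hQ', hQ', hQ']
    simp [T]
    ring
  have hTinj : ∀ u, Q u ≠ 0 → Function.Injective (T u) := fun u hu x y e => by
    have hsub : T u (x - y) = T u x - T u y := by
      funext i
      rcases i with (i | i) | i
      · exact i.elim0
      · exact i.elim0
      · fin_cases i <;> simp [T] <;> ring
    have h0 := hT u (x - y)
    rw [hsub, e, sub_self, QuadraticMap.map_zero, eq_comm] at h0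
    exact sub_eq_zero.1 (hzero _ ((mul_eq_zero.1 h0).resolve_left hu))
  have hle : ∀ c d : F, c ≠ 0 → d ≠ 0 → valueCount Q c ≤ valueCount Q d := fun c d hc hd => by
    obtain ⟨u, hu⟩ := exists_value_top hQ (show 2 ≤ finrank F ((Fin 0 ⊕ Fin 0) ⊕ Fin 2 → F) by simp) (d / c)
    have hu0 : Q u ≠ 0 := by rw [hu]; exact div_ne_zero hd hc
    exact Nat.card_le_card_of_injective
      (fun v => (⟨T u v.1, by rw [hT, hu, v.2, div_mul_cancel₀ _ hc]⟩ : {v : ((Fin 0 ⊕ Fin 0) ⊕ Fin 2 → F) // Q v = d}))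
      fun v w e => Subtype.ext (hTinj u hu0 (congrArg Subtype.val e :))
  have hsum : Nat.card ((Fin 0 ⊕ Fin 0) ⊕ Fin 2 → F) = ∑ d : F, valueCount Q d := by
    rw [← Nat.card_congr (Equiv.sigmaFiberEquiv (fun v : ((Fin 0 ⊕ Fin 0) ⊕ Fin 2 → F) => Q v)), Nat.card_sigma]
    rfl
  have h0 : valueCount Q 0 = 1 := Nat.card_eq_one_iff_unique.2
    ⟨⟨fun x y => Subtype.ext ((hzero _ x.2).trans (hzero _ y.2).symm)⟩, ⟨⟨0, QuadraticMap.map_zero Q⟩⟩⟩
  have heq : ∑ d ∈ univ.erase 0, valueCount Q d = (q - 1) * valueCount Q c := by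
    rw [Finset.sum_congr rfl fun d hd => le_antisymm (hle d c (mem_erase.1 hd).1 hc) (hle c d hc (mem_erase.1 hd).1),
      Finset.sum_const, smul_eq_mul, Finset.card_erase_of_mem (mem_univ _), Finset.card_univ, hF]
  rw [← Finset.add_sum_erase _ _ (mem_univ (0 : F)), h0, heq, card_pi_sum hF] at hsum
  simp only [Fintype.card_sum, Fintype.card_fin, Nat.zero_add] at hsum
  obtain ⟨r, rfl⟩ : ∃ r, q = r + 2 := ⟨q - 2, by have := Fintype.one_lt_card (α := F); omega⟩
  refine Nat.eq_of_mul_eq_mul_left (show 0 < r + 2 - 1 by omega) ?_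
  simp only [show r + 2 - 1 = r + 1 by omega] at hsum ⊢
  linarith [show (r + 2) ^ 2 = r * r + 4 * r + 4 by ring]

theorem valueCount_minus (hF : Fintype.card F = q) (a b : F)
    (hab : ∀ z₁ z₂ : F, z₁ ^ 2 + a * z₁ * z₂ + b * z₂ ^ 2 = 0 → z₁ = 0 ∧ z₂ = 0) {c : F} (hc : c ≠ 0) :
    ∀ k : ℕ, valueCount (minusForm F k a b) c = q ^ (2 * k + 1) + q ^ k := by
  intro k
  induction k with
  | zero => rw [valueCount_minus_zero hF a b hab hc]; simp
  | succ k ih =>
    rw [valueCount_congr (minusStep k) (minusStep_spec k a b), valueCount_plusPlane, card_pi_sum hF, hF, ih]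
    obtain ⟨r, rfl⟩ : ∃ r, q = r + 1 := ⟨q - 1, by have := Fintype.one_lt_card (α := F); omega⟩
    simp only [Fintype.card_sum, Fintype.card_fin, Nat.add_sub_cancel]
    ring

/-- Reflections on the orthogonal of the first two pairs. -/
theorem mobile_minus (a b : F) (hab : ∀ z₁ z₂ : F, z₁ ^ 2 + a * z₁ * z₂ + b * z₂ ^ 2 = 0 → z₁ = 0 ∧ z₂ = 0)
    (k : ℕ) (hk : 2 ≤ k) [Fintype ((Fin k ⊕ Fin k) ⊕ Fin 2 → F)] [DecidableEq ((Fin k ⊕ Fin k) ⊕ Fin 2 → F)] :
    Mobile (minusForm F k a b) (hypPairs_minus k hk a b) := by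
  classical
  intro y hy0 h1 h2 h3 h4
  set Q := minusForm F k a b with hQdef
  have hQ := minusForm_nondeg k a b hab
  let pl : F → F → ((Fin k ⊕ Fin k) ⊕ Fin 2 → F) := fun s t => Sum.elim 0 ![s, t]
  have hperp : ∀ s t, polar Q (pl s t) (hypPairs_minus k hk a b).e₀ = 0 ∧
      polar Q (pl s t) (hypPairs_minus k hk a b).f₀ = 0 ∧ polar Q (pl s t) (hypPairs_minus k hk a b).e₁ = 0 ∧
      polar Q (pl s t) (hypPairs_minus k hk a b).f₁ = 0 := fun s t => by
    refine ⟨?_, ?_, ?_, ?_⟩ <;> simp [hQdef, hypPairs_minus, minusForm_polar, pl, Pi.single_apply]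
  have hpl : ∀ s t, Q (pl s t) = s ^ 2 + a * s * t + b * t ^ 2 := fun s t => by
    rw [hQdef, ← minusForm_apply]; simp [Cfsg.quadFormMinus, pl]
  by_cases hplane : ∃ s t, polar Q (pl s t) y ≠ 0
  · obtain ⟨s, t, hst⟩ := hplane
    have hst0 : ¬ (s = 0 ∧ t = 0) := by
      rintro ⟨rfl, rfl⟩
      refine hst ?_
      rw [show pl 0 0 = 0 by funext i; rcases i with i | i <;> [simp [pl]; fin_cases i <;> simp [pl]], polar_zero_left]
    have hR : Q (pl s t) ≠ 0 := by rw [hpl]; exact fun e => hst0 (hab s t e)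
    -- a vector of the plane meeting it and not on its line
    obtain ⟨s', t', hB, hind⟩ : ∃ s' t', polar Q (pl s' t') (pl s t) ≠ 0 ∧ s' * t - t' * s ≠ 0 := by
      have hB0 : ∀ s' t' : F, polar Q (pl s' t') (pl s t) =
          s' * (2 * s + a * t) + t' * (a * s + 2 * b * t) := fun s' t' => by
        simp [hQdef, minusForm_polar, pl]; ring
      have hne : ¬ (2 * s + a * t = 0 ∧ a * s + 2 * b * t = 0) := by
        rintro ⟨e1, e2⟩
        have hnd := minusForm_nondeg 0 a b hab
        have h := hnd.1 (Sum.elim 0 ![s, t]) fun w => by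
          show polar (minusForm F 0 a b) _ w = 0
          simp [minusForm_polar]
          linear_combination w (.inr 0) * e1 + w (.inr 1) * e2
        exact hst0 ⟨by simpa using congrFun h (.inr 0), by simpa using congrFun h (.inr 1)⟩
      simp only [hB0]
      set A := 2 * s + a * t
      set B := a * s + 2 * b * t
      by_cases hA : A = 0
      · have hB' : B ≠ 0 := fun e => hne ⟨hA, e⟩
        by_cases hs : s = 0
        · refine ⟨1, 1, by simpa [hA] using hB', ?_⟩
          rw [hs, mul_zero, sub_zero, one_mul]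
          exact fun e => hst0 ⟨hs, e⟩
        · exact ⟨0, 1, by simpa [hA] using hB', by simpa using hs⟩
      · by_cases ht : t = 0
        · by_cases hB' : B = 0
          · refine ⟨1, 1, by simpa [hB'] using hA, ?_⟩
            rw [ht, mul_zero, zero_sub, one_mul, neg_ne_zero]
            exact fun e => hst0 ⟨e, ht⟩
          · refine ⟨0, 1, by simpa using hB', ?_⟩
            rw [ht, mul_zero, zero_sub, one_mul, neg_ne_zero]
            exact fun e => hst0 ⟨e, ht⟩
        · exact ⟨1, 0, by simpa using hA, by simpa using ht⟩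
    have hRw : Q (pl s' t') ≠ 0 := by
      rw [hpl]
      intro e
      obtain ⟨rfl, rfl⟩ := hab s' t' e
      simp at hind
    set r := (Q (pl s' t'))⁻¹ * polar Q (pl s' t') (pl s t)
    have hr : r ≠ 0 := mul_ne_zero (inv_ne_zero hRw) hB
    have hb : (refl Q (pl s' t')).1 (pl s t) = pl (s - r * s') (t - r * t') := by
      rw [refl_apply]
      funext i
      rcases i with i | i
      · simp [pl]
      · fin_cases i <;> simp [pl, r]
    refine ⟨pl s t, pl (s - r * s') (t - r * t'), hperp _ _, hperp _ _, hR, by rw [← hb, apply_quad], hst, ?_⟩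
    intro l e
    have e1 := congrFun e (.inr 0)
    have e2 := congrFun e (.inr 1)
    simp [pl] at e1 e2
    exact mul_ne_zero hr hind (by linear_combination s * e2 - t * e1)
  · push Not at hplane
    obtain ⟨i, hi⟩ : ∃ i : Fin k, y (.inl (.inl i)) ≠ 0 ∨ y (.inl (.inr i)) ≠ 0 := by
      by_contra! hall
      refine hy0 (hQ.1 y fun w => ?_)
      show polar Q y w = 0
      have := hplane (w (.inr 0)) (w (.inr 1))
      rw [polar_comm] at this
      simp [hQdef, minusForm_polar, pl, hall] at this ⊢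
      exact this
    have hi2 : i ≠ ⟨0, by omega⟩ ∧ i ≠ ⟨1, by omega⟩ := by
      constructor <;> rintro rfl
      · rcases hi with h | h
        · exact h (by simpa [hQdef, hypPairs_minus, minusForm_polar, Pi.single_apply] using h2)
        · exact h (by simpa [hQdef, hypPairs_minus, minusForm_polar, Pi.single_apply] using h1)
      · rcases hi with h | h
        · exact h (by simpa [hQdef, hypPairs_minus, minusForm_polar, Pi.single_apply] using h4)
        · exact h (by simpa [hQdef, hypPairs_minus, minusForm_polar, Pi.single_apply] using h3)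
    obtain ⟨x, hx0, hxp, hxy, hx1, hxi⟩ : ∃ x : (Fin k ⊕ Fin k) ⊕ Fin 2 → F, Q (x + pl 1 0) = 1 ∧
        (polar Q x (hypPairs_minus k hk a b).e₀ = 0 ∧ polar Q x (hypPairs_minus k hk a b).f₀ = 0 ∧
          polar Q x (hypPairs_minus k hk a b).e₁ = 0 ∧ polar Q x (hypPairs_minus k hk a b).f₁ = 0) ∧
        polar Q x y ≠ 0 ∧ x (.inr 0) = 0 ∧ x ≠ 0 := by
      rcases hi with h | h
      · refine ⟨Pi.single (.inl (.inr i)) 1, ?_, ?_, ?_, by simp [Pi.single_apply], by simp⟩
        · rw [hQdef, ← minusForm_apply]; simp [Cfsg.quadFormMinus, pl, Pi.single_apply]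
        · refine ⟨?_, ?_, ?_, ?_⟩ <;>
            simp [hQdef, hypPairs_minus, minusForm_polar, Pi.single_apply, hi2.1, hi2.2, hi2.1.symm, hi2.2.symm]
        · simpa [hQdef, minusForm_polar, Pi.single_apply] using h
      · refine ⟨Pi.single (.inl (.inl i)) 1, ?_, ?_, ?_, by simp [Pi.single_apply], by simp⟩
        · rw [hQdef, ← minusForm_apply]; simp [Cfsg.quadFormMinus, pl, Pi.single_apply]
        · refine ⟨?_, ?_, ?_, ?_⟩ <;>
            simp [hQdef, hypPairs_minus, minusForm_polar, Pi.single_apply, hi2.1, hi2.2, hi2.1.symm, hi2.2.symm]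
        · simpa [hQdef, minusForm_polar, Pi.single_apply] using h
    obtain ⟨p1, p2, p3, p4⟩ := hperp 1 0
    obtain ⟨q1, q2, q3, q4⟩ := hxp
    refine ⟨x + pl 1 0, pl 1 0, ⟨?_, ?_, ?_, ?_⟩, hperp 1 0, by rw [hx0]; exact one_ne_zero, ?_, ?_, ?_⟩
    · rw [polar_add_left, q1, p1, add_zero]
    · rw [polar_add_left, q2, p2, add_zero]
    · rw [polar_add_left, q3, p3, add_zero]
    · rw [polar_add_left, q4, p4, add_zero]
    · rw [hx0, hpl]; ring
    · rw [polar_add_left, hplane, add_zero]; exact hxy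
    · intro l e
      have e1 := congrFun e (.inr 0)
      simp [pl, hx1] at e1
      rw [← e1, one_smul] at e
      exact hxi (by simpa using e.symm)

set_option maxHeartbeats 1000000 in
theorem num_minus_small (hF : Fintype.card F = q) (hq : q ≤ 3) (a b : F)
    (hab : ∀ z₁ z₂ : F, z₁ ^ 2 + a * z₁ * z₂ + b * z₂ ^ 2 = 0 → z₁ = 0 ∧ z₂ = 0) (k : ℕ) (hk : 2 ≤ k)
    [Fintype ((Fin k ⊕ Fin k) ⊕ Fin 2 → F)] [DecidableEq ((Fin k ⊕ Fin k) ⊕ Fin 2 → F)] :
    ∃ p P N, p.Prime ∧ CharP F p ∧ Num (minusForm F k a b) p P N k ∧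
      (q - 1) * N = (q ^ (k + 2) + 1) * (q ^ (k + 1) - 1) := by
  have h2q : 2 ≤ q := hF ▸ Fintype.one_lt_card
  obtain ⟨p, hc⟩ := CharP.exists F
  obtain ⟨n, hp, hn⟩ := FiniteField.card F p
  rw [hF] at hn
  have hpq : p = q := by
    have h1 : p ∣ q := hn ▸ dvd_pow_self p n.ne_zero
    have h2 := hp.two_le
    have h3 := Nat.le_of_dvd (by omega) h1
    interval_cases q <;> interval_cases p <;> simp at h1 ⊢
  subst hpq
  have hR := minusForm_nondeg (F := F) k a b hab
  have hdim : finrank F ((Fin k ⊕ Fin k) ⊕ Fin 2 → F) = 2 * k + 2 := by simp; omega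
  obtain ⟨P, hP, hN⟩ := card_points (minusForm F k a b)
  set N := Nat.card (SingPts (plusPlane (minusForm F k a b))) with hNdef
  set u := p ^ k with hu
  have hu2 : p * p ≤ u := by rw [← pow_two]; exact Nat.pow_le_pow_right (by omega) hk
  have hu4 : 4 ≤ u := le_trans (Nat.mul_le_mul h2q h2q) hu2
  have hX : Fintype.card ((Fin k ⊕ Fin k) ⊕ Fin 2 → F) = p * p * (u * u) := by
    rw [← Nat.card_eq_fintype_card, Module.natCard_eq_pow_finrank (K := F), Nat.card_eq_fintype_card, hF, hdim,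
      pow_add, two_mul, pow_add, ← hu]
    ring
  have hd2 : Fintype.card F ^ (finrank F ((Fin k ⊕ Fin k) ⊕ Fin 2 → F) - 2) = u * u := by
    rw [hF, hdim, hu, ← pow_add]
    congr 1; omega
  have hz : (zeroCount (minusForm F k a b) : ℤ) = p * (u * u) - ((p : ℤ) - 1) * u := by
    rw [zeroCount_minus hF a b hab k, pow_succ, two_mul, pow_add, pow_succ, hu]
    push_cast
    ring
  have hp2 : (2 : ℤ) ≤ p := by exact_mod_cast h2q
  have hp3 : (p : ℤ) ≤ 3 := by exact_mod_cast hq
  have hu2' : (p : ℤ) * p ≤ u := by exact_mod_cast hu2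
  have hu4' : (4 : ℤ) ≤ u := by exact_mod_cast hu4
  have hgap : (p : ℤ) ≤ u * u - ((p : ℤ) - 1) * u := by nlinarith
  have h1 : 1 ≤ zeroCount (minusForm F k a b) := by
    zify; rw [hz]; nlinarith
  have hge : (p - 1) * (u * u) + p ≤ zeroCount (minusForm F k a b) := by
    zify [show 1 ≤ p by omega]; rw [hz]; linarith
  have hsingc := card_sing (R := minusForm F k a b)
  have hpairs := card_pairs hR (show 2 ≤ finrank F ((Fin k ⊕ Fin k) ⊕ Fin 2 → F) by omega)
  rw [hd2, hF, Nat.sub_sub] at hpairs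
  rw [hsingc, hF] at hP
  rw [hF, hX] at hN
  zify [h1, hge, show 1 ≤ p by omega] at hpairs
  zify [h1, show 1 ≤ p by omega] at hP
  zify at hN
  rw [hz] at hP hpairs
  have hclsge : ∀ v, minusForm F k a b v ≠ 0 →
      (p : ℤ) * (u * u) + u ≤ ((cls (minusForm F k a b) v).card : ℤ) := fun v hv => by
    classical
    have h := valueCount_minus hF a b hab hv k
    rw [valueCount, Nat.card_eq_fintype_card, Fintype.card_subtype] at h
    have hle := Finset.card_le_card (show (univ.filter fun x => minusForm F k a b x = minusForm F k a b v) ⊆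
      cls (minusForm F k a b) v from fun x hx => mem_cls.2 ⟨1, one_ne_zero, by
        rw [(mem_filter.1 hx).2, one_mul, one_mul]⟩)
    rw [h, pow_succ, two_mul, pow_add, ← hu] at hle
    zify at hle
    linarith
  refine ⟨p, P, N, hp, hc, ?_, ?_⟩
  swap
  · rw [show p ^ (k + 2) = p * (p * u) by rw [hu]; ring, show p ^ (k + 1) = p * u by rw [hu]; ring]
    zify [show 1 ≤ p by omega, show 1 ≤ p * u from Nat.one_le_iff_ne_zero.2 (by positivity)]
    linear_combination ((p : ℤ) - 1) * hN + (p : ℤ) * hP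
  have hq1 : (0 : ℤ) < (p : ℤ) - 1 := by linarith
  have hpz : (p : ℤ) = 2 ∨ (p : ℤ) = 3 := by omega
  have hpairs' : ((pairs (minusForm F k a b)).card : ℤ) = ((p : ℤ) * u + 1) * (u - 1) * ((u - p) * (u + 1)) := by
    rw [hpairs]; ring
  have hN' : ((p : ℤ) - 1) * N = ((p : ℤ) * (p * u) + 1) * (p * u - 1) := by
    linear_combination ((p : ℤ) - 1) * hN + (p : ℤ) * hP
  have hA : ((p : ℤ) - 1) * (p * P + 1) = (p : ℤ) * (p * (u * u) - (p - 1) * u) - 1 := by
    linear_combination (p : ℤ) * hP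
  refine ⟨by rw [hsingc, hF]; zify [h1, show 1 ≤ p by omega]; rw [hz]; exact hP,
    by rw [hF, hX]; exact_mod_cast hN, rfl, ?_, Or.inr ⟨hF, hq, by omega, ?_⟩,
    Or.inr ⟨hF, hq, hypPairs_minus k hk a b, mobile_minus a b hab k hk⟩, ?_, ?_, ?_, Or.inl ?_⟩
  · rw [hF, hX]
    zify
    refine le_of_mul_le_mul_left ?_ hq1
    rw [hA]
    have := le_mul_of_one_le_left (show (0 : ℤ) ≤ p * p * (u * u) by positivity)
      (show (1 : ℤ) ≤ p - 1 by linarith)
    have : (0 : ℤ) ≤ p * ((p - 1) * u) := mul_nonneg (by linarith) (mul_nonneg (by linarith) (by linarith))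
    linarith
  · intro v hv
    zify
    exact small_clsk hpz hu4' hN' (hclsge v hv)
  · intro v hv
    rw [hF]
    zify [show 1 ≤ p by omega]
    rw [hA]
    exact small_cls hpz hu4' (hclsge v hv)
  · intro T hT
    exact minus_singular_finrank_le hab T hT
  · rw [hF, ← hu]
    zify
    refine le_of_mul_le_mul_left ?_ hq1
    rw [hpairs', ← mul_assoc, hA]
    exact small_pp hpz hu2'
  · rw [hF, ← hu]
    zify [show 1 ≤ u by omega]
    refine le_of_mul_le_mul_left ?_ hq1
    rw [hpairs', ← mul_assoc, hN', ← mul_assoc]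
    refine le_trans (le_of_eq ?_) ((small_max hpz hu2').trans_eq ?_) <;> ring

end CfsgLib.KnownA.MinIndexOrth
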