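import Cfsg.Agent.Lib.KnownA.MinIndexOrth.MaxCase

/-!
# Minimal index in orthogonal groups: counting vectors
-/

set_option autoImplicit false
set_option linter.unusedSectionVars false

open Module QuadraticMap CfsgLib.Orth CfsgLib.Classical Finset

namespace CfsgLib.KnownA.MinIndexOrth

/-- The singular points, counted through the singular vectors. -/
theorem card_singPts_mul {F V : Type*} [Field F] [Fintype F] [AddCommGroup V] [Module F V]
    [FiniteDimensional F V] (Q : QuadraticForm F V) :
    Nat.card (SingPts Q) * (Fintype.card F - 1) = zeroCount Q - 1 := by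
  classical
  have : Finite V := Module.finite_of_finite F
  have := Fintype.ofFinite V
  have := Fintype.ofFinite (SingPts Q)
  let f : SingPts Q × Fˣ → {v : V // v ≠ 0 ∧ Q v = 0} := fun z =>
    ⟨(z.2 : F) • z.1.1.rep, smul_ne_zero z.2.ne_zero (Projectivization.rep_nonzero _),
      by rw [quad_smul', z.1.2, mul_zero]⟩
  have hf : Function.Bijective f := by
    constructor
    · rintro ⟨p, c⟩ ⟨p', c'⟩ h
      have h' : (c : F) • p.1.rep = (c' : F) • p'.1.rep := congrArg Subtype.val h
      have hp : p = p' := by
        refine Subtype.ext ?_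
        rw [← Projectivization.mk_rep p.1, ← Projectivization.mk_rep p'.1]
        refine (Projectivization.mk_eq_mk_iff' _ _ _ _ _).2 ⟨(c : F)⁻¹ * c', ?_⟩
        rw [← smul_smul, ← h', smul_smul, inv_mul_cancel₀ c.ne_zero, one_smul]
      subst hp
      exact Prod.ext rfl (Units.ext (smul_left_injective F (Projectivization.rep_nonzero p.1) h'))
    · rintro ⟨v, hv, hv0⟩
      obtain ⟨c, hc⟩ := Projectivization.exists_smul_eq_mk_rep F v hv
      refine ⟨(singPt Q hv hv0, c⁻¹), Subtype.ext ?_⟩
      show ((c⁻¹ : Fˣ) : F) • (singPt Q hv hv0).1.rep = v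
      rw [show (singPt Q hv hv0).1.rep = c • v from hc.symm, Units.smul_def, smul_smul, ← Units.val_mul,
        inv_mul_cancel, Units.val_one, one_smul]
  rw [← Nat.card_eq_fintype_card (α := F), ← Nat.card_units, ← Nat.card_prod, Nat.card_congr (Equiv.ofBijective f hf),
    zeroCount]
  change Nat.card {e : V | e ≠ 0 ∧ Q e = 0} = Nat.card {v : V | Q v = 0} - 1
  rw [Nat.card_coe_set_eq, Nat.card_coe_set_eq,
    show {e : V | e ≠ 0 ∧ Q e = 0} = {v : V | Q v = 0} \ {0} by ext; simp [and_comm],
    Set.ncard_diff_singleton_of_mem (by simp)]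

variable {F W : Type*} [Field F] [Fintype F] [AddCommGroup W] [Module F W] [FiniteDimensional F W]
  [Fintype W] [DecidableEq W] {R : QuadraticForm F W}

theorem card_sing : (sing R).card = zeroCount R - 1 := by
  classical
  rw [zeroCount, Nat.card_eq_fintype_card, Fintype.card_subtype]
  have : sing R = (univ.filter fun v => R v = 0).erase 0 := by
    ext v; simp [mem_sing]
  rw [this, Finset.card_erase_of_mem (by simp)]

theorem card_points (R : QuadraticForm F W) : ∃ P : ℕ, (Fintype.card F - 1) * P = (sing R).card ∧
    Nat.card (SingPts (plusPlane R)) = Fintype.card W + Fintype.card F * P + 1 := by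
  refine ⟨Nat.card (SingPts R), by rw [card_sing, ← card_singPts_mul, mul_comm], ?_⟩
  have h1 := card_singPts_mul (plusPlane R)
  have h2 := card_singPts_mul R
  have hz : 1 ≤ zeroCount R :=
    Nat.one_le_iff_ne_zero.2 (Nat.card_ne_zero.2 ⟨⟨⟨0, by simp⟩⟩, inferInstance⟩)
  rw [zeroCount_plusPlane, Nat.card_eq_fintype_card (α := W)] at h1
  obtain ⟨r, hr⟩ : ∃ r, Fintype.card F = r + 2 := ⟨Fintype.card F - 2, by
    have := Fintype.one_lt_card (α := F); omega⟩
  obtain ⟨z, hz'⟩ : ∃ z, zeroCount R = z + 1 := ⟨zeroCount R - 1, by omega⟩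
  rw [hr, hz'] at h1 h2
  rw [hr]
  simp only [Nat.add_sub_cancel, show r + 2 - 1 = r + 1 by omega] at h1 h2 ⊢
  refine Nat.eq_of_mul_eq_mul_right (show 0 < r + 1 by omega) ?_
  rw [h1]
  have e : (r + 1) * Fintype.card W + (r + 2) * (z + 1) =
      (Fintype.card W + (r + 2) * Nat.card (SingPts R) + 1) * (r + 1) + 1 := by
    rw [← h2]; ring
  omega

theorem card_polar_ne (hR : (QuadraticMap.polarBilin R).Nondegenerate) {a : W} (ha : a ≠ 0)
    [DecidablePred fun v => polar R a v ≠ 0] :
    (univ.filter fun v => polar R a v ≠ 0).card =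
      (Fintype.card F - 1) * Fintype.card F ^ (finrank F W - 1) := by
  classical
  set φ : W →ₗ[F] F := QuadraticMap.polarBilin R a
  have hφ : φ ≠ 0 := fun h => ha (hR.1 a fun w => by rw [show (QuadraticMap.polarBilin R) a = 0 from h]; rfl)
  have hker : finrank F (LinearMap.ker φ) = finrank F W - 1 := by
    have h1 := φ.finrank_range_add_finrank_ker
    have h2 : finrank F (LinearMap.range φ) = 1 := by
      rw [LinearMap.range_eq_top.2 (LinearMap.surjective hφ), finrank_top, finrank_self]
    omega
  have hk : (univ.filter fun v => polar R a v = 0).card = Fintype.card F ^ (finrank F W - 1) := by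
    rw [← hker, ← Nat.card_eq_fintype_card (α := F), ← Module.natCard_eq_pow_finrank,
      Nat.card_eq_fintype_card, Fintype.card_subtype]
    congr 1
  have h := Finset.card_filter_add_card_filter_not (s := (univ : Finset W)) (fun v => polar R a v = 0)
  rw [hk, Finset.card_univ, ← Nat.card_eq_fintype_card (α := W), Module.natCard_eq_pow_finrank (K := F),
    Nat.card_eq_fintype_card] at h
  have hd : 0 < finrank F W := by
    have : Nontrivial W := ⟨⟨a, 0, ha⟩⟩
    exact Module.finrank_pos
  have : Fintype.card F ^ finrank F W = Fintype.card F ^ (finrank F W - 1) * Fintype.card F := by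
    rw [← pow_succ]; congr 1; omega
  rw [this] at h
  rw [Nat.sub_mul, one_mul, mul_comm (Fintype.card F)]
  simp only [ne_eq] at *
  omega

/-- Each value is taken equally often off a singular hyperplane. -/
theorem card_value_ne (hR : (QuadraticMap.polarBilin R).Nondegenerate) (hd : 2 ≤ finrank F W) {a : W}
    (ha : a ≠ 0) (hRa : R a = 0) (c : F) [DecidablePred fun v => polar R a v ≠ 0 ∧ R v = c] :
    (univ.filter fun v => polar R a v ≠ 0 ∧ R v = c).card =
      (Fintype.card F - 1) * Fintype.card F ^ (finrank F W - 2) := by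
  classical
  have hshift : ∀ (t : F) (v : W), polar R a (v + t • a) = polar R a v := fun t v => by
    rw [polar_add_right, polar_smul_r', polar_self', hRa]; ring
  have hval : ∀ (t : F) (v : W), R (v + t • a) = R v + t * polar R a v := fun t v => by
    rw [quad_add', quad_smul', hRa, polar_smul_r', polar_comm _ v a]; ring
  have h : ((univ.filter fun v => polar R a v ≠ 0 ∧ R v = c) ×ˢ (univ : Finset F)).card =
      (univ.filter fun v => polar R a v ≠ 0).card := by
    refine Finset.card_bij (fun z _ => z.1 + z.2 • a) ?_ ?_ ?_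
    · intro z hz
      simp only [mem_product, mem_filter, mem_univ, true_and, and_true] at hz ⊢
      rw [hshift]; exact hz.1
    · rintro ⟨v, t⟩ hv ⟨v', t'⟩ hv' e
      simp only [mem_product, mem_filter, mem_univ, true_and, and_true] at hv hv' e
      have e1 := congrArg (polar R a) e
      rw [hshift, hshift] at e1
      have e2 := congrArg R e
      rw [hval, hval, hv.2, hv'.2, e1, add_right_inj] at e2
      obtain rfl := mul_right_cancel₀ hv'.1 e2
      rw [add_right_cancel e]
    · intro u hu
      simp only [mem_filter, mem_univ, true_and] at hu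
      refine ⟨(u + ((c - R u) / polar R a u) • a, -((c - R u) / polar R a u)), ?_, ?_⟩
      · simp only [mem_product, mem_filter, mem_univ, true_and, and_true, hshift, hval]
        exact ⟨hu, by field_simp; ring⟩
      · simp only [neg_smul, add_neg_cancel_right]
  rw [card_product, Finset.card_univ, card_polar_ne hR ha] at h
  refine Nat.eq_of_mul_eq_mul_right (Fintype.card_pos (α := F)) ?_
  rw [h, mul_assoc, ← pow_succ]
  congr 2
  omega

/-- Independent orthogonal singular pairs. -/
theorem card_pairs (hR : (QuadraticMap.polarBilin R).Nondegenerate) (hd : 2 ≤ finrank F W) :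
    (pairs R).card = (zeroCount R - 1) *
      (zeroCount R - (Fintype.card F - 1) * Fintype.card F ^ (finrank F W - 2) - Fintype.card F) := by
  classical
  have hfib : ∀ a ∈ sing R, (univ.filter fun b =>
      R b = 0 ∧ polar R a b = 0 ∧ LinearIndependent F ![a, b]).card =
      zeroCount R - (Fintype.card F - 1) * Fintype.card F ^ (finrank F W - 2) - Fintype.card F := by
    intro a ha
    obtain ⟨ha0, hRa⟩ := mem_sing.1 ha
    have e0 : (univ.filter fun b => R b = 0).card = zeroCount R := by
      rw [zeroCount, Nat.card_eq_fintype_card, Fintype.card_subtype]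
    have e1 := Finset.card_filter_add_card_filter_not (s := univ.filter fun b => R b = 0)
      (fun b => polar R a b = 0)
    rw [e0, Finset.filter_filter, Finset.filter_filter] at e1
    have e2 : (univ.filter fun b => R b = 0 ∧ ¬ polar R a b = 0).card =
        (Fintype.card F - 1) * Fintype.card F ^ (finrank F W - 2) := by
      rw [← card_value_ne hR hd ha0 hRa 0]
      congr 1
      exact Finset.filter_congr fun b _ => and_comm
    have hline : ((univ.filter fun b => R b = 0 ∧ polar R a b = 0).filter fun b =>
        ¬ LinearIndependent F ![a, b]) = univ.image fun c : F => c • a := by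
      ext b
      simp only [mem_filter, mem_univ, true_and, mem_image, LinearIndependent.pair_iff' ha0, not_forall,
        not_not, eq_comm (b := b)]
      constructor
      · rintro ⟨-, c, hc⟩; exact ⟨c, hc⟩
      · rintro ⟨c, rfl⟩
        exact ⟨⟨by rw [quad_smul', hRa, mul_zero], by rw [polar_smul_r', polar_self', hRa]; ring⟩, c, rfl⟩
    have e3 := Finset.card_filter_add_card_filter_not (s := univ.filter fun b => R b = 0 ∧ polar R a b = 0)
      (fun b => LinearIndependent F ![a, b])
    rw [hline, Finset.card_image_of_injective _ (smul_left_injective F ha0), Finset.card_univ,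
      Finset.filter_filter] at e3
    simp only [and_assoc] at e3
    omega
  have hdec : (pairs R).card = ∑ a ∈ sing R,
      (univ.filter fun b => R b = 0 ∧ polar R a b = 0 ∧ LinearIndependent F ![a, b]).card := by
    rw [← Finset.card_sigma]
    refine Finset.card_bij (fun z _ => ⟨z.1, z.2⟩) ?_ ?_ ?_
    · intro z hz
      obtain ⟨h1, h2, h3, h4⟩ := mem_pairs.1 hz
      simp only [Finset.mem_sigma, mem_filter, mem_univ, true_and, mem_sing]
      exact ⟨⟨by simpa using h4.ne_zero 0, h1⟩, h2, h3, h4⟩
    · intro z _ z' _ h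
      simp only [Sigma.mk.injEq, heq_eq_eq] at h
      exact Prod.ext h.1 h.2
    · rintro ⟨a, b⟩ h
      simp only [Finset.mem_sigma, mem_filter, mem_univ, true_and, mem_sing] at h
      exact ⟨(a, b), mem_pairs.2 ⟨h.1.2, h.2⟩, rfl⟩
  rw [hdec, Finset.sum_congr rfl hfib, Finset.sum_const, smul_eq_mul, card_sing]

/-- The square class of a value has many vectors. -/
theorem card_cls_ge (hR : (QuadraticMap.polarBilin R).Nondegenerate) (hd : 2 ≤ finrank F W)
    {a : W} (ha : a ≠ 0) (hRa : R a = 0) {u : W} (hu : R u ≠ 0) :
    (Fintype.card F - 1) * ((Fintype.card F - 1) * Fintype.card F ^ (finrank F W - 2)) ≤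
      2 * (cls R u).card := by
  classical
  set T := ((univ : Finset F).erase 0).image fun β => β * β * R u
  have hT : Fintype.card F - 1 ≤ 2 * T.card := by
    rw [← Finset.card_univ, ← Finset.card_erase_of_mem (mem_univ (0 : F))]
    refine Finset.card_le_mul_card_image _ _ fun c hc => ?_
    obtain ⟨β, hβ, rfl⟩ := mem_image.1 hc
    calc ((univ.erase 0).filter fun γ => γ * γ * R u = β * β * R u).card ≤ ({β, -β} : Finset F).card := by
          refine Finset.card_le_card fun γ hγ => ?_
          rw [mem_filter] at hγ
          rcases mul_self_eq_mul_self_iff.1 (mul_right_cancel₀ hu hγ.2) with h | h <;> simp [h]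
      _ ≤ 2 := Finset.card_le_two
  have hsub : (T.biUnion fun c => univ.filter fun v => polar R a v ≠ 0 ∧ R v = c) ⊆ cls R u := by
    intro v hv
    obtain ⟨c, hc, hv⟩ := mem_biUnion.1 hv
    obtain ⟨β, hβ, rfl⟩ := mem_image.1 hc
    exact mem_cls.2 ⟨β, (mem_erase.1 hβ).1, (mem_filter.1 hv).2.2⟩
  have hle := Finset.card_le_card hsub
  rw [Finset.card_biUnion (fun c _ c' _ hcc' => Finset.disjoint_filter.2 fun v _ hv hv' =>
    hcc' (hv.2.symm.trans hv'.2))] at hle
  rw [Finset.sum_congr rfl fun c _ => card_value_ne hR hd ha hRa c, Finset.sum_const, smul_eq_mul] at hle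
  calc _ ≤ 2 * T.card * ((Fintype.card F - 1) * Fintype.card F ^ (finrank F W - 2)) :=
        Nat.mul_le_mul_right _ hT
    _ ≤ _ := by rw [mul_assoc]; exact Nat.mul_le_mul_left 2 hle

/-- In characteristic two every non-singular vector lies in the class. -/
theorem card_cls_two [CharP F 2] {u : W} (hu : R u ≠ 0) :
    (cls R u).card = Fintype.card W - zeroCount R := by
  classical
  rw [zeroCount, Nat.card_eq_fintype_card, Fintype.card_subtype, ← Finset.card_compl]
  congr 1
  ext v
  simp only [mem_cls, mem_compl, mem_filter, mem_univ, true_and]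
  constructor
  · rintro ⟨β, hβ, h⟩
    rw [h]
    exact mul_ne_zero (mul_ne_zero hβ hβ) hu
  · intro hv
    obtain ⟨β, hβ⟩ := FiniteField.isSquare_of_char_two (ringChar.eq F 2) (R v * (R u)⁻¹)
    have hβ0 : β ≠ 0 := fun h => mul_ne_zero hv (inv_ne_zero hu) (by rw [hβ, h, mul_zero])
    exact ⟨β, hβ0, by rw [← hβ, mul_assoc, inv_mul_cancel₀ hu, mul_one]⟩

end CfsgLib.KnownA.MinIndexOrth
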