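import Cfsg.Agent.Lib.KnownA.MinIndexOrth.Dichotomy

/-!
# Minimal index in orthogonal groups: annihilators over the fields with two and three elements

When the multiplicity is less than twice the characteristic, the Siegel transformations fixing all
orbits above a vector still form a subgroup of index at most `p` in each root group.
-/

set_option autoImplicit false
set_option linter.unusedSectionVars false

open Module QuadraticMap CfsgLib.Orth CfsgLib.Classical Finset

namespace CfsgLib.KnownA.MinIndexOrth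

variable {F W : Type*} [Field F] [Fintype F] [AddCommGroup W] [Module F W] [FiniteDimensional F W]
  [Fintype W] [DecidableEq W] {R : QuadraticForm F W} {Ω : Type*} [Fintype Ω] [DecidableEq Ω]

theorem natCast_surj {p : ℕ} [Fact p.Prime] [CharP F p] (hF : Fintype.card F = p) (t : F) :
    ∃ i : ℕ, (i : F) = t := by
  have hb : Function.Bijective (ZMod.castHom dvd_rfl F : ZMod p →+* F) :=
    (Fintype.bijective_iff_injective_and_card _).2 ⟨RingHom.injective _, by rw [ZMod.card, hF]⟩
  obtain ⟨z, hz⟩ := hb.2 t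
  refine ⟨z.val, ?_⟩
  rw [← hz, ← map_natCast (ZMod.castHom dvd_rfl F : ZMod p →+* F), ZMod.natCast_zmod_val]

/-- A `p`-subgroup of a small symmetric group has order at most `p`. -/
theorem small_pgroup {p k n : ℕ} (hp : p.Prime) (h3 : p ≤ 3) (hk : k < 2 * p) (h : p ^ n ∣ k.factorial) :
    p ^ n ≤ p := by
  rcases Nat.lt_or_ge n 2 with hn | hn
  · calc p ^ n ≤ p ^ 1 := Nat.pow_le_pow_right hp.pos (by omega)
      _ = p := pow_one p
  · exfalso
    have h2 : p ^ 2 ∣ k.factorial := (pow_dvd_pow p hn).trans h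
    have := hp.two_le
    interval_cases p <;> interval_cases k <;> revert h2 <;> decide

namespace Act

variable (A : Act R Ω)

theorem ann_smul {p : ℕ} [Fact p.Prime] [CharP F p] (hF : Fintype.card F = p) {ω : Ω} {y : W}
    (hy : y ∈ A.ann ω) (t : F) : t • y ∈ A.ann ω := by
  obtain ⟨i, rfl⟩ := natCast_surj hF t
  rw [Nat.cast_smul_eq_nsmul]
  induction i with
  | zero => rw [zero_smul]; exact A.zero_mem ω
  | succ i ih => rw [succ_nsmul]; exact A.ann_add ih hy

/-- A subgroup of index at most `p` of the root group at `a` preserves the annihilator. -/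
theorem exists_kernel {p : ℕ} [Fact p.Prime] [CharP F p] (h3 : p ≤ 3) {ω : Ω} {u a : W}
    (hk : (A.above u).card < 2 * p) (huU : u ∈ A.ann ω) (ha : R a = 0) (hua : polar R u a = 0) :
    ∃ H : AddSubgroup W, (∀ c ∈ H, polar R a c = 0 ∧ polar R u c = 0) ∧
      Nat.card {c : W // polar R a c = 0 ∧ polar R u c = 0} ≤ p * Nat.card H ∧
      ∀ c ∈ H, ∀ y ∈ A.ann ω, polar R a y • c + (-(polar R c y) - R c * polar R a y) • a ∈ A.ann ω := by
  classical
  let P : AddSubgroup W :=
    { carrier := {c | polar R a c = 0 ∧ polar R u c = 0}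
      zero_mem' := ⟨polar_zero_right (Q := R) a, polar_zero_right (Q := R) u⟩
      add_mem' := fun {x y} hx hy =>
        ⟨by rw [polar_add_right, hx.1, hy.1, add_zero], by rw [polar_add_right, hx.2, hy.2, add_zero]⟩
      neg_mem' := fun {x} hx =>
        ⟨by rw [polar_neg_right, hx.1, neg_zero], by rw [polar_neg_right, hx.2, neg_zero]⟩ }
  let g : P → ↥(commutator (orthGroup R)) := fun c => (A.S.exists_sgl ha c.2.1).choose
  have hg : ∀ c : P, IsSiegel (g c).1 a c.1 := fun c => (A.S.exists_sgl ha c.2.1).choose_spec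
  have hgu : ∀ c : P, (g c).1.1 u = u := fun c => by
    rw [(hg c).2.2, polar_comm _ a u, hua, polar_comm _ c.1 u, c.2.2]; simp
  have hgadd : ∀ c c' : P, g (c + c') = g c * g c' := fun c c' =>
    Subtype.ext ((hg (c + c')).unique ((hg c).mul (hg c')))
  have hmaps : ∀ (c : P), ∀ O ∈ A.above u, O.image (A.π (embG R (g c))) ∈ A.above u := fun c O hO => by
    have := A.above_moves (A.S.moves_emb (g c)) one_ne_zero hO
    rwa [inv_one, one_smul, hgu c] at this
  let τ : P → Equiv.Perm ↥(A.above u) := fun c => Equiv.ofBijective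
    (fun O => ⟨O.1.image (A.π (embG R (g c))), hmaps c O.1 O.2⟩)
    (Finite.injective_iff_bijective.1 fun O O' h =>
      Subtype.ext (Finset.image_injective (A.π _).injective (congrArg Subtype.val h)))
  have hτ : ∀ (c : P) (O : ↥(A.above u)), (τ c O).1 = O.1.image (A.π (embG R (g c))) := fun c O => rfl
  have hmul : ∀ c c' : P, τ (c + c') = τ c * τ c' := fun c c' => by
    refine Equiv.ext fun O => Subtype.ext ?_
    rw [Equiv.Perm.mul_apply, hτ, hτ, hτ, hgadd, map_mul, map_mul, Finset.image_image]
    rfl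
  let φ : Multiplicative P →* Equiv.Perm ↥(A.above u) :=
    MonoidHom.mk' (fun c => τ c.toAdd) fun c c' => hmul _ _
  have hp : p.Prime := Fact.out
  have hpg : IsPGroup p φ.range := by
    rintro ⟨x, c, rfl⟩
    refine ⟨1, Subtype.ext ?_⟩
    rw [SubgroupClass.coe_pow, OneMemClass.coe_one, pow_one, ← map_pow]
    convert map_one φ
    apply Multiplicative.toAdd.injective
    apply Subtype.ext
    rw [toAdd_pow, AddSubgroupClass.coe_nsmul, toAdd_one, ← Nat.cast_smul_eq_nsmul F, CharP.cast_eq_zero, zero_smul]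
    rfl
  obtain ⟨n, hn⟩ := (IsPGroup.iff_card).1 hpg
  have hrange : Nat.card φ.range ≤ p := by
    rw [hn]
    refine small_pgroup hp h3 hk ?_
    rw [← hn, ← Fintype.card_coe (A.above u), ← Fintype.card_perm, ← Nat.card_eq_fintype_card]
    exact Subgroup.card_subgroup_dvd_card _
  let H : AddSubgroup W :=
    { carrier := {c | ∃ hc : c ∈ P, τ ⟨c, hc⟩ = 1}
      zero_mem' := ⟨P.zero_mem, map_one φ⟩
      add_mem' := by
        rintro x y ⟨hx, ex⟩ ⟨hy, ey⟩
        exact ⟨P.add_mem hx hy, (hmul ⟨x, hx⟩ ⟨y, hy⟩).trans (by rw [ex, ey, one_mul])⟩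
      neg_mem' := by
        rintro x ⟨hx, ex⟩
        refine ⟨P.neg_mem hx, ?_⟩
        have h := hmul ⟨-x, P.neg_mem hx⟩ ⟨x, hx⟩
        rw [ex, mul_one, show (⟨-x, P.neg_mem hx⟩ + ⟨x, hx⟩ : P) = 0 from Subtype.ext (neg_add_cancel x)] at h
        exact h.symm.trans (map_one φ) }
  refine ⟨H, fun c hc => hc.1, ?_, ?_⟩
  · have e : Nat.card φ.ker = Nat.card H := Nat.card_congr
      { toFun := fun c => ⟨c.1.toAdd.1, c.1.toAdd.2, c.2⟩
        invFun := fun c => ⟨Multiplicative.ofAdd ⟨c.1, c.2.1⟩, c.2.2⟩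
        left_inv := fun c => rfl
        right_inv := fun c => rfl }
    have h := φ.ker.index_mul_card
    rw [Subgroup.index_ker, e, Nat.card_congr (Multiplicative.toAdd (α := P))] at h
    calc Nat.card {c : W // polar R a c = 0 ∧ polar R u c = 0} = Nat.card P := rfl
      _ = _ := h.symm
      _ ≤ _ := Nat.mul_le_mul_right _ hrange
  · rintro c ⟨hc, hτc⟩ y hy
    have hO : (A.orb ω).image (A.π (embG R (g ⟨c, hc⟩))) = A.orb ω := by
      have := congrArg (fun e : Equiv.Perm ↥(A.above u) => (e ⟨A.orb ω, A.mem_above.2 huU⟩).1) hτc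
      simpa [hτ] using this
    have hn' := A.S.moves_emb (g ⟨c, hc⟩)
    have hy' := (A.ann_moves hn' one_ne_zero).1 hy
    rw [inv_one, one_smul, (hg ⟨c, hc⟩).2.2] at hy'
    have hmem : A.π (embG R (g ⟨c, hc⟩)) ω ∈ A.orb ω := hO ▸ mem_image_of_mem _ (A.self_mem ω)
    rw [A.ann_eq hmem, add_assoc] at hy'
    have := A.ann_add hy' (A.ann_neg hy)
    rwa [add_neg_cancel_comm] at this

/-- The kernel is not totally isotropic, except over two elements where it then contains `u`. -/
theorem kernel_cases (S : Setup R) {p : ℕ} [Fact p.Prime] [CharP F p] (hF : Fintype.card F = p) (h3 : p ≤ 3)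
    (hd : 6 ≤ finrank F W) {u a : W} (hu : R u ≠ 0) (H : AddSubgroup W)
    (hH : ∀ c ∈ H, polar R a c = 0 ∧ polar R u c = 0)
    (hcard : Nat.card {c : W // polar R a c = 0 ∧ polar R u c = 0} ≤ p * Nat.card H) :
    (∃ c ∈ H, ∃ c' ∈ H, polar R c c' ≠ 0) ∨
      (p = 2 ∧ u ∈ H ∧ ∃ x ∈ H, R x = 0 ∧ ∀ t : F, x ≠ t • a) := by
  classical
  refine or_iff_not_imp_left.2 fun hno => ?_
  push Not at hno
  let K : Submodule F W :=
    { carrier := H
      zero_mem' := H.zero_mem
      add_mem' := H.add_mem
      smul_mem' := fun t x hx => by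
        obtain ⟨i, rfl⟩ := natCast_surj hF t
        rw [Nat.cast_smul_eq_nsmul]
        exact H.nsmul_mem hx i }
  have hK : Fintype.card F ^ finrank F K = Nat.card H := by
    rw [← Nat.card_eq_fintype_card, ← Module.natCard_eq_pow_finrank]
    rfl
  set T := Submodule.span F ({a, u} : Set W)
  have hT : finrank F T ≤ 2 := by
    have h := finrank_span_finset_le_card (R := F) ({a, u} : Finset W)
    rw [Finset.coe_pair, Set.finrank] at h
    exact h.trans Finset.card_le_two
  have hdim : finrank F W - 2 ≤ finrank F (LinearMap.BilinForm.orthogonal (QuadraticMap.polarBilin R) T) := by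
    rw [LinearMap.BilinForm.finrank_orthogonal S.nd]
    omega
  have hP : Fintype.card F ^ (finrank F W - 2) ≤ Nat.card {c : W // polar R a c = 0 ∧ polar R u c = 0} := by
    refine (Nat.pow_le_pow_right Fintype.card_pos hdim).trans ?_
    rw [← Nat.card_eq_fintype_card, ← Module.natCard_eq_pow_finrank]
    exact Nat.card_le_card_of_injective
      (fun c => ⟨c.1, c.2 a (Submodule.subset_span (by simp)), c.2 u (Submodule.subset_span (by simp))⟩)
      fun c c' e => Subtype.ext (congrArg Subtype.val e :)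
  have hKd : finrank F W - 2 ≤ finrank F K + 1 := by
    refine (Nat.pow_le_pow_iff_right (Fintype.one_lt_card (α := F))).1 ?_
    rw [pow_succ, hK, hF, mul_comm, ← hF]
    exact hP.trans (hF ▸ hcard)
  have hKK : K ≤ LinearMap.BilinForm.orthogonal (QuadraticMap.polarBilin R) K := fun x hx y hy => hno y hy x hx
  have huK : u ∈ LinearMap.BilinForm.orthogonal (QuadraticMap.polarBilin R) K := fun y hy => by
    show polar R y u = 0
    rw [polar_comm]; exact (hH y hy).2
  have hKo : finrank F (LinearMap.BilinForm.orthogonal (QuadraticMap.polarBilin R) K) = finrank F W - finrank F K :=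
    LinearMap.BilinForm.finrank_orthogonal S.nd K
  have hu' : u ∈ K := by
    by_contra hnot
    have hlt : K < LinearMap.BilinForm.orthogonal (QuadraticMap.polarBilin R) K :=
      lt_of_le_of_ne hKK fun e => hnot (e ▸ huK)
    have := Submodule.finrank_lt_finrank_of_lt hlt
    omega
  have hp : p.Prime := Fact.out
  have hp2 : p = 2 := by
    by_contra hne
    have h2 : (2 : F) ≠ 0 := Ring.two_ne_zero (by rwa [ringChar.eq F p])
    have e := hno u hu' u hu'
    rw [polar_self'] at e
    exact hu ((mul_eq_zero.1 e).resolve_left h2)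
  have : CharP F 2 := hp2 ▸ (inferInstance : CharP F p)
  obtain ⟨x, hx, hxT⟩ : ∃ x ∈ K, x ∉ T := by
    by_contra! hall
    have := Submodule.finrank_mono (s := K) (t := T) hall
    omega
  have hxa : ∀ v ∈ T, ∀ t : F, x + v ≠ t • a := fun v hv t e => hxT (by
    rw [show x = t • a - v by rw [← e, add_sub_cancel_right]]
    exact sub_mem (Submodule.smul_mem _ _ (Submodule.subset_span (by simp))) hv)
  refine ⟨hp2, hu', ?_⟩
  have hFval : ∀ t : F, t = 0 ∨ t = 1 := fun t => by
    obtain ⟨i, rfl⟩ := natCast_surj (p := 2) (hp2 ▸ hF) t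
    rw [← Nat.mod_add_div i 2]
    rcases Nat.mod_two_eq_zero_or_one i with h | h <;> simp [h, CharTwo.two_eq_zero]
  rcases hFval (R x) with h | h
  · exact ⟨x, hx, h, fun t => by simpa using hxa 0 T.zero_mem t⟩
  · refine ⟨x + u, K.add_mem hx hu', ?_, hxa u (Submodule.subset_span (by simp))⟩
    rw [quad_add', h, (hFval (R u)).resolve_left hu, hno x hx u hu', CharTwo.add_self_eq_zero, add_zero]

/-- The dichotomy over small prime fields. -/
theorem dichotomy_small {p : ℕ} [Fact p.Prime] [CharP F p] (hF : Fintype.card F = p) (h3 : p ≤ 3)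
    (hd : 6 ≤ finrank F W) {ω : Ω} {u : W} (hu : R u ≠ 0) (huU : u ∈ A.ann ω)
    (hk : (A.above u).card < 2 * p) :
    (∀ w, w ∈ A.ann ω → ∃ t : F, w = t • u) ∨ (∀ w, polar R u w = 0 → w ∈ A.ann ω) := by
  refine or_iff_not_imp_left.2 fun hout => ?_
  push Not at hout
  obtain ⟨w, hw, hwu⟩ := hout
  set U := A.ann ω
  have closed : ∀ {y}, y ∈ U → ∀ t : F, t • y ∈ U := fun hy t => A.ann_smul hF hy t
  -- a singular vector seeing an element gives itself or another one
  have start : ∀ a, R a = 0 → polar R u a = 0 → ∀ y ∈ U, polar R a y ≠ 0 →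
      a ∈ U ∨ (polar R u y ≠ 0 ∧ ∃ x ∈ U, x ≠ 0 ∧ R x = 0 ∧ polar R u x = 0) := by
    intro a ha hua y hy hay
    obtain ⟨H, hH, hcard, hinv⟩ := A.exists_kernel h3 hk huU ha hua
    rcases kernel_cases A.S hF h3 hd hu H hH hcard with ⟨c, hc, c', hc', hcc⟩ | ⟨-, huH, x, hx, hRx, hxa⟩
    · left
      have e := A.ann_add (hinv _ (H.add_mem hc hc') y hy) (A.ann_neg (A.ann_add (hinv c hc y hy) (hinv c' hc' y hy)))
      have := closed e (-(polar R c c' * polar R a y)⁻¹)
      convert this using 1
      simp only [quad_add', polar_add_left]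
      match_scalars <;> field_simp <;> ring
    · have e := A.ann_add (hinv u huH y hy) (A.ann_neg (closed huU (polar R a y)))
      rw [add_neg_cancel_comm] at e
      by_cases h : -(polar R u y) - R u * polar R a y = 0
      · right
        refine ⟨fun e0 => mul_ne_zero hu hay (by rw [e0] at h; linear_combination -h), _, hinv x hx y hy, ?_, ?_, ?_⟩
        · intro e0
          refine hxa ((polar R a y)⁻¹ * (polar R x y + R x * polar R a y)) (smul_right_injective W hay ?_)
          simp only [smul_smul, ← mul_assoc, mul_inv_cancel₀ hay, one_mul]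
          linear_combination (norm := module) e0
        · simp only [quad_add', quad_smul', polar_smul_l', polar_smul_r', hRx, ha, polar_comm _ x a, (hH x hx).1]
          ring
        · rw [polar_add_right, polar_smul_r', polar_smul_r', (hH x hx).2, hua]; ring
      · left
        have := closed e (-(polar R u y) - R u * polar R a y)⁻¹
        rwa [smul_smul, inv_mul_cancel₀ h, one_smul] at this
  have span : ∀ z, polar R u z = 0 → ∃ a b c : W, R a = 0 ∧ R b = 0 ∧ R c = 0 ∧ polar R u a = 0 ∧
      polar R u b = 0 ∧ polar R u c = 0 ∧ ∃ r s : F, z = c + r • a + s • b := by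
    intro z hz
    obtain ⟨a, b, ha, hb, hab, hua, hub⟩ := A.S.exists_pair_perp hu
    set z' := z - polar R b z • a - polar R a z • b with hz'
    have k1 : polar R a z' = 0 := by
      simp only [hz', polar_sub_right, polar_smul_r', polar_self', ha, hab]; ring
    have k2 : polar R b z' = 0 := by
      simp only [hz', polar_sub_right, polar_smul_r', polar_self', hb, polar_comm _ b a, hab]; ring
    have k3 : polar R u z' = 0 := by
      simp only [hz', polar_sub_right, polar_smul_r', hua, hub, hz]; ring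
    refine ⟨a, b, z' + a + (-R z') • b, ha, hb, ?_, hua, hub, ?_, polar R b z - 1, polar R a z + R z', ?_⟩
    · simp only [quad_add', quad_smul', polar_add_left, polar_smul_r', ha, hb, hab, polar_comm _ z' a,
        polar_comm _ z' b, k1, k2]
      ring
    · simp only [polar_add_right, polar_smul_r', hua, hub, k3]; ring
    · simp only [hz']; module
  have sees : ∀ y, (∀ t : F, y ≠ t • u) → ∃ a, R a = 0 ∧ polar R u a = 0 ∧ polar R a y ≠ 0 := by
    intro y hyu
    by_contra! hall
    have hy' : y ∉ Submodule.span F ({u} : Set W) := by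
      rw [Submodule.mem_span_singleton]
      rintro ⟨t, rfl⟩
      exact hyu t rfl
    obtain ⟨z, hz, hz1⟩ := exists_polar_one A.S.nd hy'
    obtain ⟨a, b, c, ha, hb, hc, hua, hub, huc, r, s, rfl⟩ :=
      span z (by rw [polar_comm]; exact hz u (Submodule.mem_span_singleton_self u))
    rw [polar_add_left, polar_add_left, polar_smul_l', polar_smul_l', hall a ha hua, hall b hb hub,
      hall c hc huc] at hz1
    simp at hz1
  have notmul : ∀ a, a ≠ 0 → R a = 0 → ∀ t : F, a ≠ t • u := fun a ha0 ha t e => by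
    rw [e, quad_smul'] at ha
    have ht : t = 0 := mul_self_eq_zero.1 ((mul_eq_zero.1 ha).resolve_right hu)
    exact ha0 (by rw [e, ht, zero_smul])
  obtain ⟨a₀, ha₀, hua₀, hwa₀⟩ := sees w hwu
  obtain ⟨a₁, ha₁, ha₁0, hRa₁, hua₁⟩ : ∃ a₁ ∈ U, a₁ ≠ 0 ∧ R a₁ = 0 ∧ polar R u a₁ = 0 := by
    rcases start a₀ ha₀ hua₀ w hw hwa₀ with h | ⟨-, h⟩
    · exact ⟨a₀, h, fun e => hwa₀ (by rw [e, polar_zero_left]), ha₀, hua₀⟩
    · exact h
  have step : ∀ a, R a = 0 → polar R u a = 0 → ∀ y ∈ U, polar R u y = 0 → polar R a y ≠ 0 → a ∈ U :=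
    fun a ha hua y hy huy hay => (start a ha hua y hy hay).resolve_right fun h => h.1 huy
  obtain ⟨b, hb, hub, hb1⟩ := sees a₁ (notmul a₁ ha₁0 hRa₁)
  have hbU : b ∈ U := step b hb hub a₁ ha₁ hua₁ hb1
  have all : ∀ a, R a = 0 → polar R u a = 0 → a ∈ U := by
    intro a ha hua
    by_cases ha0 : a = 0
    · exact ha0 ▸ A.zero_mem ω
    by_cases h1 : polar R a a₁ = 0
    swap
    · exact step a ha hua a₁ ha₁ hua₁ h1
    by_cases h2 : polar R a b = 0
    swap
    · exact step a ha hua b hbU hub h2
    obtain ⟨c, hc, huc, hca⟩ := sees a (notmul a ha0 ha)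
    rw [polar_comm] at hca
    by_cases h3 : polar R c a₁ = 0
    swap
    · exact step a ha hua c (step c hc huc a₁ ha₁ hua₁ h3) huc hca
    by_cases h4 : polar R c b = 0
    swap
    · exact step a ha hua c (step c hc huc b hbU hub h4) huc hca
    have hubc : polar R u (b + c) = 0 := by rw [polar_add_right, hub, huc, add_zero]
    refine step a ha hua (b + c) (step _ ?_ hubc a₁ ha₁ hua₁ ?_) hubc ?_
    · rw [quad_add', hb, hc, polar_comm, h4]; simp
    · rw [polar_add_left, h3, add_zero]; exact hb1
    · rw [polar_add_right, h2, zero_add]; exact hca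
  intro z hz
  obtain ⟨a, b, c, ha, hb, hc, hua, hub, huc, r, s, rfl⟩ := span z hz
  exact A.ann_add (A.ann_add (all c hc huc) (closed (all a ha hua) r)) (closed (all b hb hub) s)

end Act

end CfsgLib.KnownA.MinIndexOrth
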