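import Cfsg.Agent.Lib.KnownA.MinIndexOrth.Families
import Cfsg.Agent.Lib.KnownA.MinIndexOrth.SmallDich

/-!
# Minimal index in orthogonal groups: a single regular orbit over two or three elements

A product `n` of two Siegel transformations has order prime to `p`, so fixes a point `ν`. An element
`g` commuting with `n` moves `ν` by a translation in the fixed space `Y` of `n`, and the isometries
of `Y` leave that translation invariant, so it is zero.
-/

set_option autoImplicit false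
set_option linter.unusedSectionVars false

open Module QuadraticMap CfsgLib.Orth CfsgLib.Classical Finset

namespace CfsgLib.KnownA.MinIndexOrth

variable {F W : Type*} [Field F] [Fintype F] [AddCommGroup W] [Module F W] [FiniteDimensional F W]
  [Fintype W] [DecidableEq W] {R : QuadraticForm F W} {Ω : Type*} [Fintype Ω] [DecidableEq Ω]

/-- Enough reflections on the orthogonal of two hyperbolic pairs. -/
def Mobile (R : QuadraticForm F W) (hp : HypPairs R) : Prop :=
  ∀ y : W, y ≠ 0 → polar R hp.e₀ y = 0 → polar R hp.f₀ y = 0 → polar R hp.e₁ y = 0 → polar R hp.f₁ y = 0 →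
    ∃ a b : W, (polar R a hp.e₀ = 0 ∧ polar R a hp.f₀ = 0 ∧ polar R a hp.e₁ = 0 ∧ polar R a hp.f₁ = 0) ∧
      (polar R b hp.e₀ = 0 ∧ polar R b hp.f₀ = 0 ∧ polar R b hp.e₁ = 0 ∧ polar R b hp.f₁ = 0) ∧
      R a ≠ 0 ∧ R b = R a ∧ polar R a y ≠ 0 ∧ ∀ t : F, b ≠ t • a

namespace Act

variable (A : Act R Ω)

theorem regular_small {p : ℕ} [Fact p.Prime] [CharP F p] (hF : Fintype.card F = p) (h3 : p ≤ 3)
    {hp : HypPairs R} (hY : Mobile R hp) {ω : Ω} (hreg : A.Reg ω) (hall : ∀ ν, ν ∈ A.orb ω) : False := by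
  classical
  have hfree : ∀ ν v, A.π (A.S.x v) ν = ν → v = 0 := fun ν v hv => by
    refine eq_zero_of_polar A.S.nd fun y => ?_
    rw [polar_comm]
    exact A.polar_eq_zero_of hv fun c => (Reg.congr (hall ν) hreg) _
  have hp2 := hp.he₀
  -- the element, and two others commuting with it
  obtain ⟨g, hg⟩ := A.S.exists_sgl hp.he₀ hp.hee
  obtain ⟨s, hs⟩ := A.S.exists_sgl hp.he₀ hp.hef
  obtain ⟨r, hr⟩ := A.S.exists_sgl hp.he₁ hp.cfe
  have hg' : IsSiegel g.1 hp.e₁ (-hp.e₀) := by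
    refine ⟨hp.he₁, by rw [polar_neg_right, hp.cee, neg_zero], fun v => ?_⟩
    rw [hg.2.2, hp.he₁, QuadraticMap.map_neg, hp.he₀, polar_neg_left]
    module
  have cgs : g * s = s * g := Subtype.ext ((hg.mul hs).unique (add_comm hp.f₁ hp.e₁ ▸ hs.mul hg))
  have cgr : g * r = r * g := Subtype.ext ((hg'.mul hr).unique (add_comm hp.f₀ (-hp.e₀) ▸ hr.mul hg'))
  set n := s * r with hn
  have cgn : g * n = n * g := by rw [hn, ← mul_assoc, cgs, mul_assoc, cgr, mul_assoc]
  -- the action of `n`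
  have n_e0 : n.1.1 hp.e₀ = (2 : F) • hp.e₀ - hp.e₁ := by
    show s.1.1 (r.1.1 hp.e₀) = _
    rw [hr.2.2, hs.2.2]
    simp only [hp.he₀, hp.hf₀, hp.hf₁, hp.hef, hp.cee, hp.cef, hp.h00, hp.c00, hp.cff, hp.c11, hp.hee,
      polar_add_right, polar_smul_r', polar_self']
    module
  have n_e1 : n.1.1 hp.e₁ = hp.e₁ - hp.e₀ := by
    show s.1.1 (r.1.1 hp.e₁) = _
    rw [hr.2.2, hs.2.2]
    simp only [hp.he₀, hp.he₁, hp.hf₀, hp.hf₁, hp.hef, hp.hfe, hp.cee, hp.cef, hp.h00, hp.c00, hp.cff, hp.c11,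
      hp.hee, polar_add_right, polar_smul_r', polar_self']
    module
  have n_f0 : n.1.1 hp.f₀ = hp.f₀ + hp.f₁ := by
    show s.1.1 (r.1.1 hp.f₀) = _
    rw [hr.2.2, hs.2.2]
    simp only [hp.he₀, hp.he₁, hp.hf₀, hp.hf₁, hp.hef, hp.hfe, hp.cee, hp.cef, hp.cfe, hp.h00, hp.c00, hp.cff,
      hp.c11, hp.hee, hp.hff, polar_add_right, polar_smul_r', polar_self']
    module
  have n_f1 : n.1.1 hp.f₁ = (2 : F) • hp.f₁ + hp.f₀ := by
    show s.1.1 (r.1.1 hp.f₁) = _
    rw [hr.2.2, hs.2.2]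
    simp only [hp.he₀, hp.he₁, hp.hf₀, hp.hf₁, hp.hef, hp.hfe, hp.cee, hp.cef, hp.cfe, hp.h00, hp.c00, hp.cff,
      hp.c11, hp.h11, hp.hee, hp.hff, polar_add_right, polar_smul_r', polar_self']
    module
  have n_y : ∀ y, polar R hp.e₀ y = 0 → polar R hp.f₀ y = 0 → polar R hp.e₁ y = 0 → polar R hp.f₁ y = 0 →
      n.1.1 y = y := fun y h1 h2 h3' h4 => by
    show s.1.1 (r.1.1 y) = _
    rw [hr.2.2, hs.2.2]
    simp [h1, h2, h3', h4]
  have split4 : ∀ v : W, ∃ (a b c d : F) (y : W), polar R hp.e₀ y = 0 ∧ polar R hp.f₀ y = 0 ∧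
      polar R hp.e₁ y = 0 ∧ polar R hp.f₁ y = 0 ∧ v = y + a • hp.e₀ + b • hp.f₀ + c • hp.e₁ + d • hp.f₁ := by
    intro v
    refine ⟨polar R hp.f₀ v, polar R hp.e₀ v, polar R hp.f₁ v, polar R hp.e₁ v,
      v - polar R hp.f₀ v • hp.e₀ - polar R hp.e₀ v • hp.f₀ - polar R hp.f₁ v • hp.e₁ - polar R hp.e₁ v • hp.f₁,
      ?_, ?_, ?_, ?_, by module⟩ <;>
    · simp only [polar_sub_right, polar_smul_r', polar_self', hp.he₀, hp.he₁, hp.hf₀, hp.hf₁, hp.h00, hp.h11,
        hp.hee, hp.hef, hp.hfe, hp.hff, hp.c00, hp.c11, hp.cee, hp.cef, hp.cfe, hp.cff]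
      ring
  -- `n` has order prime to `p`
  have hpr : p.Prime := Fact.out
  obtain ⟨ℓ, hℓ, hℓp, m, hnm⟩ : ∃ ℓ : ℕ, ℓ.Prime ∧ ℓ ≠ p ∧ ∃ m : ℕ, n ^ ℓ ^ m = 1 := by
    have hp23 : p = 2 ∨ p = 3 := by
      have := hpr.two_le
      omega
    rcases hp23 with rfl | rfl
    · refine ⟨3, Nat.prime_three, by norm_num, 1, Subtype.ext (Subtype.ext (LinearEquiv.ext fun v => ?_))⟩
      obtain ⟨a, b, c, d, y, h1, h2, h3', h4, rfl⟩ := split4 v
      have h2F : (2 : F) = 0 := by exact_mod_cast CharP.cast_eq_zero F 2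
      show n.1.1 (n.1.1 (n.1.1 _)) = _
      simp only [map_add, map_sub, map_smul, n_e0, n_e1, n_f0, n_f1, n_y y h1 h2 h3' h4, h2F, zero_smul,
        zero_add, zero_sub, map_neg, smul_add, smul_sub, smul_neg]
      show _ = y + a • hp.e₀ + b • hp.f₀ + c • hp.e₁ + d • hp.f₁
      match_scalars
      all_goals ring_nf
      · linear_combination (c - a) * h2F
      · linear_combination (-c) * h2F
      · linear_combination (b + d) * h2F
      · linear_combination b * h2F
    · refine ⟨2, Nat.prime_two, by norm_num, 2, Subtype.ext (Subtype.ext (LinearEquiv.ext fun v => ?_))⟩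
      obtain ⟨a, b, c, d, y, h1, h2, h3', h4, rfl⟩ := split4 v
      have h3F : (3 : F) = 0 := by exact_mod_cast CharP.cast_eq_zero F 3
      show n.1.1 (n.1.1 (n.1.1 (n.1.1 _))) = _
      simp only [map_add, map_sub, map_smul, n_e0, n_e1, n_f0, n_f1, n_y y h1 h2 h3' h4, smul_add, smul_sub,
        smul_smul]
      show _ = y + a • hp.e₀ + b • hp.f₀ + c • hp.e₁ + d • hp.f₁
      have h2F : (2 : F) = -1 := by linear_combination h3F
      match_scalars
      all_goals ring_nf
      · linear_combination (11 * a - 7 * c) * h3F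
      · linear_combination (-7 * a + 4 * c) * h3F
      · linear_combination (4 * b + 7 * d) * h3F
      · linear_combination (7 * b + 11 * d) * h3F
  -- a fixed point of `n`
  let Z := Subgroup.zpowers (embG R n)
  have : Fact ℓ.Prime := ⟨hℓ⟩
  have hZ : IsPGroup ℓ Z := by
    rintro ⟨x, hx⟩
    obtain ⟨i, rfl⟩ := Subgroup.mem_zpowers_iff.1 hx
    refine ⟨m, Subtype.ext ?_⟩
    show (embG R n ^ i) ^ ℓ ^ m = 1
    rw [← zpow_natCast, ← zpow_mul, mul_comm, zpow_mul, zpow_natCast, ← map_pow, hnm, map_one, one_zpow]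
  let act : MulAction Z Ω := MulAction.compHom Ω (A.π.comp Z.subtype)
  have hcardΩ : Nat.card Ω = Fintype.card W := by
    rw [← A.card_reg hreg, Nat.card_eq_fintype_card, ← Finset.card_univ]
    congr 1
    exact (Finset.eq_univ_of_forall hall).symm
  have hnd : ¬ ℓ ∣ Nat.card Ω := by
    rw [hcardΩ, ← Nat.card_eq_fintype_card, Module.natCard_eq_pow_finrank (K := F), Nat.card_eq_fintype_card, hF]
    exact fun h => hℓp ((Nat.prime_dvd_prime_iff_eq hℓ hpr).1 (hℓ.dvd_of_dvd_pow h))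
  obtain ⟨ν, hν⟩ := hZ.nonempty_fixed_point_of_prime_not_dvd_card Ω hnd
  have hnν : A.π (embG R n) ν = ν := hν ⟨_, Subgroup.mem_zpowers _⟩
  -- translations by which commuting elements move `ν`
  have hmove : ∀ (k : ↥(commutator (orthGroup R))) v, A.π (embG R k) (A.π (A.S.x v) ν) =
      A.π (A.S.x (k.1.1 v)) (A.π (embG R k) ν) := fun k v => by
    rw [← A.pi_moves (A.S.moves_emb k), one_smul]
  have horb : ∀ k, ∃ z, A.π (A.S.x z) ν = A.π (embG R k) ν := fun k => by
    have h := hall (A.π (embG R k) ν)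
    rw [← A.orb_eq (hall ν)] at h
    exact A.mem_orb.1 h
  have hinj : ∀ {v w}, A.π (A.S.x v) ν = A.π (A.S.x w) ν → v = w := fun {v w} h => by
    have h1 : A.π (A.S.x (v - w)) ν = ν := by
      apply (A.π (A.S.x w)).injective
      rw [← A.pi_add, add_sub_cancel, h]
    exact sub_eq_zero.1 (hfree ν _ h1)
  have hY' : ∀ k, n * k = k * n → ∀ z, A.π (A.S.x z) ν = A.π (embG R k) ν →
      polar R hp.e₀ z = 0 ∧ polar R hp.f₀ z = 0 ∧ polar R hp.e₁ z = 0 ∧ polar R hp.f₁ z = 0 := by
    intro k hk z hz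
    have e : n.1.1 z = z := by
      apply hinj
      calc A.π (A.S.x (n.1.1 z)) ν = A.π (embG R n) (A.π (A.S.x z) ν) := by rw [hmove, hnν]
        _ = A.π (embG R k) (A.π (embG R n) ν) := by
          rw [hz, ← Equiv.Perm.mul_apply, ← map_mul, ← map_mul, hk, map_mul, map_mul, Equiv.Perm.mul_apply]
        _ = _ := by rw [hnν, hz]
    have key : ∀ v, polar R (n.1.1 v) z = polar R v z := fun v => by
      conv_lhs => rw [← e, polar_isom]
    have k1 := key hp.e₁
    have k2 := key hp.e₀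
    have k3 := key hp.f₀
    have k4 := key hp.f₁
    rw [n_e1, polar_sub_left, sub_eq_self] at k1
    rw [n_e0, polar_sub_left, polar_smul_l', k1, mul_zero, zero_sub] at k2
    rw [n_f0, polar_add_left, add_eq_left] at k3
    rw [n_f1, polar_add_left, polar_smul_l', k3, mul_zero, zero_add] at k4
    exact ⟨k1, k4, neg_eq_zero.1 k2, k3⟩
  obtain ⟨y, hy⟩ := horb g
  obtain ⟨h1, h2, h3', h4⟩ := hY' g cgn.symm y hy
  have hy0 : y = 0 := by
    by_contra hy0
    obtain ⟨a, b, ⟨a1, a2, a3, a4⟩, ⟨b1, b2, b3, b4⟩, hRa, hRb, hay, hba⟩ := hY y hy0 h1 h2 h3' h4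
    obtain ⟨h, hh, hhab⟩ := exists_sphere_move A.S.nd A.S.good A.S.five hp hRa hRb.symm
    have hmem : refl R b * refl R a ∈ commutator (orthGroup R) := by
      have e : refl R b = h * refl R a * h⁻¹ := by rw [conj_refl, hhab]
      have ra : (refl R a)⁻¹ = refl R a := inv_eq_of_mul_eq_one_right
        (Subtype.ext (LinearEquiv.ext fun v => reflFun_reflFun R a v))
      rw [e]
      have := Subgroup.commutator_mem_commutator (Subgroup.mem_top h) (Subgroup.mem_top (refl R a))
      rwa [← commutator_def, commutatorElement_def, ra] at this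
    set k : ↥(commutator (orthGroup R)) := ⟨_, hmem⟩
    have hfix : ∀ v, polar R a v = 0 → polar R b v = 0 → k.1.1 v = v := fun v ha hb => by
      show (refl R b).1 ((refl R a).1 v) = v
      rw [refl_apply, refl_apply, ha]
      simp [hb]
    have comm : ∀ {c : ↥(commutator (orthGroup R))} {d e : W}, IsSiegel c.1 d e → k.1.1 d = d → k.1.1 e = e →
        c * k = k * c := by
      intro c d e hc hd he
      have h := hc.conj k.1
      rw [hd, he] at h
      have h' := Subtype.ext (h.unique hc) (a1 := (k * c * k⁻¹ : ↥(commutator (orthGroup R))))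
      rw [mul_inv_eq_iff_eq_mul] at h'
      exact h'.symm
    have ke0 := hfix _ a1 b1
    have kf0 := hfix _ a2 b2
    have ke1 := hfix _ a3 b3
    have kf1 := hfix _ a4 b4
    have ckg := comm hg ke0 ke1
    have ckn : n * k = k * n := by
      rw [hn, mul_assoc, comm hr ke1 kf0, ← mul_assoc, comm hs ke0 kf1, mul_assoc]
    obtain ⟨z, hz⟩ := horb k
    obtain ⟨z1, z2, z3, z4⟩ := hY' k ckn z hz
    have hgz : g.1.1 z = z := by rw [hg.2.2, z1, z3]; simp
    have e : k.1.1 y + z = z + y := by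
      apply hinj
      calc A.π (A.S.x (k.1.1 y + z)) ν = A.π (embG R k) (A.π (A.S.x y) ν) := by rw [hmove, A.pi_add, hz]
        _ = A.π (embG R g) (A.π (A.S.x z) ν) := by
          rw [hy, hz, ← Equiv.Perm.mul_apply, ← Equiv.Perm.mul_apply, ← map_mul, ← map_mul, ← map_mul,
            ← map_mul, ckg]
        _ = _ := by rw [hmove, hgz, A.pi_add, hy]
    have ky : k.1.1 y = y := by rw [add_comm z y, add_right_cancel_iff] at e; exact e
    have hbadd : (refl R a).1 y = (refl R b).1 y := by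
      have h' : (refl R b).1 ((refl R a).1 y) = y := ky
      have := congrArg (refl R b).1 h'
      rwa [show (refl R b).1 ((refl R b).1 ((refl R a).1 y)) = (refl R a).1 y from reflFun_reflFun R b _] at this
    rw [refl_apply, refl_apply, sub_right_inj, hRb] at hbadd
    have hne : (R a)⁻¹ * polar R a y ≠ 0 := mul_ne_zero (inv_ne_zero hRa) hay
    by_cases hb0 : (R a)⁻¹ * polar R b y = 0
    · rw [hb0, zero_smul, smul_eq_zero] at hbadd
      exact hbadd.elim hne fun e => hRa (by simp [e])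
    · refine hba (((R a)⁻¹ * polar R b y)⁻¹ * ((R a)⁻¹ * polar R a y)) ?_
      rw [← smul_smul, hbadd, smul_smul, inv_mul_cancel₀ hb0, one_smul]
  have hgν : A.π (embG R g) ν = ν := by rw [← hy, hy0, A.pi_zero]
  -- but every conjugate of a radical element moves every point
  obtain ⟨c, u, hc, -⟩ := A.S.exists_conj_radical hp.e₀_ne_zero hg
  have hu : u ≠ 0 := by
    intro hu
    rw [hu, A.S.x_zero, mul_inv_eq_one] at hc
    have h1 : embG R g = 1 := mul_left_cancel (hc.trans (mul_one c).symm)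
    have h2 := congrArg (fun k : Om R => k.1.1 (iw hp.f₀)) h1
    have h3 : (emb R g.1).1 (iw hp.f₀) = iw hp.f₀ := h2
    rw [emb_apply, iw_apply, Prod.ext_iff] at h3
    have h4 := congrArg (polar R hp.f₁) h3.1
    simp only [hg.2.2, hp.h00, hp.cfe, hp.he₁, polar_add_right, polar_smul_r', hp.cff, hp.c11, hp.cef] at h4
    simp at h4
  refine hu (hfree (A.π c ν) u ?_)
  rw [← hc]
  simp [map_mul, map_inv, hgν]

end Act

end CfsgLib.KnownA.MinIndexOrth
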