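import Cfsg.Agent.Lib.KnownA.MinIndexOrth.MaxCase

/-!
# Minimal index in odd-dimensional orthogonal groups over the field with three elements

Over three elements at most two orbits with an annihilator outside a line lie above a non-singular
vector, so a Siegel transformation fixing that vector fixes them.  A regular orbit is excluded with an
element of the Levi complement inverting the radical without fixed vectors.
-/

set_option autoImplicit false
set_option linter.unusedSectionVars false

open Module QuadraticMap CfsgLib.Orth CfsgLib.Classical Finset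

namespace CfsgLib.KnownA.MinIndexOrth

section Scalars

variable {F : Type*} [Field F] [Fintype F]

theorem three_zero (hq : Fintype.card F = 3) : (3 : F) = 0 := by
  obtain ⟨p, hc⟩ := CharP.exists F
  obtain ⟨n, hp, hn⟩ := FiniteField.card F p
  rw [hq] at hn
  obtain rfl : p = 3 := (Nat.prime_dvd_prime_iff_eq hp Nat.prime_three).1 (hn ▸ dvd_pow_self p n.ne_zero)
  exact_mod_cast CharP.cast_eq_zero F 3

theorem three_two_ne (hq : Fintype.card F = 3) : (2 : F) ≠ 0 := fun h =>
  one_ne_zero (α := F) (by linear_combination three_zero hq - h)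

theorem three_elems (hq : Fintype.card F = 3) (t : F) : t = 0 ∨ t = 1 ∨ t = -1 := by
  classical
  by_contra h
  push Not at h
  have h2 := three_two_ne hq
  have h1 : ({0, 1, -1, t} : Finset F).card ≤ 3 := hq ▸ Finset.card_le_univ _
  rw [Finset.card_insert_of_notMem (by simp [h.1.symm]),
    Finset.card_insert_of_notMem (by
      simp only [mem_insert, mem_singleton, not_or]
      exact ⟨fun e => h2 (by linear_combination e), h.2.1.symm⟩),
    Finset.card_insert_of_notMem (by simp [h.2.2.symm]), Finset.card_singleton] at h1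
  omega

theorem three_mul_self (hq : Fintype.card F = 3) {t : F} (ht : t ≠ 0) : t * t = 1 := by
  rcases three_elems hq t with rfl | rfl | rfl
  · exact absurd rfl ht
  · exact one_mul 1
  · ring

theorem three_eq_or (hq : Fintype.card F = 3) {s t : F} (hs : s ≠ 0) (ht : t ≠ 0) : t = s ∨ t = -s := by
  rcases three_elems hq s with rfl | rfl | rfl <;> rcases three_elems hq t with rfl | rfl | rfl <;>
    first
    | exact absurd rfl hs
    | exact absurd rfl ht
    | exact Or.inl rfl
    | exact Or.inr rfl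
    | exact Or.inr (neg_neg _).symm

end Scalars

variable {F W : Type*} [Field F] [Fintype F] [AddCommGroup W] [Module F W] [FiniteDimensional F W]
  [Fintype W] [DecidableEq W] {R : QuadraticForm F W} {Ω : Type*} [Fintype Ω] [DecidableEq Ω]

/-- The numerical facts over three elements; `u` is the size of a maximal singular subspace. -/
structure ThreeNum (R : QuadraticForm F W) (u N k : ℕ) : Prop where
  hq : Fintype.card F = 3
  hu : 9 ≤ u
  hk : 3 ^ k = u
  hk2 : 2 ≤ k
  hdim : finrank F W = 2 * k + 1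
  hW : Fintype.card W = 3 * (u * u)
  hS : (sing R).card + 1 = u * u
  hM : ∀ v, R v ≠ 0 → u * u ≤ (cls R v).card + u
  hsum : ∀ v w, R v ≠ 0 → R w = -R v → (cls R v).card + (cls R w).card = 2 * (u * u)
  hN : 2 * N + 3 * u = 9 * (u * u)
  hts : ∀ T : Submodule F W, (∀ v ∈ T, R v = 0) → finrank F T ≤ k
  hP : N * ((u - 1) * (u - 3)) ≤ (pairs R).card * u

namespace Act

variable (A : Act R Ω)

theorem ann_smul_three (hq : Fintype.card F = 3) {ω : Ω} {y : W} (hy : y ∈ A.ann ω) (t : F) :
    t • y ∈ A.ann ω := by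
  rcases three_elems hq t with rfl | rfl | rfl
  · rw [zero_smul]; exact A.zero_mem ω
  · rwa [one_smul]
  · rw [neg_smul, one_smul]; exact A.ann_neg hy

/-- Orbits above a vector whose annihilator is larger than a line. -/
noncomputable def above3 (y : W) : Finset (Finset Ω) := (A.above y).filter fun O => 3 < O.card

theorem card_above3_le {n : Om R} {α : F} {σ : orthGroup R} (hn : A.S.Moves n α σ) (hα : α ≠ 0) (y : W) :
    (A.above3 y).card ≤ (A.above3 (α⁻¹ • σ.1 y)).card := by
  refine Finset.card_le_card_of_injOn (fun O => O.image (A.π n)) ?_ ?_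
  · intro O hO
    obtain ⟨h1, h2⟩ := mem_filter.1 (mem_coe.1 hO)
    exact mem_filter.2 ⟨A.above_moves hn hα h1, by
      rw [Finset.card_image_of_injective _ (A.π n).injective]; exact h2⟩
  · intro O _ O' _ h
    exact Finset.image_injective (A.π n).injective h

theorem sum_above_orbs_le (T : Finset W) (h0 : (0 : W) ∉ T) :
    ∑ y ∈ T, (A.above y).card + A.orbs.card ≤ Fintype.card Ω := by
  rw [A.sum_above, A.card_eq_sum, Finset.card_eq_sum_ones, ← Finset.sum_add_distrib]
  refine Finset.sum_le_sum fun O hO => ?_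
  obtain ⟨ω, rfl⟩ := A.exists_of_mem hO
  rw [A.filter_ann rfl, ← A.card_ann,
    ← Finset.card_insert_of_notMem (a := (0 : W)) (fun e => h0 (mem_filter.1 e).1)]
  exact Finset.card_le_card (Finset.insert_subset (A.zero_mem ω) fun y hy => (mem_filter.1 hy).2)

/-- An annihilator outside a line has more than three elements. -/
theorem ann_gt_three (hq : Fintype.card F = 3) {ω : Ω} {a b : W} (ha : a ∈ A.ann ω) (hb : b ∈ A.ann ω)
    (ha0 : a ≠ 0) (hab : ∀ t : F, b ≠ t • a) : 3 < (A.orb ω).card := by
  have h2 := three_two_ne hq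
  have hna : a ≠ -a := fun e => by
    have h3 : (2 : F) • a = 0 := by rw [two_smul]; exact (eq_neg_iff_add_eq_zero.1 e)
    exact (smul_eq_zero.1 h3).elim h2 ha0
  have hb0 : (0 : W) ≠ b := fun e => hab 0 (by rw [zero_smul, ← e])
  have hba : a ≠ b := fun e => hab 1 (by rw [one_smul, ← e])
  have hbna : -a ≠ b := fun e => hab (-1) (by rw [neg_smul, one_smul, ← e])
  have h4 : ({0, a, -a, b} : Finset W).card = 4 := by
    rw [Finset.card_insert_of_notMem (by simp [ha0, ha0.symm, hb0]),
      Finset.card_insert_of_notMem (by simp [hna, hba]),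
      Finset.card_insert_of_notMem (by simp [hbna]), Finset.card_singleton]
  rw [← A.card_ann]
  calc 3 < ({0, a, -a, b} : Finset W).card := by rw [h4]; norm_num
    _ ≤ _ := Finset.card_le_card (by
      simp only [Finset.insert_subset_iff, Finset.singleton_subset_iff]
      exact ⟨A.zero_mem ω, ha, A.ann_neg ha, hb⟩)

/-- A singular vector in a non-linear annihilator with one class of non-singular vectors lies in two orbits. -/
theorem above_sing_two {u N k : ℕ} (H : ThreeNum R u N k) {v : W} (hv : R v ≠ 0)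
    (honly : ∀ (ν : Ω) (w : W), w ∈ A.ann ν → R w = 0 ∨ R w = R v)
    (hex : (A.above3 v).Nonempty) {s : W} (hs0 : s ≠ 0) (hs : R s = 0) : 2 ≤ (A.above s).card := by
  classical
  have h2 := three_two_ne H.hq
  have h3 := three_zero H.hq
  obtain ⟨O, hO⟩ := hex
  obtain ⟨hO1, hOc⟩ := mem_filter.1 hO
  obtain ⟨ω, rfl⟩ := A.exists_of_mem (mem_filter.1 hO1).1
  have hvω := A.mem_above.1 hO1
  obtain ⟨w, hw, hwv⟩ : ∃ w ∈ A.ann ω, ∀ t : F, w ≠ t • v := by
    by_contra! hall
    have h : (A.ann ω).card ≤ (univ.image fun t : F => t • v).card := Finset.card_le_card fun w hw => by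
      obtain ⟨t, rfl⟩ := hall w hw
      exact mem_image_of_mem _ (mem_univ t)
    have := Finset.card_image_le (f := fun t : F => t • v) (s := (univ : Finset F))
    rw [A.card_ann] at h
    rw [Finset.card_univ, H.hq] at this
    omega
  have hperp : ∀ s ∈ A.ann ω, R s = 0 → polar R s v = 0 := by
    intro s hs hRs
    by_contra hne
    have e1 := honly ω _ (A.ann_add hvω hs)
    have e2 := honly ω _ (A.ann_add hvω (A.ann_neg hs))
    rw [quad_add', hRs, add_zero, polar_comm] at e1
    rw [quad_add', QuadraticMap.map_neg, hRs, add_zero, polar_neg_right, polar_comm _ v s] at e2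
    rcases three_eq_or H.hq hv hne with h | h <;> rw [h] at e1 e2
    · rcases e1 with e | e
      · exact hv (mul_left_cancel₀ h2 (by linear_combination e))
      · exact hv (by linear_combination e)
    · rcases e2 with e | e
      · exact hv (mul_left_cancel₀ h2 (by linear_combination e))
      · exact hv (by linear_combination e)
  obtain ⟨s₁, hs₁0, hRs₁, hs₁ω⟩ : ∃ s₁, s₁ ≠ 0 ∧ R s₁ = 0 ∧ s₁ ∈ A.ann ω := by
    rcases honly ω w hw with h | h
    · exact ⟨w, fun e => hwv 0 (by rw [e, zero_smul]), h, hw⟩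
    rcases honly ω _ (A.ann_add hvω hw) with h1 | h1
    · exact ⟨v + w, fun e => hwv (-1) (by rw [neg_smul, one_smul]; exact eq_neg_of_add_eq_zero_right e),
        h1, A.ann_add hvω hw⟩
    · refine ⟨v + -w, fun e => hwv 1 (by rw [one_smul]; exact (add_neg_eq_zero.1 e).symm), ?_,
        A.ann_add hvω (A.ann_neg hw)⟩
      rw [quad_add', h] at h1
      rw [quad_add', QuadraticMap.map_neg, h, polar_neg_right]
      linear_combination -h1 + R v * h3
  by_contra hlt
  push Not at hlt
  obtain ⟨hp0⟩ := A.S.hypW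
  obtain ⟨g₀, hg₀, he₀⟩ := exists_sing_move A.S.nd A.S.good A.S.five hp0 hRs₁ hs₁0 hs hs0
  have hle := A.card_above_le (A.S.moves_emb ⟨g₀, hg₀⟩) one_ne_zero s₁
  rw [inv_one, one_smul, he₀] at hle
  have huniq : ∀ O ∈ A.above s₁, O = A.orb ω := fun O hO =>
    Finset.card_le_one.1 (by omega) O hO _ (A.mem_above.2 hs₁ω)
  -- a singular `d ⊥ s₁` not orthogonal to `v`
  obtain ⟨hp, hpe⟩ := hp0.exists_at A.S.nd hRs₁ hs₁0
  have hsv := hperp s₁ hs₁ω hRs₁
  obtain ⟨d, hd, hsd, hdv⟩ : ∃ d, R d = 0 ∧ polar R s₁ d = 0 ∧ polar R d v ≠ 0 := by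
    by_cases h1 : polar R hp.e₁ v = 0
    swap
    · exact ⟨hp.e₁, hp.he₁, by rw [← hpe]; exact hp.hee, h1⟩
    by_cases h1' : polar R hp.f₁ v = 0
    swap
    · exact ⟨hp.f₁, hp.hf₁, by rw [← hpe]; exact hp.hef, h1'⟩
    rw [← hpe] at hsv ⊢
    set b := polar R hp.f₀ v
    set v' := v + (-b) • hp.e₀ with hv'
    have e0 : polar R hp.e₀ v' = 0 := by
      rw [hv', polar_add_right, polar_smul_r', polar_self', hp.he₀, hsv]; ring
    have e1 : polar R hp.e₁ v' = 0 := by
      rw [hv', polar_add_right, polar_smul_r', h1, hp.cee]; ring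
    have e1' : polar R hp.f₁ v' = 0 := by
      rw [hv', polar_add_right, polar_smul_r', h1', hp.cef]; ring
    have eR : R v' = R v := by
      rw [hv', quad_add', quad_smul', polar_smul_r', hp.he₀, polar_comm _ v hp.e₀, hsv]; ring
    refine ⟨hp.e₁ + v' + (-R v') • hp.f₁, ?_, ?_, ?_⟩
    · rw [quad_add', quad_add', quad_smul', polar_smul_r', polar_add_left, hp.he₁, hp.hf₁, hp.h11, e1,
        polar_comm _ v' hp.f₁, e1']
      ring
    · rw [polar_add_right, polar_add_right, polar_smul_r', hp.hee, e0, hp.hef]; ring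
    · rw [polar_add_left, polar_add_left, polar_smul_l', h1, h1', mul_zero, add_zero, zero_add, hv',
        polar_add_left, polar_smul_l', polar_self', hsv]
      simpa [h2] using hv
  -- a non-singular `c` orthogonal to both
  obtain ⟨c, hsc, hdc, hc⟩ : ∃ c, polar R s₁ c = 0 ∧ polar R d c = 0 ∧ R c ≠ 0 := by
    set P := LinearMap.BilinForm.orthogonal (QuadraticMap.polarBilin R) (Submodule.span F {s₁, d})
    by_contra! hno
    have hT := finrank_span_finset_le_card (R := F) ({s₁, d} : Finset W)
    rw [Finset.coe_pair, Set.finrank] at hT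
    have hT2 := hT.trans Finset.card_le_two
    have h1 := H.hts P fun c hc => hno c (hc s₁ (Submodule.subset_span (by simp)))
      (hc d (Submodule.subset_span (by simp)))
    rw [LinearMap.BilinForm.finrank_orthogonal A.S.nd, H.hdim] at h1
    have := H.hk2
    omega
  have delta : ∀ e : W, polar R s₁ e = 0 → polar R d e = 0 →
      polar R d v • e + (-(polar R e v) - R e * polar R d v) • d ∈ A.ann ω := by
    intro e he hde
    obtain ⟨g, hg⟩ := A.S.exists_sgl hd hde
    have hfix : g.1.1 s₁ = s₁ := by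
      rw [hg.2.2, polar_comm _ d s₁, hsd, polar_comm _ e s₁, he]; simp
    have h1 := A.above_moves (A.S.moves_emb g) one_ne_zero (A.mem_above.2 hs₁ω)
    rw [inv_one, one_smul, hfix] at h1
    have hO := huniq _ h1
    have hy := (A.ann_moves (A.S.moves_emb g) one_ne_zero).1 hvω
    rw [inv_one, one_smul, hg.2.2] at hy
    have hmem : A.π (embG R g) ω ∈ A.orb ω := hO ▸ mem_image_of_mem _ (A.self_mem ω)
    rw [A.ann_eq hmem, add_assoc] at hy
    have := A.ann_add hy (A.ann_neg hvω)
    rwa [add_neg_cancel_comm] at this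
  have key := A.ann_add (delta c hsc hdc) (delta (-c) (by rw [polar_neg_right, hsc, neg_zero])
    (by rw [polar_neg_right, hdc, neg_zero]))
  have key' : (R c * polar R d v) • d ∈ A.ann ω := by
    convert key using 1
    rw [polar_neg_left, QuadraticMap.map_neg]
    match_scalars
    · linear_combination R c * polar R d v * h3
    · ring
  have hdω : d ∈ A.ann ω := by
    have := A.ann_smul_three H.hq key' (R c * polar R d v)⁻¹
    rwa [smul_smul, inv_mul_cancel₀ (mul_ne_zero hc hdv), one_smul] at this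
  exact hdv (hperp d hdω hd)

/-- At most two orbits with a large annihilator lie above a non-singular vector. -/
theorem above3_lt {u N k : ℕ} (H : ThreeNum R u N k) (hcard : Fintype.card Ω < N) {v : W} (hv : R v ≠ 0) :
    (A.above3 v).card < 3 := by
  classical
  by_contra! h3'
  have h2 := three_two_ne H.hq
  have h3 := three_zero H.hq
  have hM := H.hM v hv
  have hN := H.hN
  have hu := H.hu
  have hS := H.hS
  have huu : 9 * u ≤ u * u := Nat.mul_le_mul_right _ hu
  have hclsv : ∀ y ∈ cls R v, R y = R v := fun y hy => by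
    obtain ⟨β, hβ, he⟩ := mem_cls.1 hy
    rw [he, three_mul_self H.hq hβ, one_mul]
  have h0c : (0 : W) ∉ cls R v := fun h => hv (by rw [← hclsv 0 h, QuadraticMap.map_zero])
  have hsum3 : 3 * (cls R v).card ≤ ∑ y ∈ cls R v, (A.above y).card := by
    rw [mul_comm, ← smul_eq_mul]
    refine Finset.card_nsmul_le_sum _ _ _ fun y hy => ?_
    obtain ⟨β, hβ, he⟩ := mem_cls.1 hy
    obtain ⟨n, α, σ, hα, hn, rfl⟩ := A.S.exists_move_class hv hβ he
    exact (h3'.trans (A.card_above3_le hn hα v)).trans (Finset.card_le_card (Finset.filter_subset _ _))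
  have hsum1 : ∀ w, R w = -R v → (∃ ν, w ∈ A.ann ν) →
      (cls R w).card ≤ ∑ y ∈ cls R w, (A.above y).card := by
    rintro w hw ⟨ν, hν⟩
    rw [Finset.card_eq_sum_ones]
    refine Finset.sum_le_sum fun y hy => ?_
    obtain ⟨β, hβ, he⟩ := mem_cls.1 hy
    obtain ⟨n, α, σ, hα, hn, rfl⟩ := A.S.exists_move_class (show R w ≠ 0 by rw [hw]; simpa using hv) hβ he
    exact le_trans (Finset.card_pos.2 ⟨_, A.mem_above.2 hν⟩) (A.card_above_le hn hα w)
  have hclsw : ∀ w, R w = -R v → ∀ y ∈ cls R w, R y = -R v := fun w hw y hy => by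
    obtain ⟨β, hβ, he⟩ := mem_cls.1 hy
    rw [he, three_mul_self H.hq hβ, one_mul, hw]
  have hvne : R v ≠ -R v := fun e => hv (mul_left_cancel₀ h2 (by linear_combination e))
  have hd1 : ∀ w, R w = -R v → Disjoint (cls R v) (cls R w) := fun w hw =>
    Finset.disjoint_left.2 fun y hy hy' => hvne ((hclsv y hy).symm.trans (hclsw w hw y hy'))
  have hd2 : Disjoint (cls R v) (sing R) := Finset.disjoint_left.2 fun y hy hy' =>
    hv (by rw [← hclsv y hy, (mem_sing.1 hy').2])
  have h0s : (0 : W) ∉ sing R := fun h => (mem_sing.1 h).1 rfl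
  by_cases hs : ∃ ω s, s ≠ 0 ∧ R s = 0 ∧ s ∈ A.ann ω
  · obtain ⟨ω, s, hs0, hRs, hsω⟩ := hs
    have hsing : ∀ y ∈ sing R, 1 ≤ (A.above y).card := fun y hy => by
      obtain ⟨hy0, hy1⟩ := mem_sing.1 hy
      obtain ⟨hp⟩ := A.S.hypW
      obtain ⟨g, hg, he⟩ := exists_sing_move A.S.nd A.S.good A.S.five hp hRs hs0 hy1 hy0
      have h1 := A.card_above_le (A.S.moves_emb ⟨g, hg⟩) one_ne_zero s
      rw [inv_one, one_smul, he] at h1
      exact le_trans (Finset.card_pos.2 ⟨_, A.mem_above.2 hsω⟩) h1
    by_cases hτ : ∃ w, R w = -R v ∧ ∃ ν, w ∈ A.ann ν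
    · obtain ⟨w, hw, hν⟩ := hτ
      have hd3 : Disjoint (cls R w) (sing R) := Finset.disjoint_left.2 fun y hy hy' =>
        hv (neg_eq_zero.1 (by rw [← hclsw w hw y hy, (mem_sing.1 hy').2]))
      have h1 := A.sum_above_orbs_le (cls R v ∪ cls R w ∪ sing R) (by
        simp only [mem_union, not_or]
        exact ⟨⟨h0c, fun h => hv (neg_eq_zero.1 (by rw [← hclsw w hw 0 h, QuadraticMap.map_zero]))⟩, h0s⟩)
      rw [Finset.sum_union (Finset.disjoint_union_left.2 ⟨hd2, hd3⟩), Finset.sum_union (hd1 w hw)] at h1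
      have := hsum1 w hw hν
      have := H.hsum v w hv hw
      have hS1 : (sing R).card ≤ ∑ y ∈ sing R, (A.above y).card := by
        rw [Finset.card_eq_sum_ones]; exact Finset.sum_le_sum hsing
      omega
    · push Not at hτ
      have honly : ∀ (ν : Ω) (w : W), w ∈ A.ann ν → R w = 0 ∨ R w = R v := fun ν w hw => by
        by_cases h : R w = 0
        · exact Or.inl h
        · exact Or.inr ((three_eq_or H.hq hv h).resolve_right fun e => hτ w e ν hw)
      have hne : (A.above3 v).Nonempty := Finset.card_pos.1 (by omega)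
      have h1 := A.sum_above_orbs_le (cls R v ∪ sing R) (by
        rw [mem_union]; exact fun h => h.elim h0c h0s)
      rw [Finset.sum_union hd2] at h1
      have hS2 : 2 * (sing R).card ≤ ∑ y ∈ sing R, (A.above y).card := by
        rw [mul_comm, ← smul_eq_mul]
        refine Finset.card_nsmul_le_sum _ _ _ fun y hy => ?_
        exact A.above_sing_two H hv honly hne (mem_sing.1 hy).1 (mem_sing.1 hy).2
      omega
  -- no singular vector in any annihilator
  push Not at hs
  have hkey : ∀ (ν : Ω) (x y : W), x ∈ A.ann ν → y ∈ A.ann ν → R x = R v → R y = R v → x ≠ y → x ≠ -y →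
      polar R x y = 0 := by
    intro ν x y hx hy hRx hRy hne hne'
    by_contra hb
    rcases three_eq_or H.hq hv hb with h | h
    · refine hs ν (x + y) (fun e => hne' (eq_neg_of_add_eq_zero_left e)) ?_ (A.ann_add hx hy)
      rw [quad_add', hRx, hRy, h]
      linear_combination R v * h3
    · refine hs ν (x + -y) (fun e => hne (add_neg_eq_zero.1 e)) ?_ (A.ann_add hx (A.ann_neg hy))
      rw [quad_add', QuadraticMap.map_neg, hRx, hRy, polar_neg_right, h]
      linear_combination R v * h3
  have hsmall : ∀ O ∈ A.orbs, ((cls R v).filter fun y => ∃ ω ∈ O, y ∈ A.ann ω).card ≤ 4 := by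
    intro O hO
    obtain ⟨ν, rfl⟩ := A.exists_of_mem hO
    rw [A.filter_ann rfl]
    by_contra hgt
    push Not at hgt
    set T := (cls R v).filter fun y => y ∈ A.ann ν
    have hT : ∀ y ∈ T, y ∈ A.ann ν ∧ R y = R v := fun y hy =>
      ⟨(mem_filter.1 hy).2, hclsv y (mem_filter.1 hy).1⟩
    obtain ⟨a, ha⟩ := Finset.card_pos.1 (show 0 < T.card by omega)
    obtain ⟨b, hb⟩ : ∃ b, b ∈ (T.erase a).erase (-a) := Finset.card_pos.1 (by
      have h5 := Finset.pred_card_le_card_erase (s := T) (a := a)
      have h6 := Finset.pred_card_le_card_erase (s := T.erase a) (a := -a)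
      omega)
    obtain ⟨c, hc⟩ : ∃ c, c ∈ (((T.erase a).erase (-a)).erase b).erase (-b) := Finset.card_pos.1 (by
      have h5 := Finset.pred_card_le_card_erase (s := T) (a := a)
      have h6 := Finset.pred_card_le_card_erase (s := T.erase a) (a := -a)
      have h7 := Finset.pred_card_le_card_erase (s := (T.erase a).erase (-a)) (a := b)
      have h8 := Finset.pred_card_le_card_erase (s := ((T.erase a).erase (-a)).erase b) (a := -b)
      omega)
    simp only [mem_erase] at hb hc
    obtain ⟨hbna, hba, hbT⟩ := hb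
    obtain ⟨hcnb, hcb, hcna, hca, hcT⟩ := hc
    obtain ⟨haA, haR⟩ := hT a ha
    obtain ⟨hbA, hbR⟩ := hT b hbT
    obtain ⟨hcA, hcR⟩ := hT c hcT
    have hab := hkey ν b a hbA haA hbR haR hba hbna
    have hac := hkey ν c a hcA haA hcR haR hca hcna
    have hbc := hkey ν c b hcA hbA hcR hbR hcb hcnb
    refine hs ν (a + b + c) (fun e => ?_) ?_ (A.ann_add (A.ann_add haA hbA) hcA)
    · have e1 := congrArg (polar R a) e
      rw [polar_add_right, polar_add_right, polar_zero_right, polar_self', haR, polar_comm _ a b, hab,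
        polar_comm _ a c, hac, add_zero, add_zero] at e1
      exact mul_ne_zero h2 hv e1
    · rw [quad_add', quad_add', polar_add_left, haR, hbR, hcR, polar_comm _ a b, hab, polar_comm _ a c,
        hac, polar_comm _ b c, hbc]
      linear_combination R v * h3
  -- the other class occurs
  obtain ⟨O, hO⟩ := Finset.card_pos.1 (show 0 < (A.above3 v).card by omega)
  obtain ⟨hO1, hOc⟩ := mem_filter.1 hO
  obtain ⟨ν, rfl⟩ := A.exists_of_mem (mem_filter.1 hO1).1
  have hvν := A.mem_above.1 hO1
  obtain ⟨w, hw, hν⟩ : ∃ w, R w = -R v ∧ w ∈ A.ann ν := by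
    by_contra! hno
    have h5 : (A.ann ν).card ≤ ({0, v, -v} : Finset W).card := Finset.card_le_card fun w hw => by
      simp only [mem_insert, mem_singleton]
      by_contra! hc
      obtain ⟨hw0, hwv, hwnv⟩ := hc
      have hRw : R w = R v := (three_eq_or H.hq hv fun e => hs ν w hw0 e hw).resolve_right
        fun e => hno w e hw
      have hb := hkey ν w v hw hvν hRw rfl hwv hwnv
      exact hno (w + v) (by rw [quad_add', hRw, hb]; linear_combination R v * h3) (A.ann_add hw hvν)
    have := h5.trans Finset.card_le_three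
    rw [A.card_ann] at this
    omega
  have h1 := A.sum_above_orbs_le (cls R v ∪ cls R w) (by
    rw [mem_union]
    exact fun h => h.elim h0c fun h => hv (neg_eq_zero.1 (by rw [← hclsw w hw 0 h, QuadraticMap.map_zero])))
  rw [Finset.sum_union (hd1 w hw)] at h1
  have h4 : ∑ y ∈ cls R v, (A.above y).card ≤ 4 * A.orbs.card := by
    rw [A.sum_above, mul_comm, ← smul_eq_mul]
    exact Finset.sum_le_card_nsmul _ _ _ hsmall
  have := hsum1 w hw ⟨ν, hν⟩
  have := H.hsum v w hv hw
  omega

/-- An annihilator with a non-singular vector is its line or contains the orthogonal of that vector. -/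
theorem dichotomy_three (hq : Fintype.card F = 3) {ω : Ω} {u : W} (hu : R u ≠ 0) (huU : u ∈ A.ann ω)
    (hk : (A.above3 u).card < 3) :
    (∀ w, w ∈ A.ann ω → ∃ t : F, w = t • u) ∨
      (∀ w, polar R u w = 0 → w ∈ A.ann ω) := by
  refine or_iff_not_imp_left.2 fun hout => ?_
  push Not at hout
  obtain ⟨w, hw, hwu⟩ := hout
  have hu0 : u ≠ 0 := fun e => hu (by rw [e, QuadraticMap.map_zero])
  have hbig := A.ann_gt_three hq huU hw hu0 hwu
  set U := A.ann ω
  have hinv : ∀ d c : W, R d = 0 → polar R d c = 0 → polar R u d = 0 → polar R u c = 0 →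
      ∀ y ∈ U, polar R d y • c + (-(polar R c y) - R c * polar R d y) • d ∈ U := by
    intro d c hd hdc hud huc y hy
    obtain ⟨g, hg⟩ := A.S.exists_sgl hd hdc
    have hgu : g.1.1 u = u := by
      rw [hg.2.2, polar_comm _ d u, hud, polar_comm _ c u, huc]; simp
    have hn := A.S.moves_emb g
    have hpow : embG R g ^ 3 = 1 := by
      rw [← map_pow]
      have : g ^ 3 = 1 := by
        refine Subtype.ext ((A.S.siegel_pow hg 3).unique ?_)
        rw [← Nat.cast_smul_eq_nsmul F, Nat.cast_ofNat, three_zero hq, zero_smul]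
        exact isSiegel_one hd
      rw [this, map_one]
    have hO := A.fix_small_family (p := 3) Nat.prime_three hpow (T := A.above3 u) (fun O hO => by
      obtain ⟨h1, h2⟩ := mem_filter.1 hO
      have h3 := A.above_moves hn one_ne_zero h1
      rw [inv_one, one_smul, hgu] at h3
      exact mem_filter.2 ⟨h3, by rw [Finset.card_image_of_injective _ (A.π _).injective]; exact h2⟩) hk
      (mem_filter.2 ⟨A.mem_above.2 huU, hbig⟩)
    have hy' := (A.ann_moves hn one_ne_zero).1 hy
    rw [inv_one, one_smul, hg.2.2] at hy'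
    have hmem : A.π (embG R g) ω ∈ A.orb ω := hO ▸ mem_image_of_mem _ (A.self_mem ω)
    rw [A.ann_eq hmem, add_assoc] at hy'
    have := A.ann_add hy' (A.ann_neg hy)
    rwa [add_neg_cancel_comm] at this
  have step : ∀ a, R a = 0 → polar R u a = 0 → ∀ y ∈ U, polar R a y ≠ 0 → ∀ t : F, t • a ∈ U := by
    intro a ha hua y hy hay t
    obtain ⟨c, c', h1, h2, h3, h4, h5⟩ := A.S.exists_nondeg_perp a u
    set r := -t / polar R a y
    have e1 := hinv a (r • c) ha (by rw [polar_smul_r', h1, mul_zero]) hua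
      (by rw [polar_smul_r', h2, mul_zero]) y hy
    have e2 := hinv a c' ha h3 hua h4 y hy
    have e3 := hinv a (r • c + c') ha (by rw [polar_add_right, polar_smul_r', h1, h3, mul_zero, add_zero])
      hua (by rw [polar_add_right, polar_smul_r', h2, h4, mul_zero, add_zero]) y hy
    have := A.ann_add e3 (A.ann_neg (A.ann_add e1 e2))
    convert this using 1
    simp only [quad_add', polar_add_left, polar_smul_l', quad_smul', h5]
    match_scalars <;> (try simp only [r]) <;> field_simp <;> ring
  have step' : ∀ a, R a = 0 → polar R u a = 0 → ∀ y ∈ U, polar R a y = 0 →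
      y ∉ Submodule.span F {a, u} → ∀ t : F, t • a ∈ U := by
    intro a ha hua y hy hay hyT t
    obtain ⟨c, hc, hc1⟩ := exists_polar_one A.S.nd hyT
    have hca : polar R a c = 0 := by rw [polar_comm]; exact hc a (Submodule.subset_span (by simp))
    have hcu : polar R u c = 0 := by rw [polar_comm]; exact hc u (Submodule.subset_span (by simp))
    have := hinv a ((-t) • c) ha (by rw [polar_smul_r', hca, mul_zero]) hua
      (by rw [polar_smul_r', hcu, mul_zero]) y hy
    convert this using 1
    rw [hay, polar_smul_l', hc1]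
    match_scalars <;> ring
  have span : ∀ z, polar R u z = 0 → ∃ a b c : W, R a = 0 ∧ R b = 0 ∧ R c = 0 ∧ polar R u a = 0 ∧
      polar R u b = 0 ∧ polar R u c = 0 ∧ ∃ r s : F, z = c + r • a + s • b := by
    intro z hz
    obtain ⟨a, b, ha, hb, hab, hua, hub⟩ := A.S.exists_pair_perp hu
    set z' := z - polar R b z • a - polar R a z • b with hz'
    have k1 : polar R a z' = 0 := by
      simp only [hz', polar_sub_right, polar_smul_r', polar_self', ha, hab]; ring
    have k2 : polar R b z' = 0 := by
      simp only [hz', polar_sub_right, polar_smul_r', polar_self', hb, polar_comm _ b a, hab]; ring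
    have k3 : polar R u z' = 0 := by
      simp only [hz', polar_sub_right, polar_smul_r', hua, hub, hz]; ring
    refine ⟨a, b, z' + a + (-R z') • b, ha, hb, ?_, hua, hub, ?_, polar R b z - 1, polar R a z + R z', ?_⟩
    · simp only [quad_add', quad_smul', polar_add_left, polar_smul_r', ha, hb, hab, polar_comm _ z' a,
        polar_comm _ z' b, k1, k2]
      ring
    · simp only [polar_add_right, polar_smul_r', hua, hub, k3]; ring
    · simp only [hz']; module
  obtain ⟨a₀, ha₀, hua₀, hwa₀⟩ : ∃ a, R a = 0 ∧ polar R u a = 0 ∧ polar R a w ≠ 0 := by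
    by_contra! hall
    have hw' : w ∉ Submodule.span F ({u} : Set W) := by
      rw [Submodule.mem_span_singleton]
      rintro ⟨t, rfl⟩
      exact hwu t rfl
    obtain ⟨z, hz, hz1⟩ := exists_polar_one A.S.nd hw'
    obtain ⟨a, b, c, ha, hb, hc, hua, hub, huc, r, s, rfl⟩ :=
      span z (by rw [polar_comm]; exact hz u (Submodule.mem_span_singleton_self u))
    rw [polar_add_left, polar_add_left, polar_smul_l', polar_smul_l', hall a ha hua, hall b hb hub,
      hall c hc huc] at hz1
    simp at hz1
  have ha₀U : ∀ t : F, t • a₀ ∈ U := step a₀ ha₀ hua₀ w hw hwa₀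
  have all : ∀ a, R a = 0 → polar R u a = 0 → ∀ t : F, t • a ∈ U := by
    intro a ha hua t
    have h1 : a₀ ∈ U := by simpa using ha₀U 1
    by_cases hpol : polar R a a₀ = 0
    · by_cases hmem : a₀ ∈ Submodule.span F {a, u}
      · obtain ⟨r, s, hrs⟩ := Submodule.mem_span_pair.1 hmem
        have hs : s = 0 := by
          have hq : R a₀ = s * s * R u := by
            rw [← hrs, quad_add', quad_smul', quad_smul', polar_smul_l', polar_smul_r', ha,
              polar_comm _ a u, hua]
            ring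
          rw [ha₀, eq_comm] at hq
          exact mul_self_eq_zero.1 ((mul_eq_zero.1 hq).resolve_right hu)
        rw [hs, zero_smul, add_zero] at hrs
        have hr : r ≠ 0 := by
          rintro rfl
          rw [zero_smul] at hrs
          rw [← hrs, polar_zero_left] at hwa₀
          exact hwa₀ rfl
        have := ha₀U (t / r)
        rwa [← hrs, smul_smul, div_mul_cancel₀ _ hr] at this
      · exact step' a ha hua a₀ h1 hpol hmem t
    · exact step a ha hua a₀ h1 hpol t
  intro z hz
  obtain ⟨a, b, c, ha, hb, hc, hua, hub, huc, r, s, rfl⟩ := span z hz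
  exact A.ann_add (A.ann_add (by simpa using all c hc huc 1) (all a ha hua r)) (all b hb hub s)

theorem all_or_line_three (hq : Fintype.card F = 3) (hk : ∀ v, R v ≠ 0 → (A.above3 v).card < 3)
    {ω : Ω} {u : W} (hu : R u ≠ 0) (huU : u ∈ A.ann ω) :
    (∀ w, w ∈ A.ann ω) ∨ ∀ w, w ∈ A.ann ω → ∃ t : F, w = t • u := by
  rcases A.dichotomy_three hq hu huU (hk u hu) with h | h
  · exact Or.inr h
  refine Or.inl fun w => ?_
  obtain ⟨a, b, ha, hb, hab, hua, hub⟩ := A.S.exists_pair_perp hu
  set v := a + b
  have huv : polar R u v = 0 := by simp only [v, polar_add_right, hua, hub, add_zero]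
  have hRv : R v ≠ 0 := by simp [v, quad_add', ha, hb, hab]
  have hv : v ∈ A.ann ω := h v huv
  have hv' : ∀ x, polar R v x = 0 → x ∈ A.ann ω := by
    rcases A.dichotomy_three hq hRv hv (hk v hRv) with h' | h'
    · exfalso
      obtain ⟨t, ht⟩ := h' a (h a hua)
      have hq' := congrArg R ht
      rw [ha, quad_smul', eq_comm] at hq'
      have ht0 : t = 0 := mul_self_eq_zero.1 ((mul_eq_zero.1 hq').resolve_right hRv)
      rw [ht0, zero_smul] at ht
      rw [ht, polar_zero_left] at hab
      exact zero_ne_one hab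
    · exact h'
  have hva : polar R v a = 1 := by
    simp [v, polar_add_left, polar_self', ha, polar_comm _ b a, hab]
  have key : w = (w - polar R v w • a) + polar R v w • a := by abel
  rw [key]
  exact A.ann_add (hv' _ (by rw [polar_sub_right, polar_smul_r', hva]; ring))
    (h _ (by rw [polar_smul_r', hua, mul_zero]))

theorem classify_three (hq : Fintype.card F = 3) (hk : ∀ v, R v ≠ 0 → (A.above3 v).card < 3) {ω : Ω}
    (h : (A.orb ω).card ≠ 1) : A.Reg ω ∨ A.Line ω ∨ A.Big ω := by
  obtain ⟨v, hv, hv0⟩ : ∃ v ∈ A.ann ω, v ≠ 0 := by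
    by_contra! hall
    apply h
    rw [← A.card_ann, Finset.card_eq_one]
    exact ⟨0, Finset.eq_singleton_iff_unique_mem.2 ⟨A.zero_mem ω, hall⟩⟩
  by_cases hns : ∃ x ∈ A.ann ω, R x ≠ 0
  · obtain ⟨x, hx, hRx⟩ := hns
    rcases A.all_or_line_three hq hk hRx hx with h1 | h1
    · exact Or.inl h1
    · exact Or.inr (Or.inl ⟨x, fun e => hRx (by simp [e]), hx, h1⟩)
  push Not at hns
  by_cases hline : ∀ w ∈ A.ann ω, ∃ t : F, w = t • v
  · exact Or.inr (Or.inl ⟨v, hv0, hv, hline⟩)
  push Not at hline
  obtain ⟨b, hb, hbv⟩ := hline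
  refine Or.inr (Or.inr ⟨hns, v, b, hv, hb, ?_⟩)
  rw [LinearIndependent.pair_iff' hv0]
  exact fun t e => hbv t e.symm

/-- No singular annihilator outside the lines. -/
theorem no_big_three {m N k : ℕ} (H : ThreeNum R m N k) (hcard : Fintype.card Ω < N) (ω₀ : Ω) :
    ¬ A.Big ω₀ := by
  classical
  intro hω₀
  have hm := H.hu
  have h2 := three_two_ne H.hq
  have hle : ∀ ω, A.Big ω → (A.orb ω).card ≤ m := fun ω hω => by
    rw [← A.card_ann]
    have := (A.big_span hω H.hts).1
    rwa [H.hq, H.hk] at this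
  let rep : Finset Ω → Ω := fun O => if h : ∃ ω ∈ O, A.Big ω then h.choose else ω₀
  have hrep : ∀ O ∈ A.kind A.Big, rep O ∈ O ∧ A.Big (rep O) ∧ O = A.orb (rep O) := fun O hO => by
    have h := (A.mem_kind.1 hO).2
    simp only [rep, dif_pos h]
    exact ⟨h.choose_spec.1, h.choose_spec.2, A.of_mem_orbs (A.mem_kind.1 hO).1 h.choose_spec.1⟩
  have hpos : ∀ z ∈ pairs R, 1 ≤ (A.above2 A.Big z).card := fun z hz =>
    A.above2_pos A.Big (fun hn hα ω h => A.big_moves hn hα h) hω₀ hω₀ hz
  have h1 : (pairs R).card ≤ ∑ O ∈ A.kind A.Big, (A.pairsIn (rep O)).card := by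
    rw [← A.sum_above2 A.Big rep fun O hO => (hrep O hO).1]
    calc (pairs R).card = ∑ _z ∈ pairs R, 1 := Finset.card_eq_sum_ones _
      _ ≤ _ := Finset.sum_le_sum hpos
  have h2' : ∀ O ∈ A.kind A.Big, (A.pairsIn (rep O)).card * m ≤ (m - 1) * (m - 3) * O.card := by
    intro O hO
    obtain ⟨-, hb, hOe⟩ := hrep O hO
    have hb1 := hle _ hb
    rw [← hOe] at hb1
    obtain ⟨hb0, a₀, b₀, ha₀, hb₀, hli₀⟩ := id hb
    have hb4 : 3 < O.card := by
      rw [hOe]
      refine A.ann_gt_three H.hq ha₀ hb₀ (by simpa using hli₀.ne_zero 0) fun t e => ?_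
      exact ((LinearIndependent.pair_iff' (by simpa using hli₀.ne_zero 0)).1 hli₀) t e.symm
    have hsub : A.pairsIn (rep O) ⊆ ((A.ann (rep O)).erase 0).biUnion fun a =>
        ((A.ann (rep O)) \ {0, a, -a}).image fun b => (a, b) := by
      intro z hz
      simp only [pairsIn, mem_filter, mem_pairs] at hz
      obtain ⟨⟨-, -, -, hli⟩, hz1, hz2⟩ := hz
      have hz0 : z.1 ≠ 0 := by simpa using hli.ne_zero 0
      rw [LinearIndependent.pair_iff' hz0] at hli
      refine mem_biUnion.2 ⟨z.1, mem_erase.2 ⟨hz0, hz1⟩, mem_image.2 ⟨z.2, mem_sdiff.2 ⟨hz2, ?_⟩, rfl⟩⟩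
      simp only [mem_insert, mem_singleton, not_or]
      exact ⟨fun e => hli 0 (by rw [e, zero_smul]), fun e => hli 1 (by rw [e, one_smul]),
        fun e => hli (-1) (by rw [e, neg_smul, one_smul])⟩
    have h3 : (A.pairsIn (rep O)).card ≤ ((A.ann (rep O)).erase 0).card * (O.card - 3) := by
      refine (Finset.card_le_card hsub).trans (Finset.card_biUnion_le_card_mul _ _ _ fun a ha => ?_)
      obtain ⟨ha0, haA⟩ := mem_erase.1 ha
      refine Finset.card_image_le.trans ?_
      have hna : a ≠ -a := fun e => by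
        have h3 : (2 : F) • a = 0 := by rw [two_smul]; exact (eq_neg_iff_add_eq_zero.1 e)
        exact (smul_eq_zero.1 h3).elim h2 ha0
      rw [Finset.card_sdiff_of_subset (by
        simp only [Finset.insert_subset_iff, Finset.singleton_subset_iff]
        exact ⟨A.zero_mem _, haA, A.ann_neg haA⟩), Finset.card_insert_of_notMem (by simp [ha0, ha0.symm]),
        Finset.card_pair hna, A.card_ann, ← hOe]
    rw [Finset.card_erase_of_mem (A.zero_mem _), A.card_ann, ← hOe] at h3
    refine le_trans (Nat.mul_le_mul_right _ h3) ?_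
    zify [show 1 ≤ O.card by omega, show 3 ≤ O.card by omega, show 1 ≤ m by omega, show 3 ≤ m by omega]
    have hb4' : (4 : ℤ) ≤ O.card := by exact_mod_cast hb4
    have hm' : (9 : ℤ) ≤ m := by exact_mod_cast hm
    have hb1' : (O.card : ℤ) ≤ m := by exact_mod_cast hb1
    nlinarith [mul_nonneg (show (0 : ℤ) ≤ (m : ℤ) - O.card by linarith)
      (show (0 : ℤ) ≤ (O.card : ℤ) * m - 3 by nlinarith)]
  have h3 := A.sum_kind_le A.Big
  have h4 : (pairs R).card * m ≤ (m - 1) * (m - 3) * Fintype.card Ω := by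
    refine le_trans (Nat.mul_le_mul_right _ h1) ?_
    rw [Finset.sum_mul]
    refine (Finset.sum_le_sum h2').trans ?_
    rw [← Finset.mul_sum]
    exact Nat.mul_le_mul_left _ h3
  have h5 := H.hP.trans h4
  rw [mul_comm N] at h5
  have := Nat.le_of_mul_le_mul_left h5 (Nat.mul_pos (by omega) (by omega))
  omega

/-- One regular orbit and nothing else is impossible. -/
theorem regular_only_three {m N k : ℕ} (H : ThreeNum R m N k) {ω : Ω} (hreg : A.Reg ω)
    (hrest : ∀ ν : Ω, (A.orb ν).card ≠ 1 → ν ∈ A.orb ω) : False := by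
  classical
  have h3 := three_zero H.hq
  have h2 := three_two_ne H.hq
  set P := plusPlane R
  have hstab : ∀ ν ∈ A.orb ω, ∀ v, v ∈ A.stab ν → v = 0 := fun ν hν v hv => by
    refine eq_zero_of_polar A.S.nd fun y => ?_
    rw [polar_comm]
    exact A.polar_eq_zero_of hv fun c => (Reg.congr hν hreg) _
  have hnofix := A.no_fixed fun u hu0 _ ν hν => by
    by_contra h1
    exact hu0 (hstab ν (hrest ν h1) u hν)
  have hall : ∀ ν, ν ∈ A.orb ω := fun ν => hrest ν (hnofix ν)
  obtain ⟨hp⟩ := A.S.hypW
  obtain ⟨z, hz, hzR⟩ : ∃ z, (∀ w ∈ Submodule.span F ({hp.e₀, hp.f₀, hp.e₁, hp.f₁} : Set W),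
      polar R w z = 0) ∧ R z ≠ 0 := by
    set T := Submodule.span F ({hp.e₀, hp.f₀, hp.e₁, hp.f₁} : Set W)
    by_contra! hno
    set Q' := LinearMap.BilinForm.orthogonal (QuadraticMap.polarBilin R) T
    have hsing : ∀ w ∈ Q', R w = 0 := fun w hw => hno w hw
    have hTsub : Q' ≤ T := fun w hw => by
      by_contra hwT
      obtain ⟨y, hy, hy1⟩ := exists_polar_one A.S.nd hwT
      have hyQ : y ∈ Q' := fun t ht => by
        show polar R t y = 0
        rw [polar_comm]; exact hy t ht
      rw [polar_of_singular_add (hsing y hyQ) (hsing w hw) (hsing _ (add_mem hyQ hw))] at hy1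
      exact zero_ne_one hy1
    have hbot : Q' = ⊥ := (Submodule.eq_bot_iff _).2 fun w hw => by
      have hwT := hTsub hw
      simp only [T, Submodule.mem_span_insert, Submodule.mem_span_singleton] at hwT
      obtain ⟨a, _, ⟨b, _, ⟨c, _, ⟨d, rfl⟩, rfl⟩, rfl⟩, rfl⟩ := hwT
      have k1 : polar R hp.f₀ _ = 0 := hw hp.f₀ (Submodule.subset_span (by simp))
      have k2 : polar R hp.e₀ _ = 0 := hw hp.e₀ (Submodule.subset_span (by simp))
      have k3 : polar R hp.f₁ _ = 0 := hw hp.f₁ (Submodule.subset_span (by simp))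
      have k4 : polar R hp.e₁ _ = 0 := hw hp.e₁ (Submodule.subset_span (by simp))
      simp [polar_add_right, polar_smul_r', polar_self', hp.he₀, hp.hf₀, hp.he₁, hp.hf₁, hp.h00, hp.c00,
        hp.h11, hp.c11, hp.hee, hp.hef, hp.hfe, hp.hff, hp.cee, hp.cef, hp.cfe, hp.cff] at k1 k2 k3 k4
      simp [k1, k2, k3, k4]
    have h1 : finrank F Q' = 0 := by rw [hbot, finrank_bot]
    rw [LinearMap.BilinForm.finrank_orthogonal A.S.nd, H.hdim] at h1
    have h4 := finrank_span_finset_le_card (R := F) ({hp.e₀, hp.f₀, hp.e₁, hp.f₁} : Finset W)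
    simp only [Finset.coe_insert, Finset.coe_singleton, Set.finrank] at h4
    have h5 : ({hp.e₀, hp.f₀, hp.e₁, hp.f₁} : Finset W).card ≤ 4 :=
      (Finset.card_insert_le _ _).trans (Nat.add_le_add_right ((Finset.card_insert_le _ _).trans
        (Nat.add_le_add_right ((Finset.card_insert_le _ _).trans (by simp)) _)) _)
    have := H.hk2
    have h6 : finrank F T ≤ 4 :=
      le_trans (Submodule.finrank_mono (Submodule.span_mono (by intro q; simp))) (h4.trans h5)
    omega
  set ρ := R z
  have hρ : ρ * ρ = 1 := three_mul_self H.hq hzR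
  have hz0 : polar R hp.e₀ z = 0 := hz _ (Submodule.subset_span (by simp))
  have hz1 : polar R hp.e₁ z = 0 := hz _ (Submodule.subset_span (by simp))
  have hz1' : polar R hp.f₁ z = 0 := hz _ (Submodule.subset_span (by simp))
  set a := hp.e₀
  set x := hp.e₁ + ρ • hp.f₁ with hxdef
  set y := z - x with hydef
  set c := hp.e₁ + (-ρ) • hp.f₁ with hcdef
  have hRx : R x = ρ := by
    rw [hxdef, quad_add', quad_smul', polar_smul_r', hp.he₁, hp.hf₁, hp.h11]; ring
  have hRc : R c = -ρ := by
    rw [hcdef, quad_add', quad_smul', polar_smul_r', hp.he₁, hp.hf₁, hp.h11]; ring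
  have hzx : polar R z x = 0 := by
    rw [hxdef, polar_add_right, polar_smul_r', polar_comm _ z hp.e₁, hz1, polar_comm _ z hp.f₁, hz1']; ring
  have hxy : polar R x y = ρ := by
    rw [hydef, polar_sub_right, polar_self', hRx, polar_comm, hzx]
    linear_combination -ρ * h3
  have hRy : R y = -ρ := by
    rw [hydef, sub_eq_add_neg, quad_add', QuadraticMap.map_neg, hRx, polar_neg_right, hzx]
    linear_combination ρ * h3
  have hax : polar R a x = 0 := by
    rw [hxdef, polar_add_right, polar_smul_r', hp.hee, hp.hef]; ring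
  have hay : polar R a y = 0 := by rw [hydef, polar_sub_right, hz0, hax, sub_zero]
  have hac : polar R a c = 0 := by
    rw [hcdef, polar_add_right, polar_smul_r', hp.hee, hp.hef]; ring
  have hcx : polar R c x = 0 := by
    rw [hcdef, hxdef, polar_add_left, polar_add_right, polar_add_right, polar_smul_l', polar_smul_l',
      polar_smul_r', polar_smul_r', polar_self', polar_self', hp.he₁, hp.hf₁, hp.h11, hp.c11]
    ring
  have hcz : polar R c z = 0 := by
    rw [hcdef, polar_add_left, polar_smul_l', hz1, hz1']; ring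
  have hcy : polar R c y = 0 := by rw [hydef, polar_sub_right, hcz, hcx, sub_zero]
  set σ := refl R x * refl R y with hσ
  have hσa : σ.1 a = a := by
    show (refl R x).1 ((refl R y).1 a) = a
    rw [refl_fix R (a := y) (by rw [polar_comm]; exact hay), refl_fix R (a := x) (by rw [polar_comm]; exact hax)]
  have hσc : σ.1 c = c := by
    show (refl R x).1 ((refl R y).1 c) = c
    rw [refl_fix R (a := y) (by rw [polar_comm]; exact hcy), refl_fix R (a := x) (by rw [polar_comm]; exact hcx)]
  have hinj : ∀ v, σ.1 v = -v → v = 0 := by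
    intro v hv
    have hρ0 : ρ⁻¹ = ρ := inv_eq_of_mul_eq_one_right hρ
    change (refl R x).1 ((refl R y).1 v) = -v at hv
    rw [refl_apply, refl_apply, hRx, hRy, inv_neg, hρ0, polar_sub_right, polar_smul_r', hxy] at hv
    set bx := polar R x v with hbx
    set bY := polar R y v with hbY
    have e : ρ * (bx - -ρ * bY * ρ) = ρ * bx + ρ * bY := by linear_combination ρ * bY * hρ
    rw [e] at hv
    have h3v : (3 : F) • v = 0 := by rw [h3, zero_smul]
    have hveq : v = (ρ * bY) • y - (ρ * bx + ρ * bY) • x := by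
      linear_combination (norm := module) h3v - hv
    have e1 := congrArg (polar R x) hveq
    have e2 := congrArg (polar R y) hveq
    rw [polar_sub_right, polar_smul_r', polar_smul_r', polar_self', hRx, hxy, ← hbx] at e1
    rw [polar_sub_right, polar_smul_r', polar_smul_r', polar_self', hRy, polar_comm _ y x, hxy, ← hbY] at e2
    have e1' : bY = 0 := by linear_combination e1 - (bY + 2 * bx) * hρ - bx * h3
    have e2' : bx = 0 := by
      rw [e1'] at e2
      linear_combination e2 - bx * hρ
    rw [hveq, e1', e2']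
    simp
  obtain ⟨n, hn, hn'⟩ : ∃ n : Om R, n.1.1 ee = (-1 : F) • ee ∧ ∀ w, n.1.1 (iw w) = iw (σ.1 w) := by
    have hd1 : P (ee + ff) = 1 := by simp [P, plusPlane_apply, ee, ff]
    have hd2 : P (ee - ff) = -1 := by simp [P, plusPlane_apply, ee, ff]
    have hix : P (iw x) = ρ := by rw [q_iw, hRx]
    have hiy : P (iw y) = -ρ := by rw [q_iw, hRy]
    set n₀ := refl P (ee + ff) * refl P (ee - ff) * (refl P (iw x) * refl P (iw y)) with hn₀
    have hmem : n₀ ∈ commutator (orthGroup P) := by
      have hρ0 : ρ ≠ 0 := hzR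
      have hg := A.S.goodV
      have hnd := A.S.ndV
      rw [mem_commutator_iff, hn₀, map_mul, map_mul, map_mul]
      rcases three_eq_or H.hq (one_ne_zero : (1 : F) ≠ 0) hρ0 with h | h
      · rw [ab_refl_eq hnd hg (a := ee + ff) (b := iw x) (by rw [hd1]; exact one_ne_zero) (by rw [hix]; exact hρ0)
            ⟨1, by rw [hd1, hix, h]⟩,
          ab_refl_eq hnd hg (a := ee - ff) (b := iw y) (by rw [hd2]; simp) (by rw [hiy]; simpa using hρ0)
            ⟨1, by rw [hd2, hiy, h]; ring⟩,
          ← mul_assoc, mul_right_comm (Abelianization.of (refl P (iw x))), ab_refl_sq, one_mul, ab_refl_sq]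
      · rw [ab_refl_eq hnd hg (a := ee + ff) (b := iw y) (by rw [hd1]; exact one_ne_zero)
            (by rw [hiy]; simpa using hρ0) ⟨1, by rw [hd1, hiy, h]; ring⟩,
          ab_refl_eq hnd hg (a := ee - ff) (b := iw x) (by rw [hd2]; simp) (by rw [hix]; exact hρ0)
            ⟨1, by rw [hd2, hix, h]; ring⟩,
          mul_comm (Abelianization.of (refl P (iw x))) (Abelianization.of (refl P (iw y))),
          ← mul_assoc, mul_right_comm (Abelianization.of (refl P (iw y))), ab_refl_sq, one_mul, ab_refl_sq]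
    have hfx : ∀ w w' : W, (refl P (iw w')).1 (iw w) = iw ((refl R w').1 w) := fun w w' => by
      rw [refl_apply, refl_apply, q_iw, b_iw, map_sub, map_smul]
    refine ⟨⟨n₀, hmem⟩, ?_, fun w => ?_⟩
    · show (refl P (ee + ff)).1 ((refl P (ee - ff)).1 ((refl P (iw x)).1 ((refl P (iw y)).1 ee))) = _
      rw [refl_fix P (a := iw y) (by rw [polar_comm]; exact b_ee_iw R y),
        refl_fix P (a := iw x) (by rw [polar_comm]; exact b_ee_iw R x),
        refl_sub_apply P (by simp [P, q_ee, q_ff]) (by rw [hd2]; simp), refl_apply, hd1]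
      simp [P, plusPlane_polar, ee, ff, Prod.ext_iff]
    · show (refl P (ee + ff)).1 ((refl P (ee - ff)).1 ((refl P (iw x)).1 ((refl P (iw y)).1 (iw w)))) = _
      rw [hfx, hfx, refl_fix P (a := ee - ff) (by simp [P, plusPlane_polar, ee, ff, iw]),
        refl_fix P (a := ee + ff) (by simp [P, plusPlane_polar, ee, ff, iw])]
      rfl
  have hmoves := A.S.moves_of (neg_ne_zero.2 one_ne_zero) hn hn'
  obtain ⟨g, hg⟩ := A.S.exists_sgl (d := a) (c := c) hp.he₀ hac
  have hcomm : n * embG R g = embG R g * n := by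
    have h := (A.S.embG_siegel hg).conj n.1
    rw [hn', hn', hσa, hσc] at h
    exact mul_inv_eq_iff_eq_mul.1 (Subtype.ext (h.unique (A.S.embG_siegel hg)) :
      n * embG R g * n⁻¹ = embG R g)
  have hmove : ∀ v ν, A.π n (A.π (A.S.x v) ν) = A.π (A.S.x (-σ.1 v)) (A.π n ν) := fun v ν => by
    rw [← A.pi_moves hmoves v ν, neg_smul, one_smul]
  obtain ⟨v₀, hv₀⟩ := A.mem_orb.1 (hall (A.π n ω))
  have hbij : Function.Surjective (fun v : W => v + σ.1 v) := by
    refine Finite.surjective_of_injective fun v v' e => sub_eq_zero.1 (hinj _ ?_)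
    have e' : v + σ.1 v = v' + σ.1 v' := e
    rw [map_sub]
    linear_combination (norm := module) e'
  obtain ⟨v, hv⟩ := hbij v₀
  set ν := A.π (A.S.x v) ω
  have hν : A.π n ν = ν := by
    show A.π n (A.π (A.S.x v) ω) = _
    rw [hmove, ← hv₀, ← A.pi_add, ← hv]
    congr 2
    simp only [ν]
    congr 1
    abel
  obtain ⟨w, hw⟩ := A.mem_orb.1 (hall (A.π (embG R g) ν))
  obtain ⟨w', hw'⟩ : ∃ w', A.π (A.S.x w') ν = A.π (embG R g) ν := by
    refine ⟨w - v, ?_⟩
    show A.π (A.S.x (w - v)) (A.π (A.S.x v) ω) = _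
    rw [← A.pi_add, sub_add_cancel]
    exact hw
  have hfix : A.π n (A.π (embG R g) ν) = A.π (embG R g) ν := by
    rw [← Equiv.Perm.mul_apply, ← map_mul, hcomm, map_mul, Equiv.Perm.mul_apply, hν]
  rw [← hw', hmove, hν] at hfix
  have hs : -w' + -σ.1 w' ∈ A.stab ν := by
    rw [mem_stab, A.pi_add, hfix, ← A.pi_add, neg_add_cancel, A.pi_zero]
  have hw0 : w' = 0 := hinj w' (by
    have := hstab ν (hall ν) _ hs
    rw [← neg_add, neg_eq_zero, add_comm] at this
    exact eq_neg_of_add_eq_zero_left this)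
  have h0 : A.fx (A.S.x c) = 0 := by
    rw [fx, Finset.card_eq_zero, Finset.filter_eq_empty_iff]
    intro μ _ hμ
    have hc0 : c = 0 := hstab μ (hall μ) c hμ
    rw [hc0, QuadraticMap.map_zero, eq_comm, neg_eq_zero] at hRc
    exact hzR hRc
  have := A.fx_siegel hp.e₀_ne_zero hg (by rw [hRc]; simpa using hzR)
  rw [h0, fx, Finset.card_eq_zero, Finset.filter_eq_empty_iff] at this
  exact this (mem_univ ν) (by rw [← hw', hw0, A.pi_zero])

/-- Every non-trivial action over three elements has at least `N` points. -/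
theorem false_of_small_three (A : Act R Ω) {m N k : ℕ} (H : ThreeNum R m N k)
    (hcard : Fintype.card Ω < N) : False := by
  have hk : ∀ v, R v ≠ 0 → (A.above3 v).card < 3 := fun v => A.above3_lt H hcard
  have hm := H.hu
  have hN := H.hN
  have hS := H.hS
  have hW := H.hW
  by_cases hreg : ∃ ω, A.Reg ω
  swap
  · push Not at hreg
    exact A.lines_only fun ν hν =>
      ((A.classify_three H.hq hk hν).resolve_left (hreg ν)).resolve_right (A.no_big_three H hcard ν)
  obtain ⟨ω, hω⟩ := hreg
  have hX := A.card_reg hω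
  have hle := A.sum_kind_le A.Reg
  refine A.regular_only_three H hω fun ν hν => ?_
  rcases A.classify_three H.hq hk hν with h | h | h
  · by_contra hmem
    have hne : A.orb ν ≠ A.orb ω := fun e => hmem (e ▸ A.self_mem ν)
    have h3 := Finset.sum_le_sum_of_subset (f := Finset.card) (s := ({A.orb ν, A.orb ω} : Finset (Finset Ω)))
      (t := A.kind A.Reg) (by
        intro O hO
        rw [mem_insert, mem_singleton] at hO
        rcases hO with rfl | rfl
        · exact A.mem_kind.2 ⟨A.orb_mem ν, ν, A.self_mem ν, h⟩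
        · exact A.mem_kind.2 ⟨A.orb_mem ω, ω, A.self_mem ω, hω⟩)
    rw [Finset.sum_pair hne, A.card_reg h, hX] at h3
    omega
  · exfalso
    have h2 := A.sum_two_kinds A.Reg A.Line fun a b hb ha hb' => A.reg_not_line (Reg.congr hb ha) hb'
    have h1 : A.orb ω ∈ A.kind A.Reg := A.mem_kind.2 ⟨A.orb_mem ω, ω, A.self_mem ω, hω⟩
    have h1' := Finset.single_le_sum (f := Finset.card) (fun _ _ => Nat.zero_le _) h1
    rw [hX] at h1'
    obtain ⟨v, hv0, hvν, -⟩ := id h
    have huu : 9 * m ≤ m * m := Nat.mul_le_mul_right _ hm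
    by_cases hv : R v = 0
    · have := A.sing_cover hv hv0 h hvν
      rw [H.hq] at this
      omega
    · have := A.cls_cover hv h hvν
      have := H.hM v hv
      rw [H.hq] at *
      omega
  · exact absurd h (A.no_big_three H hcard ν)

end Act

end CfsgLib.KnownA.MinIndexOrth
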