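import Cfsg.Agent.Lib.KnownA.MinIndexOrth.SmallThree
import Cfsg.Agent.Lib.KnownA.MinIndexOrth.Numerics
import Cfsg.Agent.Lib.KnownA.MinIndexOrth.Bound

/-!
# Minimal index of `Ω(2m+1, 3)`: numbers, bound and attainment
-/

set_option autoImplicit false
set_option linter.unusedSectionVars false

open Module QuadraticMap MulAction CfsgLib.Orth CfsgLib.Classical Finset
open scoped LinearAlgebra.Projectivization

namespace CfsgLib.KnownA.MinIndexOrth

/-- The number of vectors on which a form takes a given value. -/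
noncomputable def sphCount {F V : Type*} [Field F] [AddCommGroup V] [Module F V] (Q : QuadraticForm F V)
    (c : F) : ℕ := Nat.card {v : V // Q v = c}

theorem sphCount_congr {F V V' : Type*} [Field F] [AddCommGroup V] [Module F V] [AddCommGroup V']
    [Module F V'] {Q : QuadraticForm F V} {Q' : QuadraticForm F V'} (e : V ≃ₗ[F] V')
    (he : ∀ v, Q' (e v) = Q v) (c : F) : sphCount Q c = sphCount Q' c :=
  Nat.card_congr (e.toEquiv.subtypeEquiv fun v => by rw [← he]; rfl)

theorem sphCount_plusPlane {F V : Type*} [Field F] [AddCommGroup V] [Module F V] [FiniteDimensional F V]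
    [Fintype F] (Q : QuadraticForm F V) (c : F) :
    sphCount (plusPlane Q) c = (Fintype.card F - 1) * Nat.card V + Fintype.card F * sphCount Q c := by
  classical
  have : Finite V := Module.finite_of_finite F
  have := Fintype.ofFinite V
  let e : {x : V × (F × F) // plusPlane Q x = c} ≃ ({a : F // a ≠ 0} × V) ⊕ (F × {v : V // Q v = c}) :=
    { toFun := fun x => if ha : x.1.2.1 = 0 then Sum.inr (x.1.2.2, ⟨x.1.1, by
          have := x.2; rw [plusPlane_apply, ha, zero_mul, add_zero] at this; exact this⟩)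
        else Sum.inl (⟨x.1.2.1, ha⟩, x.1.1)
      invFun := fun y => match y with
        | Sum.inl (a, v) => ⟨(v, (a.1, (c - Q v) / a.1)), by
            rw [plusPlane_apply, mul_div_cancel₀ _ a.2, add_sub_cancel]⟩
        | Sum.inr (b, v) => ⟨(v.1, (0, b)), by rw [plusPlane_apply, v.2, zero_mul, add_zero]⟩
      left_inv := fun x => by
        obtain ⟨⟨v, a, b⟩, hx⟩ := x
        rw [plusPlane_apply] at hx
        simp only at hx
        by_cases ha : a = 0
        · subst ha; simp
        · simp [ha]
          field_simp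
          linear_combination -hx
      right_inv := fun y => by
        rcases y with ⟨a, v⟩ | ⟨b, v⟩
        · simp [a.2]
        · simp }
  rw [sphCount, Nat.card_congr e, Nat.card_sum, Nat.card_prod, Nat.card_prod,
    Nat.card_eq_fintype_card (α := F), ← sphCount, Nat.card_eq_fintype_card (α := {a : F // a ≠ 0}),
    Fintype.card_subtype_compl, Fintype.card_subtype_eq]

section Numbers

variable {F : Type*} [Field F] [Fintype F]

theorem sphCount_odd_three (hF : Fintype.card F = 3) : ∀ m : ℕ,
    sphCount (oddForm F m) 1 = 9 ^ m + 3 ^ m ∧ sphCount (oddForm F m) (-1) + 3 ^ m = 9 ^ m := by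
  intro m
  induction m with
  | zero =>
    have h2 := three_two_ne hF
    have hval : ∀ v : Unit ⊕ (Fin 0 ⊕ Fin 0) → F, oddForm F 0 v = v (.inl ()) * v (.inl ()) := fun v => by
      rw [← oddForm_apply]; simp [Cfsg.quadFormOdd, pow_two]
    constructor
    · let e : {v : Unit ⊕ (Fin 0 ⊕ Fin 0) → F // oddForm F 0 v = 1} ≃ {t : F // t * t = 1} :=
        { toFun := fun v => ⟨v.1 (.inl ()), by rw [← hval]; exact v.2⟩
          invFun := fun t => ⟨fun _ => t.1, by rw [hval]; exact t.2⟩
          left_inv := fun v => Subtype.ext (funext fun i => by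
            rcases i with u | i | i
            · rfl
            · exact i.elim0
            · exact i.elim0)
          right_inv := fun t => rfl }
      classical
      rw [sphCount, Nat.card_congr e, Nat.card_eq_fintype_card, Fintype.card_subtype]
      have : (univ.filter fun t : F => t * t = 1) = {1, -1} := by
        ext t
        simp [mul_self_eq_one_iff]
      rw [this, Finset.card_pair (fun e => h2 (by linear_combination e))]
      rfl
    · have : IsEmpty {v : Unit ⊕ (Fin 0 ⊕ Fin 0) → F // oddForm F 0 v = -1} := ⟨fun v => by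
        have h := v.2
        rw [hval] at h
        by_cases h0 : v.1 (.inl ()) = 0
        · rw [h0, mul_zero] at h
          exact one_ne_zero (α := F) (by linear_combination h)
        · rw [three_mul_self hF h0] at h
          exact h2 (by linear_combination h)⟩
      rw [sphCount, Nat.card_of_isEmpty]
      simp
  | succ m ih =>
    have hV : Nat.card (Unit ⊕ (Fin m ⊕ Fin m) → F) = 3 * 9 ^ m := by
      rw [Nat.card_eq_fintype_card, Fintype.card_fun, hF]
      simp only [Fintype.card_sum, Fintype.card_unit, Fintype.card_fin]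
      rw [pow_add, pow_one, ← two_mul, pow_mul]
      norm_num
    rw [sphCount_congr (oddStep (F := F) m) (oddStep_spec m) 1,
      sphCount_congr (oddStep (F := F) m) (oddStep_spec m) (-1),
      sphCount_plusPlane, sphCount_plusPlane, hV, hF, pow_succ, pow_succ]
    obtain ⟨h1, h2⟩ := ih
    omega

theorem num_odd_three (hF : Fintype.card F = 3) (k : ℕ) (hk : 2 ≤ k)
    [Fintype (Unit ⊕ (Fin k ⊕ Fin k) → F)] [DecidableEq (Unit ⊕ (Fin k ⊕ Fin k) → F)] :
    ∃ u N, ThreeNum (oddForm F k) u N k ∧ sphCount (plusPlane (oddForm F k)) (-1) = 2 * N ∧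
      N = 3 ^ (k + 1) * (3 ^ (k + 1) - 1) / 2 := by
  classical
  set w := 3 ^ (k - 1) with hw
  have hqk : 3 ^ k = 3 * w := by rw [hw, ← pow_succ']; congr 1; omega
  have hw3 : 3 ≤ w := by
    rw [hw]
    calc 3 = 3 ^ 1 := rfl
      _ ≤ _ := Nat.pow_le_pow_right (by norm_num) (by omega)
  clear_value w
  have h9 : 9 ^ k = 9 * (w * w) := by
    rw [show 9 = 3 * 3 from rfl, mul_pow, hqk]; ring
  have h2 := three_two_ne hF
  have hR := oddForm_nondeg (F := F) k h2
  have hdim : finrank F (Unit ⊕ (Fin k ⊕ Fin k) → F) = 2 * k + 1 := by simp; omega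
  have hX : Fintype.card (Unit ⊕ (Fin k ⊕ Fin k) → F) = 27 * (w * w) := by
    rw [← Nat.card_eq_fintype_card, Module.natCard_eq_pow_finrank (K := F), Nat.card_eq_fintype_card, hF, hdim,
      pow_succ, two_mul, pow_add, hqk]
    ring
  have hd2 : Fintype.card F ^ (finrank F (Unit ⊕ (Fin k ⊕ Fin k) → F) - 2) = 3 * (w * w) := by
    rw [hF, hdim, hw] at *
    rw [← pow_add, ← pow_succ']
    congr 1; omega
  have hz : zeroCount (oddForm F k) = 9 * (w * w) := by
    rw [zeroCount_odd hF, two_mul, pow_add, hqk]; ring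
  obtain ⟨hp1, hm1⟩ := sphCount_odd_three hF k
  rw [h9, hqk] at hp1 hm1
  have hcls : ∀ v, oddForm F k v ≠ 0 →
      (cls (oddForm F k) v).card = sphCount (oddForm F k) (oddForm F k v) := fun v hv => by
    rw [sphCount, Nat.card_eq_fintype_card, Fintype.card_subtype]
    congr 1
    ext y
    simp only [mem_cls, mem_filter, mem_univ, true_and]
    constructor
    · rintro ⟨β, hβ, he⟩
      rw [he, three_mul_self hF hβ, one_mul]
    · intro he
      exact ⟨1, one_ne_zero, by rw [he, one_mul, one_mul]⟩
  have hww : 3 * w ≤ w * w := Nat.mul_le_mul_right _ hw3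
  set N := (81 * (w * w) - 9 * w) / 2 with hN
  have hN2 : 2 * N + 9 * w = 81 * (w * w) := by
    obtain ⟨r, hr⟩ : Even (81 * (w * w) - 9 * w) := by
      have e : 81 * (w * w) - 9 * w = (9 * w) * (9 * w - 1) := by
        rw [Nat.mul_sub_one]; ring_nf
      rw [e]
      rcases Nat.even_or_odd (9 * w) with h | h
      · exact h.mul_right _
      · exact (Nat.Odd.sub_odd h odd_one).mul_left _
    rw [hN, hr]
    omega
  refine ⟨3 * w, N, ⟨hF, by omega, hqk, hk, hdim, ?_, ?_, ?_, ?_, ?_, ?_, ?_⟩, ?_, ?_⟩
  · rw [hX]; ring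
  · rw [card_sing, hz, show 3 * w * (3 * w) = 9 * (w * w) by ring]
    omega
  · intro v hv
    rw [hcls v hv, show 3 * w * (3 * w) = 9 * (w * w) by ring]
    rcases three_eq_or hF (one_ne_zero : (1 : F) ≠ 0) hv with h | h <;> rw [h] <;> omega
  · intro v y hv hy
    rw [hcls v hv, hcls y (by rw [hy]; simpa using hv), hy, show 3 * w * (3 * w) = 9 * (w * w) by ring]
    rcases three_eq_or hF (one_ne_zero : (1 : F) ≠ 0) hv with h | h <;> rw [h]
    · omega
    · rw [neg_neg]; omega
  · rw [show 9 * (3 * w * (3 * w)) = 81 * (w * w) by ring]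
    omega
  · intro T hT
    have := singular_finrank_le hR T hT
    omega
  · have hpairs := card_pairs hR (show 2 ≤ finrank F (Unit ⊕ (Fin k ⊕ Fin k) → F) by omega)
    rw [hd2, hF, hz] at hpairs
    have hsub : 9 * (w * w) - (3 - 1) * (3 * (w * w)) - 3 = 3 * (w * w) - 3 := by omega
    rw [hsub] at hpairs
    rw [hpairs]
    zify [show 1 ≤ 9 * (w * w) by omega, show 3 ≤ 3 * (w * w) by omega, show 1 ≤ 3 * w by omega,
      show 3 ≤ 3 * w by omega] at hN2 ⊢
    have h3 : (3 : ℤ) ≤ w := by exact_mod_cast hw3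
    refine le_of_mul_le_mul_left ?_ (show (0 : ℤ) < 2 by norm_num)
    have key : (0 : ℤ) ≤ 6 * (w * w) - 19 * w + 5 := by nlinarith
    have hpos : (0 : ℤ) ≤ 9 * w * ((3 * w - 1) * (w - 1)) :=
      mul_nonneg (by linarith) (mul_nonneg (by linarith) (by linarith))
    nlinarith [mul_nonneg hpos key]
  · rw [sphCount_plusPlane, hF, Nat.card_eq_fintype_card, hX]
    omega
  · rw [pow_succ, hqk, Nat.mul_sub, mul_one, hN]
    congr 2
    all_goals ring

end Numbers

variable {F W : Type*} [Field F] [Fintype F] [AddCommGroup W] [Module F W] [FiniteDimensional F W]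
  [Fintype W] [DecidableEq W] {R : QuadraticForm F W}

/-- Proper subgroups of `Ω` have index at least `N` over three elements. -/
theorem Setup.index_ge_three (S : Setup R) {u N k : ℕ} (H : ThreeNum R u N k)
    (K : Subgroup (Om R)) (hK : K ≠ ⊤) : N ≤ K.index := by
  classical
  by_contra! hlt
  have : Finite (Om R) := inferInstance
  have := Fintype.ofFinite (Om R ⧸ K)
  obtain ⟨χ, hχ⟩ := AddChar.exists_apply_ne_zero.2 (one_ne_zero : (1 : F) ≠ 0)
  let A : Act R (Om R ⧸ K) :=
    { S := S
      π := MulAction.toPermHom _ _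
      χ := χ
      hχ := hχ
      trans := fun a b => MulAction.exists_smul_eq (Om R) a b
      two := by
        obtain ⟨g, hg⟩ : ∃ g, g ∉ K := by
          by_contra! h
          exact hK (eq_top_iff.2 fun g _ => h g)
        exact ⟨(g : Om R ⧸ K), ((1 : Om R) : Om R ⧸ K), fun e => hg (by
          simpa using K.inv_mem (QuotientGroup.eq.1 e))⟩ }
  refine A.false_of_small_three H ?_
  rwa [← Nat.card_eq_fintype_card]

/-- The stabiliser of a non-singular point, of the smaller class. -/
theorem Setup.exists_index_three (S : Setup R) (hq : Fintype.card F = 3) : ∃ K : Subgroup (Om R),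
    Subgroup.center (Om R) ≤ K ∧ 2 * K.index = sphCount (plusPlane R) (-1) := by
  classical
  set P := plusPlane R
  have hd : P (ee - ff) = -1 := by simp [P, plusPlane_apply, ee, ff]
  have hd0 : (ee - ff : W × (F × F)) ≠ 0 := fun e => by
    rw [e, QuadraticMap.map_zero] at hd
    exact one_ne_zero (α := F) (by linear_combination hd)
  set p₀ : ℙ F (W × (F × F)) := Projectivization.mk F (ee - ff) hd0
  refine ⟨MulAction.stabilizer (Om R) p₀, fun z hz => ?_, ?_⟩
  · rw [MulAction.mem_stabilizer_iff]
    obtain ⟨c, hc⟩ := S.center_ee hz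
    obtain ⟨g, hg, he⟩ := exists_sing_move S.ndV S.goodV S.five' S.hypV.some
      (a := ee) (b := ff) (q_ee R) (by simp [ee]) (q_ff R) (by simp [ff])
    have h := congrArg (fun y : Om R => y.1.1 (ee : W × (F × F))) (Subgroup.mem_center_iff.1 hz ⟨g, hg⟩)
    change g.1 (z.1.1 ee) = z.1.1 (g.1 ee) at h
    rw [hc, map_smul, he] at h
    show z.1 • p₀ = p₀
    rw [orth_smul_mk, Projectivization.mk_eq_mk_iff']
    exact ⟨c, by rw [map_sub, hc, ← h, smul_sub]⟩
  have : Finite (ℙ F (W × (F × F))) := Quotient.finite _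
  have := Fintype.ofFinite (ℙ F (W × (F × F)))
  have hrep : ∀ (v : W × (F × F)) (hv : v ≠ 0), P (Projectivization.mk F v hv).rep = P v := by
    intro v hv
    obtain ⟨a, ha⟩ := Projectivization.exists_smul_eq_mk_rep F v hv
    rw [← ha, Units.smul_def, quad_smul', three_mul_self hq a.ne_zero, one_mul]
  have horb : MulAction.orbit (Om R) p₀ = {p | P p.rep = -1} := by
    ext p
    constructor
    · rintro ⟨g, rfl⟩
      show P (g.1 • p₀).rep = -1
      rw [orth_smul_mk, hrep, apply_quad, hd]
    · intro hp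
      obtain ⟨g, hg, he⟩ := exists_sphere_move S.ndV S.goodV S.five' S.hypV.some (a := ee - ff) (b := p.rep)
        (by rw [hd]; simp) (by rw [hd]; exact (Eq.symm hp))
      refine ⟨⟨g, hg⟩, ?_⟩
      show g • p₀ = p
      conv_rhs => rw [← Projectivization.mk_rep p]
      rw [orth_smul_mk, Projectivization.mk_eq_mk_iff']
      exact ⟨1, by rw [one_smul, he]⟩
  rw [MulAction.index_stabilizer, horb, ← Nat.card_coe_set_eq]
  let f : {p : ℙ F (W × (F × F)) // P p.rep = -1} × Fˣ → {v : W × (F × F) // P v = -1} := fun z =>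
    ⟨(z.2 : F) • z.1.1.rep, by rw [quad_smul', z.1.2, three_mul_self hq z.2.ne_zero, one_mul]⟩
  have hf : Function.Bijective f := by
    constructor
    · rintro ⟨p, c⟩ ⟨p', c'⟩ h
      have h' : (c : F) • p.1.rep = (c' : F) • p'.1.rep := congrArg Subtype.val h
      have hp : p = p' := by
        refine Subtype.ext ?_
        rw [← Projectivization.mk_rep p.1, ← Projectivization.mk_rep p'.1]
        refine (Projectivization.mk_eq_mk_iff' _ _ _ _ _).2 ⟨(c : F)⁻¹ * c', ?_⟩
        rw [← smul_smul, ← h', smul_smul, inv_mul_cancel₀ c.ne_zero, one_smul]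
      subst hp
      exact Prod.ext rfl (Units.ext (smul_left_injective F (Projectivization.rep_nonzero p.1) h'))
    · rintro ⟨v, hv⟩
      have hv0 : v ≠ 0 := fun e => by
        rw [e, QuadraticMap.map_zero] at hv
        exact one_ne_zero (α := F) (by linear_combination hv)
      obtain ⟨c, hc⟩ := Projectivization.exists_smul_eq_mk_rep F v hv0
      refine ⟨(⟨Projectivization.mk F v hv0, by rw [hrep, hv]⟩, c⁻¹), Subtype.ext ?_⟩
      show ((c⁻¹ : Fˣ) : F) • (Projectivization.mk F v hv0).rep = v
      rw [← hc, Units.smul_def, smul_smul, ← Units.val_mul, inv_mul_cancel, Units.val_one, one_smul]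
  rw [sphCount, ← Nat.card_congr (Equiv.ofBijective f hf), Nat.card_prod, Nat.card_units,
    Nat.card_eq_fintype_card (α := F), hq, mul_comm 2]
  rfl

section Model

variable {ι : Type} [Fintype ι] [DecidableEq ι] {Qf : (ι → F) → F} (Q : QuadraticForm F (ι → F))
  (hQf : ∀ v, Qf v = Q v) (e : (ι → F) ≃ₗ[F] W × (F × F)) (he : ∀ v, plusPlane R (e v) = Q v)

include hQf e he in
/-- The bound and its attainment in `PΩ` over three elements. -/
theorem pomega_min_index_three (hR : (QuadraticMap.polarBilin R).Nondegenerate) (h5 : 5 ≤ finrank F W)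
    {u N k : ℕ} (H : ThreeNum R u N k) (hz : sphCount (plusPlane R) (-1) = 2 * N) :
    (∀ K : Subgroup (Cfsg.POmega F Qf), K ≠ ⊤ → N ≤ K.index) ∧
      ∃ K : Subgroup (Cfsg.POmega F Qf), K.index = N := by
  obtain ⟨Φ⟩ := omega_model Q hQf e he
  have S : Setup R := ⟨hR, h5⟩
  let π : Om R →* Cfsg.POmega F Qf := (QuotientGroup.mk' _).comp Φ.symm.toMonoidHom
  have hπ : Function.Surjective π := (QuotientGroup.mk'_surjective _).comp Φ.symm.surjective
  constructor
  · intro K hK
    rw [← Subgroup.index_comap_of_surjective K hπ]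
    exact S.index_ge_three H _ fun h => hK (Subgroup.comap_injective hπ (by rw [h, Subgroup.comap_top]))
  · obtain ⟨K, hZ, hK⟩ := S.exists_index_three H.hq
    refine ⟨K.map π, ?_⟩
    rw [Subgroup.index_map_eq K hπ (fun x hx => hZ ?_)]
    · omega
    have hx' : Φ.symm x ∈ Subgroup.center ↥(Cfsg.Omega F Qf) := (QuotientGroup.eq_one_iff _).1 hx
    refine Subgroup.mem_center_iff.2 fun g => Φ.symm.injective ?_
    rw [map_mul, map_mul]
    exact Subgroup.mem_center_iff.1 hx' _

end Model

end CfsgLib.KnownA.MinIndexOrth
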