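import Cfsg.Agent.Lib.KnownA.MinIndexOrth.MaxCase

/-!
# Minimal index in orthogonal groups of plus type over the field with two elements

The general argument needs either a scalar different from `0` and `±1` or a multiplicity below the
characteristic.  Over two elements the multiplicity of a non-singular vector is at most three, and a
Siegel transformation at a singular vector with non-singular parameter is the square of a product of
two Siegel transformations fixing that non-singular vector; this replaces both.
-/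

set_option autoImplicit false
set_option linter.unusedSectionVars false

open Module QuadraticMap CfsgLib.Orth CfsgLib.Classical Finset

namespace CfsgLib.KnownA.MinIndexOrth

section Scalars

variable {F : Type*} [Field F] [Fintype F]

theorem two_elems (hq : Fintype.card F = 2) (t : F) : t = 0 ∨ t = 1 := by
  classical
  by_contra h
  push Not at h
  have h1 : ({0, 1, t} : Finset F).card ≤ 2 := hq ▸ Finset.card_le_univ _
  rw [Finset.card_insert_of_notMem (by simp [h.1.symm]),
    Finset.card_insert_of_notMem (by simp [h.2.symm]), Finset.card_singleton] at h1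
  omega

theorem two_zero (hq : Fintype.card F = 2) : (2 : F) = 0 := by
  rcases two_elems hq (1 + 1 : F) with h | h
  · rw [← h]; norm_num
  · simp at h

theorem two_eq_one (hq : Fintype.card F = 2) {t : F} (ht : t ≠ 0) : t = 1 :=
  (two_elems hq t).resolve_left ht

theorem two_mul_self (hq : Fintype.card F = 2) (t : F) : t * t = t := by
  rcases two_elems hq t with rfl | rfl <;> simp

theorem two_neg (hq : Fintype.card F = 2) (t : F) : -t = t := by
  linear_combination (-t) * two_zero hq

end Scalars

variable {F W : Type*} [Field F] [Fintype F] [AddCommGroup W] [Module F W] [FiniteDimensional F W]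
  [Fintype W] [DecidableEq W] {R : QuadraticForm F W} {Ω : Type*} [Fintype Ω] [DecidableEq Ω]

theorem add_self_two (hq : Fintype.card F = 2) (v : W) : v + v = 0 := by
  rw [← two_smul F v, two_zero hq, zero_smul]

theorem neg_two (hq : Fintype.card F = 2) (v : W) : -v = v :=
  neg_eq_of_add_eq_zero_right (add_self_two hq v)

theorem siegel_fix {g : orthGroup R} {d y v : W} (hg : IsSiegel g d y) (h1 : polar R d v = 0)
    (h2 : polar R y v = 0) : g.1 v = v := by
  rw [hg.2.2, h1, h2]; simp

/-- The numerical facts over two elements; `u` is half the size of a maximal singular subspace. -/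
structure TwoNum (R : QuadraticForm F W) (u N k : ℕ) : Prop where
  hq : Fintype.card F = 2
  hu : 4 ≤ u
  hW : Fintype.card W = 4 * (u * u)
  hS : (sing R).card + 1 = 2 * (u * u) + u
  hM : ∀ v, R v ≠ 0 → (cls R v).card + u = 2 * (u * u)
  hN : N + 2 * u = 8 * (u * u)
  hts : ∀ T : Submodule F W, (∀ v ∈ T, R v = 0) → finrank F T ≤ k
  hk : 2 ^ k = 2 * u
  hP : N * ((2 * u - 1) * (2 * u - 2)) ≤ (pairs R).card * (2 * u)

namespace Act

variable (A : Act R Ω)

/-- Double counting, remembering that every annihilator contains zero. -/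
theorem sum_above_add_le (T : Finset W) (h0 : (0 : W) ∉ T) :
    ∑ y ∈ T, (A.above y).card + A.orbs.card ≤ Fintype.card Ω := by
  rw [A.sum_above, A.card_eq_sum, Finset.card_eq_sum_ones, ← Finset.sum_add_distrib]
  refine Finset.sum_le_sum fun O hO => ?_
  obtain ⟨ω, rfl⟩ := A.exists_of_mem hO
  rw [A.filter_ann rfl, ← A.card_ann,
    ← Finset.card_insert_of_notMem (a := (0 : W)) (fun e => h0 (mem_filter.1 e).1)]
  exact Finset.card_le_card (Finset.insert_subset (A.zero_mem ω) fun y hy => (mem_filter.1 hy).2)

/-- At most three orbits lie above a non-singular vector. -/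
theorem above_two {u N k : ℕ} (H : TwoNum R u N k) (hcard : Fintype.card Ω < N) {v : W} (hv : R v ≠ 0) :
    (A.above v).card < 4 := by
  classical
  by_contra! h4
  have hM : (cls R v).card + u = 2 * (u * u) := H.hM v hv
  have hN := H.hN
  have hu := H.hu
  have hS := H.hS
  have huu : 4 * u ≤ u * u := Nat.mul_le_mul_right _ hu
  have h0c : (0 : W) ∉ cls R v := fun h => by
    obtain ⟨β, hβ, he⟩ := mem_cls.1 h
    rw [QuadraticMap.map_zero, eq_comm] at he
    exact mul_ne_zero (mul_ne_zero hβ hβ) hv he
  have hcls : ∀ y ∈ cls R v, 4 ≤ (A.above y).card := fun y hy => by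
    obtain ⟨β, hβ, he⟩ := mem_cls.1 hy
    obtain ⟨n, α, σ, hα, hn, rfl⟩ := A.S.exists_move_class hv hβ he
    exact h4.trans (A.card_above_le hn hα v)
  have hsum : 4 * (cls R v).card ≤ ∑ y ∈ cls R v, (A.above y).card := by
    rw [mul_comm, ← smul_eq_mul]
    exact Finset.card_nsmul_le_sum _ _ _ hcls
  by_cases hs : ∃ ω s, s ≠ 0 ∧ R s = 0 ∧ s ∈ A.ann ω
  · obtain ⟨ω, s, hs0, hRs, hsω⟩ := hs
    have hsing : ∀ y ∈ sing R, 1 ≤ (A.above y).card := fun y hy => by
      obtain ⟨hy0, hy1⟩ := mem_sing.1 hy
      obtain ⟨hp⟩ := A.S.hypW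
      obtain ⟨g, hg, he⟩ := exists_sing_move A.S.nd A.S.good A.S.five hp hRs hs0 hy1 hy0
      have h1 := A.card_above_le (A.S.moves_emb ⟨g, hg⟩) one_ne_zero s
      rw [inv_one, one_smul, he] at h1
      exact le_trans (Finset.card_pos.2 ⟨_, A.mem_above.2 hsω⟩) h1
    have hdis : Disjoint (cls R v) (sing R) := Finset.disjoint_left.2 fun y hy hy' => by
      obtain ⟨β, hβ, he⟩ := mem_cls.1 hy
      rw [(mem_sing.1 hy').2, eq_comm] at he
      exact mul_ne_zero (mul_ne_zero hβ hβ) hv he
    have h1 := A.sum_above_add_le (cls R v ∪ sing R) (by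
      rw [mem_union]; exact fun h => h.elim h0c fun h => (mem_sing.1 h).1 rfl)
    rw [Finset.sum_union hdis] at h1
    have h2 : (sing R).card ≤ ∑ y ∈ sing R, (A.above y).card := by
      calc (sing R).card = ∑ _y ∈ sing R, 1 := Finset.card_eq_sum_ones _
        _ ≤ _ := Finset.sum_le_sum hsing
    omega
  push Not at hs
  have hsmall : ∀ O ∈ A.orbs, ((cls R v).filter fun y => ∃ ω ∈ O, y ∈ A.ann ω).card ≤ 3 := by
    intro O hO
    obtain ⟨ω, rfl⟩ := A.exists_of_mem hO
    rw [A.filter_ann rfl]
    by_contra hgt
    push Not at hgt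
    set T := (cls R v).filter fun y => y ∈ A.ann ω
    have hT : ∀ y ∈ T, y ∈ A.ann ω ∧ R y = 1 := fun y hy => by
      refine ⟨(mem_filter.1 hy).2, two_eq_one H.hq ?_⟩
      obtain ⟨β, hβ, he⟩ := mem_cls.1 (mem_filter.1 hy).1
      rw [he]; exact mul_ne_zero (mul_ne_zero hβ hβ) hv
    obtain ⟨a, ha⟩ := Finset.card_pos.1 (by omega : 0 < T.card)
    obtain ⟨b, hb, hba⟩ := Finset.exists_mem_ne (by omega : 1 < T.card) a
    obtain ⟨c, hc⟩ : ∃ c, c ∈ ((T.erase a).erase b).erase (a + b) := by
      have h1 := Finset.card_erase_of_mem ha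
      have h2 := Finset.card_erase_of_mem (mem_erase.2 ⟨hba, hb⟩)
      have h3 := Finset.pred_card_le_card_erase (s := (T.erase a).erase b) (a := a + b)
      exact Finset.card_pos.1 (by omega)
    simp only [mem_erase] at hc
    obtain ⟨hcab, hcb, hca, hcT⟩ := hc
    have key : ∀ x y, x ∈ A.ann ω → y ∈ A.ann ω → x ≠ y → R (x + y) = 1 := fun x y hx hy hxy => by
      refine two_eq_one H.hq fun h => hs ω (x + y) (fun e => hxy ?_) h (A.ann_add hx hy)
      rw [← neg_two H.hq y]
      exact eq_neg_of_add_eq_zero_left e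
    obtain ⟨haA, haR⟩ := hT a ha
    obtain ⟨hbA, hbR⟩ := hT b hb
    obtain ⟨hcA, hcR⟩ := hT c hcT
    have hab := key a b haA hbA (Ne.symm hba)
    have hac := key a c haA hcA (Ne.symm hca)
    have hbc := key b c hbA hcA (Ne.symm hcb)
    have habc := key (a + b) c (A.ann_add haA hbA) hcA (Ne.symm hcab)
    have e1 : R (a + b + c) = R (a + b) + R c + (polar R a c + polar R b c) := by
      rw [quad_add', polar_add_left]
    rw [quad_add', haR, hcR] at hac
    rw [quad_add', hbR, hcR] at hbc
    rw [habc, hab, hcR] at e1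
    exact one_ne_zero (α := F) (by linear_combination e1 + hac + hbc - (0 : F) * two_zero H.hq)
  have h1 := A.sum_above_add_le (cls R v) h0c
  have h2 : ∑ y ∈ cls R v, (A.above y).card ≤ 3 * A.orbs.card := by
    rw [A.sum_above, mul_comm, ← smul_eq_mul]
    exact Finset.sum_le_card_nsmul _ _ _ hsmall
  omega

/-- A permutation with fourth power one has square fixing each member of a stable family of at most
three orbits. -/
theorem fix_four {n : Om R} (hn : n ^ 4 = 1) {T : Finset (Finset Ω)}
    (hT : ∀ O ∈ T, O.image (A.π n) ∈ T) (hc : T.card < 4) {O : Finset Ω} (hO : O ∈ T) :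
    O.image (A.π (n ^ 2)) = O := by
  set f : Finset Ω → Finset Ω := fun O => O.image (A.π n)
  have hit : ∀ k, f^[k] O = O.image (A.π (n ^ k)) := by
    intro k
    induction k with
    | zero => simp
    | succ k ih =>
      rw [Function.iterate_succ_apply', ih, pow_succ', map_mul]
      simp only [f, Finset.image_image]
      rfl
  have hmemit : ∀ k, f^[k] O ∈ T := by
    intro k
    induction k with
    | zero => exact hO
    | succ k ih => rw [Function.iterate_succ_apply']; exact hT _ ih
  have hper : Function.IsPeriodicPt f 4 O := by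
    show f^[4] O = O
    rw [hit, hn, map_one]
    simp
  have hmin : Function.minimalPeriod f O ∣ 2 := by
    have h1 := Function.IsPeriodicPt.minimalPeriod_dvd hper
    have h2 : Function.minimalPeriod f O ≤ T.card := by
      calc Function.minimalPeriod f O = (Finset.range (Function.minimalPeriod f O)).card :=
            (Finset.card_range _).symm
        _ ≤ T.card := Finset.card_le_card_of_injOn (fun k => f^[k] O) (fun k _ => hmemit k)
            (fun a ha b hb h => Function.iterate_injOn_Iio_minimalPeriod (by simpa using ha)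
              (by simpa using hb) h)
    have h3 : Function.minimalPeriod f O ≤ 3 := by omega
    interval_cases Function.minimalPeriod f O <;> omega
  have := (Function.isPeriodicPt_minimalPeriod f O).trans_dvd hmin
  rw [← hit]
  exact this

variable {ω : Ω} {u : W}

/-- The difference made by a Siegel transformation with non-singular parameter stays in the annihilator. -/
theorem delta_two (hq : Fintype.card F = 2) (hu : R u = 1) (huU : u ∈ A.ann ω)
    (hk : (A.above u).card < 4) {d c : W} (hd : R d = 0) (hc : R c = 1) (hdc : polar R d c = 0)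
    (hud : polar R u d = 0) (huc : polar R u c = 0) (hcs : c ∉ Submodule.span F {d, u}) {y : W}
    (hy : y ∈ A.ann ω) : polar R d y • c + (polar R c y + polar R d y) • d ∈ A.ann ω := by
  have h2 := two_zero hq
  have hneg := two_neg hq
  set p := c + u with hpdef
  have hp : R p = 0 := by
    rw [hpdef, quad_add', hc, hu, polar_comm _ c u, huc]
    linear_combination h2
  have hdp : polar R d p = 0 := by rw [hpdef, polar_add_right, hdc, polar_comm _ d u, hud, add_zero]
  have hup : polar R u p = 0 := by
    rw [hpdef, polar_add_right, huc, polar_self', hu, zero_add, h2, zero_mul]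
  have hps : p ∉ Submodule.span F {d, u} := fun h => hcs (by
    have := Submodule.sub_mem _ h (Submodule.subset_span (by simp : u ∈ ({d, u} : Set W)))
    rwa [hpdef, add_sub_cancel_right] at this)
  obtain ⟨w, hw, hwp⟩ := exists_polar_one A.S.nd hps
  have hwd : polar R d w = 0 := by rw [polar_comm]; exact hw d (Submodule.subset_span (by simp))
  have hwu : polar R u w = 0 := by rw [polar_comm]; exact hw u (Submodule.subset_span (by simp))
  have hpw : polar R p w = 1 := by rw [polar_comm]; exact hwp
  obtain ⟨s1, hs1⟩ := A.S.exists_sgl hd hwd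
  obtain ⟨s2, hs2⟩ := A.S.exists_sgl hp (show polar R p u = 0 by rw [polar_comm]; exact hup)
  have hd' : s2.1.1 d = d := siegel_fix hs2 (by rw [polar_comm]; exact hdp) hud
  have hw' : s2.1.1 w = w + u + p := by
    rw [hs2.2.2, hpw, hwu, hu, one_smul, neg_zero, zero_sub, mul_one, hneg, one_smul]
  have hu1 : s1.1.1 u = u := siegel_fix hs1 (by rw [polar_comm]; exact hud) (by rw [polar_comm]; exact hwu)
  have hu2 : s2.1.1 u = u := siegel_fix hs2 (by rw [polar_comm]; exact hup) (by rw [polar_self', hu, h2, zero_mul])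
  have hinv : s2⁻¹ = s2 := by
    rw [inv_eq_iff_mul_eq_one]
    refine Subtype.ext ((hs2.mul hs2).unique ?_)
    rw [add_self_two hq]
    exact isSiegel_one hp
  obtain ⟨g, hg⟩ := A.S.exists_sgl hd hdc
  have hsq : (s2 * s1) ^ 2 = g := by
    refine Subtype.ext (IsSiegel.unique ?_ hg)
    have h3' := hs1.conj s2.1
    rw [hd', hw', hpdef] at h3'
    have h3 := h3'.mul hs1
    have e : w + u + (c + u) + w = c := by
      calc w + u + (c + u) + w = (w + w) + (u + u) + c := by abel
        _ = c := by rw [add_self_two hq, add_self_two hq, zero_add, zero_add]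
    rw [e] at h3
    convert h3 using 1
    show ((s2 * s1) ^ 2).1 = s2.1 * s1.1 * s2.1⁻¹ * s1.1
    rw [pow_two, ← Subgroup.coe_inv, hinv]
    simp only [Subgroup.coe_mul, mul_assoc]
  have hgg : g * g = 1 := by
    refine Subtype.ext ((hg.mul hg).unique ?_)
    rw [add_self_two hq]
    exact isSiegel_one hd
  have hfix : (s2 * s1).1.1 u = u := by
    show s2.1.1 (s1.1.1 u) = u
    rw [hu1, hu2]
  have hpow : embG R (s2 * s1) ^ 4 = 1 := by
    rw [← map_pow, show 4 = 2 * 2 from rfl, pow_mul, hsq, pow_two, hgg, map_one]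
  have hO := A.fix_four hpow (T := A.above u) (fun O hO => by
    have := A.above_moves (A.S.moves_emb (s2 * s1)) one_ne_zero hO
    rwa [inv_one, one_smul, hfix] at this) hk (A.mem_above.2 huU)
  rw [← map_pow, hsq] at hO
  have hy' := (A.ann_moves (A.S.moves_emb g) one_ne_zero).1 hy
  rw [inv_one, one_smul, hg.2.2, hc, one_mul] at hy'
  have hmem : A.π (embG R g) ω ∈ A.orb ω := hO ▸ mem_image_of_mem _ (A.self_mem ω)
  rw [A.ann_eq hmem, add_assoc] at hy'
  have := A.ann_add hy' (A.ann_neg hy)
  rwa [add_neg_cancel_comm, sub_eq_add_neg, hneg, hneg] at this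

/-- An annihilator containing a non-singular vector is that line or contains its orthogonal. -/
theorem dichotomy_two (hq : Fintype.card F = 2) (hu : R u ≠ 0) (huU : u ∈ A.ann ω)
    (hk : (A.above u).card < 4) :
    (∀ w, w ∈ A.ann ω → ∃ t : F, w = t • u) ∨ (∀ w, polar R u w = 0 → w ∈ A.ann ω) := by
  refine or_iff_not_imp_left.2 fun hout => ?_
  push Not at hout
  obtain ⟨w, hw, hwu⟩ := hout
  have hu1 : R u = 1 := two_eq_one hq hu
  have h2 := two_zero hq
  set U := A.ann ω
  -- normalise the norm of a vector orthogonal to `u`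
  have norm : ∀ c, polar R u c = 0 → R (c + (1 + R c) • u) = 1 ∧ polar R u (c + (1 + R c) • u) = 0 := by
    intro c hc
    constructor
    · rw [quad_add', quad_smul', polar_smul_r', polar_comm _ c u, hc, hu1, mul_one, mul_zero, add_zero,
        two_mul_self hq]
      linear_combination R c * h2
    · rw [polar_add_right, polar_smul_r', polar_self', hc, h2, zero_mul, mul_zero, add_zero]
  have hns : ∀ a y c, polar R a y = 0 → polar R u y = 0 → polar R c y = 1 →
      c ∉ Submodule.span F {a, u} := by
    intro a y c hay huy hcy h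
    obtain ⟨r, s, rfl⟩ := Submodule.mem_span_pair.1 h
    rw [polar_add_left, polar_smul_l', polar_smul_l', hay, huy] at hcy
    simp at hcy
  have step : ∀ a, R a = 0 → polar R u a = 0 → ∀ y ∈ U, polar R a y ≠ 0 → a ∈ U := by
    intro a ha hua y hy hay
    replace hay := two_eq_one hq hay
    obtain ⟨c, c', h1, h2', h3, h4, h5⟩ := A.S.exists_nondeg_perp a u
    obtain ⟨k1, k2⟩ := norm c h2'
    obtain ⟨k3, k4⟩ := norm c' h4
    set d := c + (1 + R c) • u with hd
    set d' := c' + (1 + R c') • u with hd'
    have e1 : polar R a d = 0 := by rw [hd, polar_add_right, polar_smul_r', h1, polar_comm _ a u, hua]; ring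
    have e3 : polar R a d' = 0 := by rw [hd', polar_add_right, polar_smul_r', h3, polar_comm _ a u, hua]; ring
    have e5 : polar R d d' = 1 := by
      rw [hd, polar_add_left, polar_smul_l', k4, mul_zero, add_zero, hd', polar_add_right, polar_smul_r',
        polar_comm _ c u, h2', mul_zero, add_zero, h5]
    have e6 : R (d + d') = 1 := by rw [quad_add', k1, k3, e5]; linear_combination h2
    have e7 : polar R u (d + d') = 0 := by rw [polar_add_right, k2, k4, add_zero]
    have e8 : polar R a (d + d') = 0 := by rw [polar_add_right, e1, e3, add_zero]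
    have s1 := A.delta_two hq hu1 huU hk ha k1 e1 hua k2 (hns a d' d e3 k4 e5) hy
    have s2 := A.delta_two hq hu1 huU hk ha k3 e3 hua k4
      (hns a d d' e1 k2 (by rw [polar_comm]; exact e5)) hy
    have s3 := A.delta_two hq hu1 huU hk ha e6 e8 hua e7 (hns a d' (d + d') e3 k4 (by
      rw [polar_add_left, e5, polar_self', h2, zero_mul, add_zero])) hy
    have := A.ann_add (A.ann_add s1 s2) s3
    clear_value d d'
    convert this using 1
    rw [hay, show polar R (d + d') y = polar R d y + polar R d' y from polar_add_left R d d' y]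
    match_scalars <;>
      first
        | linear_combination -h2
        | linear_combination -(1 + polar R d y + polar R d' y) * h2
  have step' : ∀ a, R a = 0 → polar R u a = 0 → ∀ y ∈ U, polar R a y = 0 → polar R u y = 0 →
      y ∉ Submodule.span F {a, u} → a ∈ U := by
    intro a ha hua y hy hay huy hyT
    obtain ⟨c, hc, hc1⟩ := exists_polar_one A.S.nd hyT
    have hca : polar R a c = 0 := by rw [polar_comm]; exact hc a (Submodule.subset_span (by simp))
    have hcu : polar R u c = 0 := by rw [polar_comm]; exact hc u (Submodule.subset_span (by simp))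
    obtain ⟨k1, k2⟩ := norm c hcu
    set d := c + (1 + R c) • u with hd
    have e1 : polar R a d = 0 := by rw [hd, polar_add_right, polar_smul_r', hca, polar_comm _ a u, hua]; ring
    have e2 : polar R d y = 1 := by rw [hd, polar_add_left, polar_smul_l', hc1, huy]; ring
    have := A.delta_two hq hu1 huU hk ha k1 e1 hua k2 (hns a y d hay huy e2) hy
    rw [hay, e2, zero_smul, zero_add, add_zero, one_smul] at this
    exact this
  have span : ∀ z, polar R u z = 0 → ∃ a b c : W, R a = 0 ∧ R b = 0 ∧ R c = 0 ∧ polar R u a = 0 ∧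
      polar R u b = 0 ∧ polar R u c = 0 ∧ ∃ r s : F, z = c + r • a + s • b := by
    intro z hz
    obtain ⟨a, b, ha, hb, hab, hua, hub⟩ := A.S.exists_pair_perp hu
    set z' := z - polar R b z • a - polar R a z • b with hz'
    have k1 : polar R a z' = 0 := by
      simp only [hz', polar_sub_right, polar_smul_r', polar_self', ha, hab]; ring
    have k2 : polar R b z' = 0 := by
      simp only [hz', polar_sub_right, polar_smul_r', polar_self', hb, polar_comm _ b a, hab]; ring
    have k3 : polar R u z' = 0 := by
      simp only [hz', polar_sub_right, polar_smul_r', hua, hub, hz]; ring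
    refine ⟨a, b, z' + a + (-R z') • b, ha, hb, ?_, hua, hub, ?_, polar R b z - 1, polar R a z + R z', ?_⟩
    · simp only [quad_add', quad_smul', polar_add_left, polar_smul_r', ha, hb, hab, polar_comm _ z' a,
        polar_comm _ z' b, k1, k2]
      ring
    · simp only [polar_add_right, polar_smul_r', hua, hub, k3]; ring
    · simp only [hz']; module
  -- some singular vector orthogonal to `u` is not orthogonal to `w`
  obtain ⟨a₀, ha₀, hua₀, hwa₀⟩ : ∃ a, R a = 0 ∧ polar R u a = 0 ∧ polar R a w ≠ 0 := by
    by_contra! hall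
    have hw' : w ∉ Submodule.span F ({u} : Set W) := by
      rw [Submodule.mem_span_singleton]
      rintro ⟨t, rfl⟩
      exact hwu t rfl
    obtain ⟨z, hz, hz1⟩ := exists_polar_one A.S.nd hw'
    obtain ⟨a, b, c, ha, hb, hc, hua, hub, huc, r, s, rfl⟩ :=
      span z (by rw [polar_comm]; exact hz u (Submodule.mem_span_singleton_self u))
    rw [polar_add_left, polar_add_left, polar_smul_l', polar_smul_l', hall a ha hua, hall b hb hub,
      hall c hc huc] at hz1
    simp at hz1
  have ha₀U : a₀ ∈ U := step a₀ ha₀ hua₀ w hw hwa₀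
  have all : ∀ a, R a = 0 → polar R u a = 0 → ∀ t : F, t • a ∈ U := by
    intro a ha hua t
    suffices a ∈ U by
      rcases two_elems hq t with rfl | rfl
      · rw [zero_smul]; exact A.zero_mem ω
      · rwa [one_smul]
    by_cases hpol : polar R a a₀ = 0
    · by_cases hmem : a₀ ∈ Submodule.span F {a, u}
      · obtain ⟨r, s, hrs⟩ := Submodule.mem_span_pair.1 hmem
        have hs : s = 0 := by
          have hq' : R a₀ = s * s * R u := by
            rw [← hrs, quad_add', quad_smul', quad_smul', polar_smul_l', polar_smul_r', ha,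
              polar_comm _ a u, hua]
            ring
          rw [ha₀, eq_comm] at hq'
          exact mul_self_eq_zero.1 ((mul_eq_zero.1 hq').resolve_right hu)
        rw [hs, zero_smul, add_zero] at hrs
        have hr : r = 1 := two_eq_one hq (by
          rintro rfl
          rw [zero_smul] at hrs
          rw [← hrs, polar_zero_left] at hwa₀
          exact hwa₀ rfl)
        rw [hr, one_smul] at hrs
        rwa [hrs]
      · exact step' a ha hua a₀ ha₀U hpol hua₀ hmem
    · exact step a ha hua a₀ ha₀U hpol
  intro z hz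
  obtain ⟨a, b, c, ha, hb, hc, hua, hub, huc, r, s, rfl⟩ := span z hz
  exact A.ann_add (A.ann_add (by simpa using all c hc huc 1) (all a ha hua r)) (all b hb hub s)

/-- The annihilator is everything, or lies in a line. -/
theorem all_or_line_two (hq : Fintype.card F = 2) (hk : ∀ v, R v ≠ 0 → (A.above v).card < 4)
    (hu : R u ≠ 0) (huU : u ∈ A.ann ω) :
    (∀ w, w ∈ A.ann ω) ∨ ∀ w, w ∈ A.ann ω → ∃ t : F, w = t • u := by
  rcases A.dichotomy_two hq hu huU (hk u hu) with h | h
  · exact Or.inr h
  refine Or.inl fun w => ?_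
  obtain ⟨a, b, ha, hb, hab, hua, hub⟩ := A.S.exists_pair_perp hu
  set v := a + b
  have huv : polar R u v = 0 := by simp only [v, polar_add_right, hua, hub, add_zero]
  have hRv : R v ≠ 0 := by simp [v, quad_add', ha, hb, hab]
  have hv : v ∈ A.ann ω := h v huv
  have hv' : ∀ x, polar R v x = 0 → x ∈ A.ann ω := by
    rcases A.dichotomy_two hq hRv hv (hk v hRv) with h' | h'
    · exfalso
      obtain ⟨t, ht⟩ := h' a (h a hua)
      have hq' := congrArg R ht
      rw [ha, quad_smul', eq_comm] at hq'
      have ht0 : t = 0 := mul_self_eq_zero.1 ((mul_eq_zero.1 hq').resolve_right hRv)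
      rw [ht0, zero_smul] at ht
      rw [ht, polar_zero_left] at hab
      exact zero_ne_one hab
    · exact h'
  have hva : polar R v a = 1 := by
    simp [v, polar_add_left, polar_self', ha, polar_comm _ b a, hab]
  have key : w = (w - polar R v w • a) + polar R v w • a := by abel
  rw [key]
  exact A.ann_add (hv' _ (by rw [polar_sub_right, polar_smul_r', hva]; ring))
    (h _ (by rw [polar_smul_r', hua, mul_zero]))

theorem classify_two (hq : Fintype.card F = 2) (hk : ∀ v, R v ≠ 0 → (A.above v).card < 4)
    (h : (A.orb ω).card ≠ 1) : A.Reg ω ∨ A.Line ω ∨ A.Big ω := by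
  obtain ⟨v, hv, hv0⟩ : ∃ v ∈ A.ann ω, v ≠ 0 := by
    by_contra! hall
    apply h
    rw [← A.card_ann, Finset.card_eq_one]
    exact ⟨0, Finset.eq_singleton_iff_unique_mem.2 ⟨A.zero_mem ω, hall⟩⟩
  by_cases hns : ∃ x ∈ A.ann ω, R x ≠ 0
  · obtain ⟨x, hx, hRx⟩ := hns
    rcases A.all_or_line_two hq hk hRx hx with h1 | h1
    · exact Or.inl h1
    · exact Or.inr (Or.inl ⟨x, fun e => hRx (by simp [e]), hx, h1⟩)
  push Not at hns
  by_cases hline : ∀ w ∈ A.ann ω, ∃ t : F, w = t • v
  · exact Or.inr (Or.inl ⟨v, hv0, hv, hline⟩)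
  push Not at hline
  obtain ⟨b, hb, hbv⟩ := hline
  refine Or.inr (Or.inr ⟨hns, v, b, hv, hb, ?_⟩)
  rw [LinearIndependent.pair_iff' hv0]
  exact fun t e => hbv t e.symm

/-- No singular annihilator outside the lines. -/
theorem no_big_two {m N k : ℕ} (H : TwoNum R m N k) (hcard : Fintype.card Ω < N) (ω₀ : Ω) :
    ¬ A.Big ω₀ := by
  classical
  intro hω₀
  set B := 2 * m
  have hm := H.hu
  have hle : ∀ ω, A.Big ω → (A.orb ω).card ≤ B := fun ω hω => by
    rw [← A.card_ann]
    have := (A.big_span hω H.hts).1
    rwa [H.hq, H.hk] at this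
  let rep : Finset Ω → Ω := fun O => if h : ∃ ω ∈ O, A.Big ω then h.choose else ω₀
  have hrep : ∀ O ∈ A.kind A.Big, rep O ∈ O ∧ A.Big (rep O) ∧ O = A.orb (rep O) := fun O hO => by
    have h := (A.mem_kind.1 hO).2
    simp only [rep, dif_pos h]
    exact ⟨h.choose_spec.1, h.choose_spec.2, A.of_mem_orbs (A.mem_kind.1 hO).1 h.choose_spec.1⟩
  have hpos : ∀ z ∈ pairs R, 1 ≤ (A.above2 A.Big z).card := fun z hz =>
    A.above2_pos A.Big (fun hn hα ω h => A.big_moves hn hα h) hω₀ hω₀ hz
  have h1 : (pairs R).card ≤ ∑ O ∈ A.kind A.Big, (A.pairsIn (rep O)).card := by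
    rw [← A.sum_above2 A.Big rep fun O hO => (hrep O hO).1]
    calc (pairs R).card = ∑ _z ∈ pairs R, 1 := Finset.card_eq_sum_ones _
      _ ≤ _ := Finset.sum_le_sum hpos
  have h2 : ∀ O ∈ A.kind A.Big, (A.pairsIn (rep O)).card * B ≤ (B - 1) * (B - 2) * O.card := by
    intro O hO
    obtain ⟨-, hb, hOe⟩ := hrep O hO
    have hb1 := hle _ hb
    rw [← hOe] at hb1
    have hsub : A.pairsIn (rep O) ⊆ ((A.ann (rep O)).erase 0).offDiag := by
      intro z hz
      simp only [pairsIn, mem_filter, mem_pairs] at hz
      obtain ⟨⟨-, -, -, hli⟩, hz1, hz2⟩ := hz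
      simp only [Finset.mem_offDiag, mem_erase]
      exact ⟨⟨by simpa using hli.ne_zero 0, hz1⟩, ⟨by simpa using hli.ne_zero 1, hz2⟩, fun e => by
        have := hli.injective (a₁ := 0) (a₂ := 1) (by simpa using e)
        exact absurd this (by decide)⟩
    have h3 := Finset.card_le_card hsub
    rw [Finset.offDiag_card, Finset.card_erase_of_mem (A.zero_mem _), A.card_ann, ← hOe] at h3
    refine le_trans (Nat.mul_le_mul_right _ h3) ?_
    obtain ⟨b, hb'⟩ : ∃ b, O.card = b + 1 := ⟨O.card - 1, by
      have : 0 < O.card := by rw [hOe]; exact Finset.card_pos.2 ⟨_, A.self_mem _⟩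
      omega⟩
    obtain ⟨C, hC⟩ : ∃ C, B = C + 2 := ⟨B - 2, by omega⟩
    rw [hb'] at hb1 ⊢
    rw [hC] at hb1 ⊢
    simp only [Nat.add_sub_cancel, show C + 2 - 1 = C + 1 by omega]
    obtain ⟨j, hj⟩ : ∃ j, C + 1 = b + j := ⟨C + 1 - b, by omega⟩
    rcases Nat.eq_zero_or_pos b with rfl | hbpos
    · simp
    obtain ⟨c, rfl⟩ : ∃ c, b = c + 1 := ⟨b - 1, by omega⟩
    have e : (c + 1) * (c + 1) - (c + 1) = (c + 1) * c := by
      rw [← Nat.mul_sub_one, Nat.add_sub_cancel]
    rw [e]
    have hC' : C = c + j := by omega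
    subst hC'
    nlinarith [Nat.mul_le_mul_left j (show 2 ≤ (c + 2) * (c + j + 2) by nlinarith)]
  have h3 := A.sum_kind_le A.Big
  have h4 : (pairs R).card * B ≤ (B - 1) * (B - 2) * Fintype.card Ω := by
    refine le_trans (Nat.mul_le_mul_right _ h1) ?_
    rw [Finset.sum_mul]
    refine (Finset.sum_le_sum h2).trans ?_
    rw [← Finset.mul_sum]
    exact Nat.mul_le_mul_left _ h3
  have h5 := H.hP.trans h4
  rw [mul_comm N] at h5
  have := Nat.le_of_mul_le_mul_left h5 (Nat.mul_pos (by omega) (by omega))
  omega

/-- One regular orbit and nothing else is impossible. -/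
theorem regular_only_two (hq : Fintype.card F = 2) {ω : Ω} (hreg : A.Reg ω)
    (hrest : ∀ ν : Ω, (A.orb ν).card ≠ 1 → ν ∈ A.orb ω) : False := by
  have h2 := two_zero hq
  have hneg := two_neg hq
  have hstab : ∀ ν ∈ A.orb ω, ∀ v, v ∈ A.stab ν → v = 0 := fun ν hν v hv => by
    refine eq_zero_of_polar A.S.nd fun y => ?_
    rw [polar_comm]
    exact A.polar_eq_zero_of hv fun c => (Reg.congr hν hreg) _
  have hnofix := A.no_fixed fun u hu0 _ ν hν => by
    by_contra h1
    exact hu0 (hstab ν (hrest ν h1) u hν)
  have hall : ∀ ν, ν ∈ A.orb ω := fun ν => hrest ν (hnofix ν)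
  have hsame : ∀ v v', A.π (A.S.x v) ω = A.π (A.S.x v') ω → v = v' := fun v v' e => by
    have h : -v + v' ∈ A.stab ω := by
      rw [mem_stab, A.pi_add, ← e, ← A.pi_add, neg_add_cancel, A.pi_zero]
    exact neg_add_eq_zero.1 (hstab ω (A.self_mem ω) _ h)
  obtain ⟨hp⟩ := A.S.hypW
  set a := hp.e₀
  set c := hp.e₁ + hp.f₁ with hcdef
  have hRc : R c = 1 := by simp [c, quad_add', hp.he₁, hp.hf₁, hp.h11]
  have hac : polar R a c = 0 := by simp [a, c, polar_add_right, hp.hee, hp.hef]
  have hfc : polar R hp.f₁ c = 1 := by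
    rw [hcdef, polar_add_right, hp.c11, polar_self', hp.hf₁, mul_zero, add_zero]
  have hfa : polar R hp.f₁ a = 0 := hp.cef
  obtain ⟨g, hg⟩ := A.S.exists_sgl (d := a) (c := c) hp.he₀ hac
  have hgg : g * g = 1 := by
    refine Subtype.ext ((hg.mul hg).unique ?_)
    rw [add_self_two hq]
    exact isSiegel_one hp.he₀
  have hmove : ∀ (s : ↥(commutator (orthGroup R))) v v',
      A.π (embG R s) ω = A.π (A.S.x v') ω →
      A.π (embG R s) (A.π (A.S.x v) ω) = A.π (A.S.x (s.1.1 v + v')) ω := fun s v v' e => by
    rw [A.pi_add, ← e, ← A.pi_moves (A.S.moves_emb s), one_smul]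
  obtain ⟨v, hv⟩ := A.mem_orb.1 (hall (A.π (embG R g) ω))
  have hσv : g.1.1 v + v = 0 := by
    refine hsame _ 0 ?_
    rw [A.pi_zero, ← hmove g v v hv.symm, hv, ← Equiv.Perm.mul_apply, ← map_mul, ← map_mul, hgg,
      map_one, map_one, Equiv.Perm.one_apply]
  have hdelta : ∀ y, g.1.1 y = y + (polar R a y • c + (polar R c y + polar R a y) • a) := fun y => by
    rw [hg.2.2, hRc, one_mul, sub_eq_add_neg, hneg, hneg, add_assoc]
  have hδv : polar R a v • c + (polar R c v + polar R a v) • a = 0 := by
    have h := hdelta v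
    rw [eq_neg_of_add_eq_zero_left hσv, neg_two hq] at h
    simpa using h.symm
  have hav : polar R a v = 0 := by
    have := congrArg (polar R hp.f₁) hδv
    rw [polar_add_right, polar_smul_r', polar_smul_r', hfc, hfa, polar_zero_right] at this
    linear_combination this
  have hcv : polar R c v = 0 := by
    rw [hav, zero_smul, zero_add, add_zero, smul_eq_zero] at hδv
    exact hδv.resolve_right hp.e₀_ne_zero
  have hperp : ∀ p, R p = 0 → polar R a p = 0 → polar R c p = 0 →
      p ∉ Submodule.span F {a} → polar R p v = 0 := by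
    intro p hp0 hap hcp hpa
    obtain ⟨s, hs⟩ := A.S.exists_sgl hp0 (show polar R p c = 0 by rw [polar_comm]; exact hcp)
    have hsa : s.1.1 a = a := siegel_fix hs (by rw [polar_comm]; exact hap) (by rw [polar_comm]; exact hac)
    have hsc : s.1.1 c = c := siegel_fix hs (by rw [polar_comm]; exact hcp) (by rw [polar_self', hRc, h2, zero_mul])
    have hcomm : g * s = s * g := by
      have h := hg.conj s.1
      rw [hsa, hsc] at h
      have e : s * g * s⁻¹ = g := Subtype.ext (h.unique hg)
      calc g * s = s * g * s⁻¹ * s := by rw [e]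
        _ = s * g := by group
    obtain ⟨y, hy⟩ := A.mem_orb.1 (hall (A.π (embG R s) ω))
    have e := congrArg (fun z => A.π (embG R z) ω) hcomm
    simp only [map_mul, Equiv.Perm.mul_apply] at e
    rw [← hy, ← hv, hmove g y v hv.symm, hmove s v y hy.symm] at e
    have e' := hsame _ _ e
    have hsd : s.1.1 v = v + (polar R p v • c + (polar R c v + polar R p v) • p) := by
      rw [hs.2.2, hRc, one_mul, sub_eq_add_neg, hneg, hneg, add_assoc]
    rw [hdelta, hsd, hcv, zero_add] at e'
    by_contra hne
    rw [two_eq_one hq hne, one_smul, one_smul] at e'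
    have hp' : p = (polar R a y - 1) • c + (polar R c y + polar R a y) • a := by
      rw [sub_smul, one_smul]
      linear_combination (norm := module) -e'
    have hy1 := congrArg R hp'
    rw [hp0, quad_add', quad_smul', quad_smul', polar_smul_l', polar_smul_r', polar_comm _ c a, hac,
      hp.he₀, hRc] at hy1
    have hy2 : polar R a y - 1 = 0 := mul_self_eq_zero.1 (by linear_combination -hy1)
    rw [hy2, zero_smul, zero_add] at hp'
    exact hpa (hp' ▸ Submodule.smul_mem _ _ (Submodule.mem_span_singleton_self a))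
  have hvs : v ∈ Submodule.span F {a, c} := by
    by_contra hnot
    obtain ⟨z, hz, hz1⟩ := exists_polar_one A.S.nd hnot
    have hza : polar R z a = 0 := hz a (Submodule.subset_span (by simp))
    have hzc : polar R z c = 0 := hz c (Submodule.subset_span (by simp))
    set p := z + R z • c with hpdef
    have e0 : R p = 0 := by
      rw [hpdef, quad_add', quad_smul', polar_smul_r', hzc, hRc, mul_one, two_mul_self hq]
      linear_combination R z * h2
    have e1 : polar R a p = 0 := by
      rw [hpdef, polar_add_right, polar_smul_r', hac, polar_comm _ a z, hza]; ring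
    have e2 : polar R c p = 0 := by
      rw [hpdef, polar_add_right, polar_smul_r', polar_self', hRc, polar_comm _ c z, hzc, h2]; ring
    have e3 : polar R p v = 1 := by
      rw [hpdef, polar_add_left, polar_smul_l', hz1, hcv]; ring
    by_cases hpa : p ∈ Submodule.span F {a}
    · obtain ⟨t, ht⟩ := Submodule.mem_span_singleton.1 hpa
      rw [← ht, polar_smul_l', hav, mul_zero] at e3
      exact zero_ne_one e3
    · rw [hperp p e0 e1 e2 hpa] at e3
      exact zero_ne_one e3
  obtain ⟨α, β, hαβ⟩ := Submodule.mem_span_pair.1 hvs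
  set w := β • hp.f₀ + (α + β) • hp.e₁ with hwdef
  have haw : polar R a w = β := by
    rw [hwdef, polar_add_right, polar_smul_r', polar_smul_r', hp.h00, hp.hee]; ring
  have hcw : polar R c w = α + β := by
    rw [hwdef, hcdef, polar_add_left, polar_add_right, polar_add_right, polar_smul_r', polar_smul_r',
      polar_smul_r', polar_smul_r', polar_self', hp.he₁, polar_comm _ hp.e₁ hp.f₀, hp.hfe, hp.c11,
      polar_comm _ hp.f₁ hp.f₀, hp.hff]
    ring
  have hfix : A.π (embG R g) (A.π (A.S.x w) ω) = A.π (A.S.x w) ω := by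
    rw [hmove g w v hv.symm]
    have e : g.1.1 w + v = w := by
      rw [hdelta, haw, hcw, ← hαβ]
      match_scalars <;>
        first
          | linear_combination (0 : F) * h2
          | linear_combination β * h2
          | linear_combination (α + β) * h2
    rw [e]
  have h0 : A.fx (A.S.x c) = 0 := by
    rw [fx, Finset.card_eq_zero, Finset.filter_eq_empty_iff]
    intro ν _ hν
    have hc0 : c = 0 := hstab ν (hall ν) c hν
    rw [hc0, QuadraticMap.map_zero] at hRc
    exact zero_ne_one hRc
  have := A.fx_siegel hp.e₀_ne_zero hg (by rw [hRc]; exact one_ne_zero)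
  rw [h0, fx, Finset.card_eq_zero, Finset.filter_eq_empty_iff] at this
  exact this (mem_univ _) hfix

/-- Every non-trivial action over two elements has at least `N` points. -/
theorem false_of_small_two (A : Act R Ω) {m N k : ℕ} (H : TwoNum R m N k)
    (hcard : Fintype.card Ω < N) : False := by
  have hk : ∀ v, R v ≠ 0 → (A.above v).card < 4 := fun v => A.above_two H hcard
  have hm := H.hu
  have hN := H.hN
  have hS := H.hS
  have hW := H.hW
  by_cases hreg : ∃ ω, A.Reg ω
  swap
  · push Not at hreg
    exact A.lines_only fun ν hν =>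
      ((A.classify_two H.hq hk hν).resolve_left (hreg ν)).resolve_right (A.no_big_two H hcard ν)
  obtain ⟨ω, hω⟩ := hreg
  have hX := A.card_reg hω
  have hle := A.sum_kind_le A.Reg
  refine A.regular_only_two H.hq hω fun ν hν => ?_
  rcases A.classify_two H.hq hk hν with h | h | h
  · by_contra hmem
    have hne : A.orb ν ≠ A.orb ω := fun e => hmem (e ▸ A.self_mem ν)
    have h3 := Finset.sum_le_sum_of_subset (f := Finset.card) (s := ({A.orb ν, A.orb ω} : Finset (Finset Ω)))
      (t := A.kind A.Reg) (by
        intro O hO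
        rw [mem_insert, mem_singleton] at hO
        rcases hO with rfl | rfl
        · exact A.mem_kind.2 ⟨A.orb_mem ν, ν, A.self_mem ν, h⟩
        · exact A.mem_kind.2 ⟨A.orb_mem ω, ω, A.self_mem ω, hω⟩)
    rw [Finset.sum_pair hne, A.card_reg h, hX] at h3
    omega
  · exfalso
    have h2 := A.sum_two_kinds A.Reg A.Line fun a b hb ha hb' => A.reg_not_line (Reg.congr hb ha) hb'
    have h1 : A.orb ω ∈ A.kind A.Reg := A.mem_kind.2 ⟨A.orb_mem ω, ω, A.self_mem ω, hω⟩
    have h1' := Finset.single_le_sum (f := Finset.card) (fun _ _ => Nat.zero_le _) h1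
    rw [hX] at h1'
    obtain ⟨v, hv0, hvν, -⟩ := id h
    have huu : 4 * m ≤ m * m := Nat.mul_le_mul_right _ hm
    by_cases hv : R v = 0
    · have := A.sing_cover hv hv0 h hvν
      rw [H.hq] at this
      omega
    · have := A.cls_cover hv h hvν
      have := H.hM v hv
      rw [H.hq] at *
      omega
  · exact absurd h (A.no_big_two H hcard ν)

end Act

end CfsgLib.KnownA.MinIndexOrth
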