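import Cfsg.Agent.Lib.KnownA.MinIndexOrth.SmallTwo
import Cfsg.Agent.Lib.KnownA.MinIndexOrth.Numerics
import Cfsg.Agent.Lib.KnownA.MinIndexOrth.Bound

/-!
# Minimal index of `Ω⁺` over the field with two elements: numbers, bound and attainment
-/

set_option autoImplicit false
set_option linter.unusedSectionVars false

open Module QuadraticMap MulAction CfsgLib.Orth CfsgLib.Classical Finset

namespace CfsgLib.KnownA.MinIndexOrth

section Numbers

variable {F : Type*} [Field F] [Fintype F]

theorem num_plus_two (hF : Fintype.card F = 2) (k : ℕ) (hk : 3 ≤ k)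
    [Fintype (Fin k ⊕ Fin k → F)] [DecidableEq (Fin k ⊕ Fin k → F)] :
    ∃ u N, TwoNum (plusForm F k) u N k ∧ N = 2 ^ k * (2 ^ (k + 1) - 1) := by
  set u := 2 ^ (k - 1) with hu
  have hqk : 2 ^ k = 2 * u := by rw [hu, ← pow_succ']; congr 1; omega
  have hu4 : 4 ≤ u := by
    rw [hu, show 4 = 2 ^ 2 from rfl]
    exact Nat.pow_le_pow_right (by omega) (by omega)
  clear_value u
  have hR := plusForm_nondeg (F := F) k
  have hdim : finrank F (Fin k ⊕ Fin k → F) = 2 * k := by simp; omega
  have hX : Fintype.card (Fin k ⊕ Fin k → F) = 4 * (u * u) := by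
    rw [← Nat.card_eq_fintype_card, Module.natCard_eq_pow_finrank (K := F), Nat.card_eq_fintype_card, hF, hdim,
      two_mul, pow_add, hqk]
    ring
  have hd2 : Fintype.card F ^ (finrank F (Fin k ⊕ Fin k → F) - 2) = u * u := by
    rw [hF, hdim, show 2 * k - 2 = 2 * (k - 1) by omega]
    refine Nat.eq_of_mul_eq_mul_left (show 0 < 4 by omega) ?_
    calc 4 * 2 ^ (2 * (k - 1)) = 2 ^ k * 2 ^ k := by
          rw [show 4 = 2 ^ 2 from rfl, ← pow_add, ← pow_add]; congr 1; omega
      _ = 4 * (u * u) := by rw [hqk]; ring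
  have hz : zeroCount (plusForm F k) = 2 * (u * u) + u := by
    have h := zeroCount_plus hF k
    have h2k : ((2 : ℤ) ^ k) = 2 * u := by exact_mod_cast hqk
    push_cast at h
    rw [two_mul k, pow_add, h2k] at h
    zify
    linarith
  have : Finite (Fin k ⊕ Fin k → F) := inferInstance
  refine ⟨u, 2 ^ k * (2 ^ (k + 1) - 1), ⟨hF, hu4, hX, ?_, ?_, ?_, ?_, hqk, ?_⟩, rfl⟩
  · rw [card_sing, hz]; omega
  · intro v hv
    haveI : CharP F 2 := by
      obtain ⟨p, hc⟩ := CharP.exists F
      obtain ⟨n, hp, hn⟩ := FiniteField.card F p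
      rw [hF] at hn
      have : p ∣ 2 := hn ▸ dvd_pow_self p n.ne_zero
      rwa [← (Nat.prime_dvd_prime_iff_eq hp Nat.prime_two).1 this]
    rw [card_cls_two hv, hX, hz]
    have := Nat.mul_le_mul_right u hu4
    omega
  · rw [pow_succ, hqk, Nat.mul_sub, mul_one]
    have e : 2 * u * (2 * u * 2) = 8 * (u * u) := by ring
    have := Nat.mul_le_mul_right u hu4
    omega
  · intro T hT
    have := singular_finrank_le hR T hT
    omega
  · have hpairs := card_pairs hR (show 2 ≤ finrank F (Fin k ⊕ Fin k → F) by omega)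
    rw [hd2, hF, hz] at hpairs
    rw [hpairs, pow_succ, hqk]
    have huu := Nat.mul_le_mul_right u hu4
    zify [show 1 ≤ 2 * u * 2 by omega, show 1 ≤ 2 * u by omega, show 2 ≤ 2 * u by omega,
      show 1 ≤ 2 * (u * u) + u by omega, show (2 - 1) * (u * u) ≤ 2 * (u * u) + u by omega,
      show 2 ≤ 2 * (u * u) + u - (2 - 1) * (u * u) by omega, show 1 ≤ 2 by omega]
    have h4 : (4 : ℤ) ≤ u := by exact_mod_cast hu4
    nlinarith [mul_nonneg (mul_nonneg (show (0 : ℤ) ≤ 2 * u - 1 by linarith) (show (0 : ℤ) ≤ 2 * u by linarith))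
      (mul_nonneg (show (0 : ℤ) ≤ u - 1 by linarith)
        (mul_nonneg (show (0 : ℤ) ≤ u - 1 by linarith) (show (0 : ℤ) ≤ u - 4 by linarith)))]

end Numbers

variable {F W : Type*} [Field F] [Fintype F] [AddCommGroup W] [Module F W] [FiniteDimensional F W]
  [Fintype W] [DecidableEq W] {R : QuadraticForm F W}

/-- Proper subgroups of `Ω` have index at least `N` over two elements. -/
theorem Setup.index_ge_two (S : Setup R) {u N k : ℕ} (H : TwoNum R u N k)
    (K : Subgroup (Om R)) (hK : K ≠ ⊤) : N ≤ K.index := by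
  classical
  by_contra! hlt
  have : Finite (Om R) := inferInstance
  have := Fintype.ofFinite (Om R ⧸ K)
  obtain ⟨χ, hχ⟩ := AddChar.exists_apply_ne_zero.2 (one_ne_zero : (1 : F) ≠ 0)
  let A : Act R (Om R ⧸ K) :=
    { S := S
      π := MulAction.toPermHom _ _
      χ := χ
      hχ := hχ
      trans := fun a b => MulAction.exists_smul_eq (Om R) a b
      two := by
        obtain ⟨g, hg⟩ : ∃ g, g ∉ K := by
          by_contra! h
          exact hK (eq_top_iff.2 fun g _ => h g)
        exact ⟨(g : Om R ⧸ K), ((1 : Om R) : Om R ⧸ K), fun e => hg (by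
          simpa using K.inv_mem (QuotientGroup.eq.1 e))⟩ }
  refine A.false_of_small_two H ?_
  rwa [← Nat.card_eq_fintype_card]

/-- A point stabiliser on non-singular vectors over two elements. -/
theorem Setup.exists_index_two (S : Setup R) (hq : Fintype.card F = 2) : ∃ K : Subgroup (Om R),
    Subgroup.center (Om R) ≤ K ∧
      K.index + zeroCount (plusPlane R) = Nat.card (W × (F × F)) := by
  classical
  let φ : Om R →* Equiv.Perm (W × (F × F)) :=
    { toFun := fun g => g.1.1.toEquiv
      map_one' := rfl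
      map_mul' := fun g h => rfl }
  letI : MulAction (Om R) (W × (F × F)) := MulAction.compHom _ φ
  have hsmul : ∀ (g : Om R) v, g • v = g.1.1 v := fun g v => rfl
  set v₀ : W × (F × F) := ee + ff
  have hv₀ : plusPlane R v₀ = 1 := by simp [v₀, plusPlane_apply, ee, ff]
  refine ⟨MulAction.stabilizer (Om R) v₀, fun z hz => ?_, ?_⟩
  · rw [MulAction.mem_stabilizer_iff, hsmul]
    obtain ⟨c, hc⟩ := S.center_ee hz
    have hc1 : c = 1 := two_eq_one hq fun h => by
      rw [h, zero_smul, ← map_zero z.1.1] at hc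
      have := z.1.1.injective hc
      simp [ee, Prod.ext_iff] at this
    rw [hc1, one_smul] at hc
    obtain ⟨g, hg, he⟩ := exists_sing_move S.ndV S.goodV S.five' S.hypV.some
      (a := ee) (b := ff) (q_ee R) (by simp [ee]) (q_ff R) (by simp [ff])
    have h := congrArg (fun y : Om R => y.1.1 (ee : W × (F × F))) (Subgroup.mem_center_iff.1 hz ⟨g, hg⟩)
    change g.1 (z.1.1 ee) = z.1.1 (g.1 ee) at h
    rw [hc, he] at h
    show z.1.1 (ee + ff) = ee + ff
    rw [map_add, hc, ← h]
  · rw [MulAction.index_stabilizer]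
    have horb : MulAction.orbit (Om R) v₀ = {v : W × (F × F) | plusPlane R v ≠ 0} := by
      ext v
      simp only [MulAction.mem_orbit_iff, Set.mem_setOf_eq, hsmul]
      constructor
      · rintro ⟨g, rfl⟩
        rw [apply_quad, hv₀]
        exact one_ne_zero
      · intro hv
        obtain ⟨g, hg, he⟩ := exists_sphere_move S.ndV S.goodV S.five' S.hypV.some (a := v₀) (b := v)
          (by rw [hv₀]; exact one_ne_zero) (by rw [hv₀, two_eq_one hq hv])
        exact ⟨⟨g, hg⟩, he⟩
    rw [horb, zeroCount]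
    have h2 : {v : W × (F × F) | plusPlane R v ≠ 0} = {v | plusPlane R v = 0}ᶜ := by ext; simp
    change Set.ncard _ + Nat.card {v : W × (F × F) | plusPlane R v = 0} = _
    rw [h2, Nat.card_coe_set_eq, add_comm, Set.ncard_add_ncard_compl]

section Model

variable {ι : Type} [Fintype ι] [DecidableEq ι] {Qf : (ι → F) → F} (Q : QuadraticForm F (ι → F))
  (hQf : ∀ v, Qf v = Q v) (e : (ι → F) ≃ₗ[F] W × (F × F)) (he : ∀ v, plusPlane R (e v) = Q v)

include hQf e he in
/-- The bound and its attainment in `PΩ` over two elements. -/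
theorem pomega_min_index_two (hR : (QuadraticMap.polarBilin R).Nondegenerate) (h5 : 5 ≤ finrank F W)
    {u N k : ℕ} (H : TwoNum R u N k) (hz : zeroCount R = 2 * (u * u) + u) :
    (∀ K : Subgroup (Cfsg.POmega F Qf), K ≠ ⊤ → N ≤ K.index) ∧
      ∃ K : Subgroup (Cfsg.POmega F Qf), K.index = N := by
  obtain ⟨Φ⟩ := omega_model Q hQf e he
  have S : Setup R := ⟨hR, h5⟩
  let π : Om R →* Cfsg.POmega F Qf := (QuotientGroup.mk' _).comp Φ.symm.toMonoidHom
  have hπ : Function.Surjective π := (QuotientGroup.mk'_surjective _).comp Φ.symm.surjective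
  constructor
  · intro K hK
    rw [← Subgroup.index_comap_of_surjective K hπ]
    exact S.index_ge_two H _ fun h => hK (Subgroup.comap_injective hπ (by rw [h, Subgroup.comap_top]))
  · obtain ⟨K, hZ, hK⟩ := S.exists_index_two H.hq
    refine ⟨K.map π, ?_⟩
    rw [Subgroup.index_map_eq K hπ (fun x hx => hZ ?_)]
    · rw [zeroCount_plusPlane, hz, Nat.card_prod, Nat.card_prod, Nat.card_eq_fintype_card (α := W),
        Nat.card_eq_fintype_card (α := F), H.hW, H.hq] at hK
      have := H.hN
      omega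
    have hx' : Φ.symm x ∈ Subgroup.center ↥(Cfsg.Omega F Qf) := (QuotientGroup.eq_one_iff _).1 hx
    refine Subgroup.mem_center_iff.2 fun g => Φ.symm.injective ?_
    rw [map_mul, map_mul]
    exact Subgroup.mem_center_iff.1 hx' _

end Model

end CfsgLib.KnownA.MinIndexOrth
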